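import Cfsg.Agent.MinIndexForm.Sp.Points

/-!
A proper subgroup containing a full transvection group fixes a totally isotropic subspace or permutes an
orthogonal family of non-degenerate subspaces; its index is at least the number of points.
-/

set_option autoImplicit false

namespace Cfsg.Agent.MinIndexForm.Sp

open Cfsg.Agent.Classical Module

universe uF uV
variable {F : Type uF} {V : Type uV} [Field F] [AddCommGroup V] [Module F V] {B : LinearMap.BilinForm F V}

/-- The centres of the transvection groups inside the subgroup. -/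
def dset (hA : B.IsAlt) (H : Subgroup (Alt.isoGroup B)) : Set V := {v | ∀ c : F, Alt.tvE hA v c ∈ H}

theorem dset_map (hA : B.IsAlt) {H : Subgroup (Alt.isoGroup B)} {g : Alt.isoGroup B} (hg : g ∈ H) {v : V}
    (hv : v ∈ dset hA H) : g.1 v ∈ dset hA H := fun c => by
  rw [← Alt.conj_tvE]; exact mul_mem (mul_mem hg (hv c)) (inv_mem hg)

theorem dset_smul (hA : B.IsAlt) {H : Subgroup (Alt.isoGroup B)} (a : F) {v : V} (hv : v ∈ dset hA H) :
    a • v ∈ dset hA H := fun c => by rw [Alt.tvE_smul]; exact hv _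

theorem dset_plane (hA : B.IsAlt) {H : Subgroup (Alt.isoGroup B)} {v w : V} (hv : v ∈ dset hA H)
    (hw : w ∈ dset hA H) (h : B w v ≠ 0) (a b : F) : a • v + b • w ∈ dset hA H := by
  by_cases hb : b = 0
  · subst hb; simpa using dset_smul hA a hv
  have h1 : (Alt.tvE hA v (a / b / B w v)).1 w = w + (a / b) • v := by
    simp [Alt.tvE, Alt.tv_apply, h]
  have h2 := dset_smul hA b (h1 ▸ dset_map hA (hv (a / b / B w v)) hw)
  rwa [smul_add, smul_smul, mul_div_cancel₀ _ hb, add_comm] at h2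

theorem exists_scalar [Finite F] (hq : 3 ≤ Nat.card F) (r : F) : ∃ g : F, g ≠ 0 ∧ g ≠ r := by
  by_contra hc
  push Not at hc
  have hle : Nat.card F ≤ ({0, r} : Set F).ncard := by
    rw [← Set.ncard_univ]
    exact Set.ncard_le_ncard (fun g _ => by
      rcases eq_or_ne g 0 with h | h
      · exact Or.inl h
      · exact Or.inr (hc g h)) (Set.toFinite _)
  have := (Set.ncard_insert_le (0 : F) {r}).trans (by rw [Set.ncard_singleton])
  omega

section Enlarge

variable (hA : B.IsAlt) {H : Subgroup (Alt.isoGroup B)} {U : Submodule F V}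

theorem orbit_on_block [FiniteDimensional F V] (hUnd : Alt.NDon B U) (hUD : ∀ u ∈ U, u ∈ dset hA H) {a b : V}
    (ha : a ∈ U) (ha0 : a ≠ 0) (hb : ∀ u ∈ U, B b u = 0) (hab : a + b ∈ dset hA H) {a' : V} (ha' : a' ∈ U)
    (ha'0 : a' ≠ 0) : a' + b ∈ dset hA H := by
  obtain ⟨t, ht, hta⟩ := Alt.exists_map_vector hA hUnd ha ha' ha0 ha'0
  have hmem : ∀ s ∈ Alt.TG B U, ∃ hs : s ∈ Alt.isoGroup B, (⟨s, hs⟩ : Alt.isoGroup B) ∈ H := by
    intro s hs
    induction hs using Subgroup.closure_induction with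
    | mem s h =>
      obtain ⟨w, hw, c, hs⟩ := h
      have e : s = (Alt.tvE hA w c).1 := LinearEquiv.ext fun x => hs x
      subst e
      exact ⟨(Alt.tvE hA w c).2, hUD w hw c⟩
    | one => exact ⟨one_mem _, H.one_mem⟩
    | mul x z _ _ hx hz => exact ⟨mul_mem hx.1 hz.1, H.mul_mem hx.2 hz.2⟩
    | inv x _ hx => exact ⟨inv_mem hx.1, H.inv_mem hx.2⟩
  obtain ⟨hs, htH⟩ := hmem t ht
  have := dset_map hA htH hab
  rwa [map_add, show t a = a' from hta, show t b = b from Alt.TG_fix ht hb] at this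

variable [Finite F] [FiniteDimensional F V]

theorem false_of_pair (hq : 3 ≤ Nat.card F) (hUnd : Alt.NDon B U) (hU0 : U ≠ ⊥)
    (hUD : ∀ u ∈ U, u ∈ dset hA H)
    (hmax : ∀ U' : Submodule F V, Alt.NDon B U' → (∀ u ∈ U', u ∈ dset hA H) → finrank F U' ≤ finrank F U)
    {b b' : V} (hb : ∀ u ∈ U, B b u = 0) (hb' : ∀ u ∈ U, B b' u = 0) (hbb : B b b' ≠ 0)
    (hab : ∀ a ∈ U, a ≠ 0 → a + b ∈ dset hA H) (hab' : ∀ a ∈ U, a ≠ 0 → a + b' ∈ dset hA H) : False := by
  have hub : ∀ u ∈ U, B u b = 0 := fun u hu => by rw [Alt.neg' hA b u, hb u hu, neg_zero]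
  have hub' : ∀ u ∈ U, B u b' = 0 := fun u hu => by rw [Alt.neg' hA b' u, hb' u hu, neg_zero]
  obtain ⟨a0, ha0, ha00⟩ := U.exists_mem_ne_zero_of_ne_bot hU0
  have hboth : ∀ x ∈ U, ∀ α β : F, α ≠ 0 → β ≠ 0 → x + α • b + β • b' ∈ dset hA H := by
    intro x hx α β hα hβ
    by_cases hx0 : x = 0
    · subst hx0
      have h1 := hab a0 ha0 ha00
      have h2 := hab' ((-(α / β)) • a0) (U.smul_mem _ ha0)
        (smul_ne_zero (neg_ne_zero.2 (div_ne_zero hα hβ)) ha00)
      have hB2 : B ((-(α / β)) • a0 + b') (a0 + b) ≠ 0 := by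
        simp only [map_add, map_smul, LinearMap.add_apply, LinearMap.smul_apply, hA a0, hub a0 ha0, hb' a0 ha0,
          smul_zero, zero_add]
        rw [Alt.neg' hA b b']; exact neg_ne_zero.2 hbb
      have h3 := dset_plane hA h1 h2 hB2 α β
      rw [smul_add, smul_add, smul_smul, mul_neg, mul_div_cancel₀ _ hβ, neg_smul] at h3
      rw [zero_add]
      convert h3 using 1; abel
    · obtain ⟨g, hg0, hg1⟩ := exists_scalar hq α⁻¹
      have hg2 : (1 - α * g) / β ≠ 0 := div_ne_zero (sub_ne_zero.2 fun h => hg1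
        (eq_inv_of_mul_eq_one_left (by rw [mul_comm]; exact h.symm))) hβ
      have h1 := hab (g • x) (U.smul_mem _ hx) (smul_ne_zero hg0 hx0)
      have h2 := hab' (((1 - α * g) / β) • x) (U.smul_mem _ hx) (smul_ne_zero hg2 hx0)
      have hB2 : B (((1 - α * g) / β) • x + b') (g • x + b) ≠ 0 := by
        simp only [map_add, map_smul, LinearMap.add_apply, LinearMap.smul_apply, hA x, hub x hx, hb' x hx,
          smul_zero, zero_add]
        rw [Alt.neg' hA b b']; exact neg_ne_zero.2 hbb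
      have h3 := dset_plane hA h1 h2 hB2 α β
      rw [smul_add, smul_add, smul_smul, smul_smul, mul_div_cancel₀ _ hβ] at h3
      convert h3 using 1
      rw [sub_smul, one_smul]; abel
  have hone : ∀ x ∈ U, x ≠ 0 → ∀ α : F, x + α • b ∈ dset hA H ∧ x + α • b' ∈ dset hA H := by
    intro x hx hx0 α
    by_cases hα : α = 0
    · subst hα; exact ⟨by simpa using hUD x hx, by simpa using hUD x hx⟩
    · refine ⟨?_, ?_⟩
      · have := dset_smul hA α (hab (α⁻¹ • x) (U.smul_mem _ hx) (smul_ne_zero (inv_ne_zero hα) hx0))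
        rwa [smul_add, smul_smul, mul_inv_cancel₀ hα, one_smul] at this
      · have := dset_smul hA α (hab' (α⁻¹ • x) (U.smul_mem _ hx) (smul_ne_zero (inv_ne_zero hα) hx0))
        rwa [smul_add, smul_smul, mul_inv_cancel₀ hα, one_smul] at this
  have hp1 := hboth a0 ha0 1 1 one_ne_zero one_ne_zero
  rw [one_smul, one_smul] at hp1
  have hbD : b ∈ dset hA H := by
    have hB1 : B (a0 + b + b') (a0 + b') ≠ 0 := by
      simp [hA a0, hA b', hub' a0 ha0, hb a0 ha0, hb' a0 ha0, hbb]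
    have h3 := dset_plane hA (hab' a0 ha0 ha00) hp1 hB1 (-1) 1
    convert h3 using 1; simp; abel
  have hbD' : b' ∈ dset hA H := by
    have hB1 : B (a0 + b + b') (a0 + b) ≠ 0 := by
      simp [hA a0, hA b, hub a0 ha0, hb a0 ha0, hb' a0 ha0]
      rw [Alt.neg' hA b b']; exact neg_ne_zero.2 hbb
    have h3 := dset_plane hA (hab a0 ha0 ha00) hp1 hB1 (-1) 1
    convert h3 using 1; simp; abel
  set U2 := U ⊔ Submodule.span F ({b, b'} : Set V) with hU2
  have hmem2 : ∀ z ∈ U2, ∃ x ∈ U, ∃ α β : F, z = x + α • b + β • b' := by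
    intro z hz
    obtain ⟨x, hx, r, hr, rfl⟩ := Submodule.mem_sup.1 hz
    obtain ⟨α, β, rfl⟩ := Submodule.mem_span_pair.1 hr
    exact ⟨x, hx, α, β, by rw [add_assoc]⟩
  have hD2 : ∀ z ∈ U2, z ∈ dset hA H := by
    intro z hz
    obtain ⟨x, hx, α, β, rfl⟩ := hmem2 z hz
    by_cases hα : α = 0 <;> by_cases hβ : β = 0
    · subst hα hβ; simpa using hUD x hx
    · subst hα
      rcases eq_or_ne x 0 with rfl | hx0
      · simpa using dset_smul hA β hbD'
      · simpa using (hone x hx hx0 β).2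
    · subst hβ
      rcases eq_or_ne x 0 with rfl | hx0
      · simpa using dset_smul hA α hbD
      · simpa using (hone x hx hx0 α).1
    · exact hboth x hx α β hα hβ
  have hbU2 : b ∈ U2 := Submodule.mem_sup_right (Submodule.subset_span (by simp))
  have hb'U2 : b' ∈ U2 := Submodule.mem_sup_right (Submodule.subset_span (by simp))
  have hnd2 : Alt.NDon B U2 := by
    intro z hz hz0
    obtain ⟨x, hx, α, β, rfl⟩ := hmem2 z hz
    by_cases hα : α ≠ 0
    · exact ⟨b', hb'U2, by simp [hub' x hx, hA b', hα, hbb]⟩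
    by_cases hβ : β ≠ 0
    · refine ⟨b, hbU2, ?_⟩
      simp [hub x hx, hA b]
      exact ⟨hβ, by rw [Alt.neg' hA b b']; exact neg_ne_zero.2 hbb⟩
    push Not at hα hβ
    subst hα hβ
    simp only [zero_smul, add_zero] at hz0 ⊢
    obtain ⟨u, hu, h⟩ := hUnd x hx hz0
    exact ⟨u, Submodule.mem_sup_left hu, h⟩
  have hlt : U < U2 := lt_of_le_of_ne le_sup_left fun e => hbb (by
    rw [Alt.neg' hA b' b, hb' b (e.symm ▸ hbU2), neg_zero])
  exact absurd (hmax U2 hnd2 hD2) (not_le.2 (Submodule.finrank_lt_finrank_of_lt hlt))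

end Enlarge

variable [Finite F] [FiniteDimensional F V]

theorem le_or_le_of_subset_union {X Y Z : Submodule F V} (h : ∀ x ∈ X, x ∈ Y ∨ x ∈ Z) : X ≤ Y ∨ X ≤ Z := by
  by_contra hc
  push Not at hc
  obtain ⟨⟨a, ha, hay⟩, b, hb, hbz⟩ := (show (∃ a ∈ X, a ∉ Y) ∧ ∃ b ∈ X, b ∉ Z from
    ⟨SetLike.not_le_iff_exists.1 hc.1, SetLike.not_le_iff_exists.1 hc.2⟩)
  rcases h (a + b) (X.add_mem ha hb) with h1 | h1
  · rcases h b hb with h2 | h2
    · exact hay (by simpa using Y.sub_mem h1 h2)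
    · exact hbz h2
  · rcases h a ha with h2 | h2
    · exact hay h2
    · exact hbz (by simpa using Z.sub_mem h1 h2)

theorem card_family (hA : B.IsAlt) (a : ℕ) (S : Finset (Submodule F V))
    (h1 : ∀ X ∈ S, finrank F X = a) (h2 : ∀ X ∈ S, Alt.NDon B X)
    (h3 : ∀ X ∈ S, ∀ Y ∈ S, X ≠ Y → ∀ x ∈ X, ∀ y ∈ Y, B x y = 0) : S.card * a ≤ finrank F V := by
  classical
  suffices ∀ T ⊆ S, finrank F (T.sup id : Submodule F V) = T.card * a by
    rw [← this S (subset_refl _)]; exact Submodule.finrank_le _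
  intro T
  induction T using Finset.induction with
  | empty => intro _; simp
  | insert X T hX ih =>
    intro hsub
    have hXS := hsub (Finset.mem_insert_self X T)
    have hdis : X ⊓ T.sup id = ⊥ := by
      rw [eq_bot_iff]
      intro x hx
      rw [Submodule.mem_bot]
      by_contra hx0
      obtain ⟨z, hz, hz'⟩ := h2 X hXS x hx.1 hx0
      apply hz'
      have : T.sup id ≤ LinearMap.ker (B.flip z) := Finset.sup_le fun Y hY y hy => by
        have hYS := hsub (Finset.mem_insert_of_mem hY)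
        have hne : Y ≠ X := fun e => hX (e ▸ hY)
        exact LinearMap.mem_ker.2 (h3 Y hYS X hXS hne y hy z hz)
      exact LinearMap.mem_ker.1 (this hx.2)
    rw [Finset.sup_insert, id, Finset.card_insert_of_notMem hX]
    have h := Submodule.finrank_sup_add_finrank_inf_eq X (T.sup id)
    rw [hdis, finrank_bot, add_zero, ih (fun Y hY => hsub (Finset.mem_insert_of_mem hY)), h1 X hXS] at h
    rw [h]; ring

theorem finrank_orth (hA : B.IsAlt) {U : Submodule F V} (hU : Alt.NDon B U) (hB : B.Nondegenerate) :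
    Alt.NDon B (B.orthogonal U) ∧ finrank F (B.orthogonal U) + finrank F U = finrank F V := by
  refine ⟨fun w hw hw0 => ?_, ?_⟩
  · obtain ⟨x, hx⟩ : ∃ x, B w x ≠ 0 := by
      by_contra h; push Not at h; exact hw0 (hB.1 w h)
    obtain ⟨u, hu, hu'⟩ := Alt.decomp hA hU x
    refine ⟨x - u, fun n hn => ?_, ?_⟩
    · show B n (x - u) = 0
      rw [Alt.neg' hA (x - u) n, hu' n hn, neg_zero]
    · have h0 : B u w = 0 := hw u hu
      rw [map_sub, Alt.neg' hA u w, h0, neg_zero, sub_zero]; exact hx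
  · rw [LinearMap.BilinForm.finrank_orthogonal hB U]
    have := Submodule.finrank_le U
    omega

theorem card_stab_le (hA : B.IsAlt) (hB : B.Nondegenerate) {U : Submodule F V} (hU : Alt.NDon B U) :
    Nat.card (stabS (B := B) U) ≤ Nat.card (Alt.TG B U) * Nat.card (Alt.TG B (B.orthogonal U)) := by
  have : Finite V := Module.finite_of_finite F
  have : Finite (V ≃ₗ[F] V) := Finite.of_injective (fun g : V ≃ₗ[F] V => (g : V → V)) DFunLike.coe_injective
  have key : ∀ g : stabS (B := B) U, ∃ x : Alt.TG B U × Alt.TG B (B.orthogonal U),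
      g.1.1 = x.1.1 * x.2.1 := fun g => by
    obtain ⟨t, ht, ht'⟩ := Alt.witt hA _ U rfl hU U le_rfl ((g.1.1 : V →ₗ[F] V).comp U.subtype)
      (g.1.1.injective.comp Subtype.val_injective) (fun x => stabS_maps g.2 x.2) (fun x x' => g.1.2 x x')
    refine ⟨(⟨t, ht⟩, ⟨t⁻¹ * g.1.1, ?_⟩), (mul_inv_cancel_left _ _).symm⟩
    refine Alt.mem_TG_of_fix hA hB (finrank_orth hA hU hB).1
      (mul_mem (inv_mem (Alt.TG_le_isoGroup hA U ht)) g.1.2) fun x hx => ?_
    have hxU : x ∈ U := by
      have h2 : x ∈ B.orthogonal (B.orthogonal U) := fun n hn => by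
        show B n x = 0
        rw [Alt.neg' hA x n, hx n hn, neg_zero]
      rwa [LinearMap.BilinForm.orthogonal_orthogonal hB hA.isRefl] at h2
    rw [LinearEquiv.mul_apply]
    have := ht' ⟨x, hxU⟩
    simp only [LinearMap.coe_comp, Submodule.coe_subtype, Function.comp_apply, LinearEquiv.coe_coe] at this
    rw [← this, Alt.inv_apply_self]
  choose f hf using key
  rw [← Nat.card_prod]
  exact Nat.card_le_card_of_injective f fun g g' h => Subtype.ext (Subtype.ext (by rw [hf, hf, h]))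

theorem prod_bound (Q b : ℕ) (hQ : 1 ≤ Q) : ∀ a, Q ^ (b * a) * ∏ i ∈ Finset.range a, (Q ^ (i + 1) - 1) ≤
    ∏ i ∈ Finset.range a, (Q ^ (b + i + 1) - 1) := by
  intro a
  induction a with
  | zero => simp
  | succ a ih =>
    rw [Finset.prod_range_succ, Finset.prod_range_succ, mul_add, mul_one, pow_add,
      show Q ^ (b * a) * Q ^ b * ((∏ i ∈ Finset.range a, (Q ^ (i + 1) - 1)) * (Q ^ (a + 1) - 1)) =
        (Q ^ (b * a) * ∏ i ∈ Finset.range a, (Q ^ (i + 1) - 1)) * (Q ^ b * (Q ^ (a + 1) - 1)) by ring]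
    refine Nat.mul_le_mul ih ?_
    rw [Nat.mul_sub, mul_one, ← pow_add, add_assoc]
    exact Nat.sub_le_sub_left (Nat.one_le_pow _ _ hQ) _

theorem card_bound (q a b : ℕ) (hq : 1 ≤ q) :
    q ^ (4 * (a * b)) * (q ^ (a ^ 2) * (∏ i ∈ Finset.range a, (q ^ (2 * (i + 1)) - 1)) *
      (q ^ (b ^ 2) * ∏ i ∈ Finset.range b, (q ^ (2 * (i + 1)) - 1))) ≤
    q ^ ((b + a) ^ 2) * ∏ i ∈ Finset.range (b + a), (q ^ (2 * (i + 1)) - 1) := by
  have h := prod_bound (q ^ 2) b (Nat.one_le_pow _ _ hq) a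
  simp only [← pow_mul] at h
  rw [Finset.prod_range_add]
  calc _ = q ^ ((b + a) ^ 2) * ((∏ i ∈ Finset.range b, (q ^ (2 * (i + 1)) - 1)) *
        (q ^ (2 * (b * a)) * ∏ i ∈ Finset.range a, (q ^ (2 * (i + 1)) - 1))) := by
        rw [show 4 * (a * b) = 2 * (a * b) + 2 * (b * a) by ring, pow_add,
          show (b + a) ^ 2 = 2 * (a * b) + a ^ 2 + b ^ 2 by ring, pow_add, pow_add]
        ring
    _ ≤ _ := by
        refine Nat.mul_le_mul_left _ (Nat.mul_le_mul_left _ (h.trans (le_of_eq ?_)))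
        exact Finset.prod_congr rfl fun i _ => by ring_nf

theorem pts_bound (q m a b : ℕ) (hq : 3 ≤ q) (hab : b + a = m + 1) (ha : 1 ≤ a) (hb : 1 ≤ b) :
    (m + 1) * pts q (2 * (m + 1)) ≤ q ^ (4 * (a * b)) := by
  have h1 : m ≤ a * b := by
    obtain ⟨a', rfl⟩ : ∃ a', a = a' + 1 := ⟨a - 1, by omega⟩
    obtain ⟨b', rfl⟩ : ∃ b', b = b' + 1 := ⟨b - 1, by omega⟩
    have e : (a' + 1) * (b' + 1) = a' * b' + (a' + b' + 1) := by ring
    omega
  refine le_trans ?_ (Nat.pow_le_pow_right (by omega) (Nat.mul_le_mul_left 4 h1))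
  have h2 := pts_mul q (2 * (m + 1)) (by omega)
  have h3 : 2 * pts q (2 * (m + 1)) ≤ q ^ (2 * (m + 1)) := by
    rw [← h2, mul_comm 2]
    exact le_trans (Nat.mul_le_mul_left _ (by omega)) (Nat.le_succ _)
  obtain ⟨j, rfl⟩ : ∃ j, m = j + 1 := ⟨m - 1, by omega⟩
  have h4 : j + 2 ≤ 2 * q ^ (2 * j) := by
    have h5 : j < 2 ^ j := Nat.lt_two_pow_self
    have h6 : 2 ^ j ≤ q ^ (2 * j) := le_trans (Nat.pow_le_pow_left (show 2 ≤ q by omega) j)
      (Nat.pow_le_pow_right (by omega) (by omega))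
    have h7 : 1 ≤ q ^ (2 * j) := Nat.one_le_pow _ _ (by omega)
    omega
  calc (j + 1 + 1) * pts q (2 * (j + 1 + 1)) ≤ 2 * q ^ (2 * j) * pts q (2 * (j + 1 + 1)) := by gcongr
    _ = q ^ (2 * j) * (2 * pts q (2 * (j + 1 + 1))) := by ring
    _ ≤ q ^ (2 * j) * q ^ (2 * (j + 1 + 1)) := by gcongr
    _ = _ := by rw [← pow_add]; congr 1; ring

/-- A proper subgroup containing a full transvection group has at least as many cosets as there are points. -/
theorem index_of_not_free (hA : B.IsAlt) (hB : B.Nondegenerate) (m : ℕ) (hd : finrank F V = 2 * (m + 1))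
    (hq : 3 ≤ Nat.card F) (hm : 1 ≤ m) (f : ℕ) (hf : 2 ≤ m → pts (Nat.card F) (m + 1) ≤ f)
    (hih : ∀ (σ : Fr B) (J : Subgroup (Alt.isoGroup σ.BW)), J ≠ ⊤ → 2 ≤ m → f ≤ J.index)
    {H : Subgroup (Alt.isoGroup B)} (hH : H ≠ ⊤) (hfree : ¬ Free hA H) :
    pts (Nat.card F) (2 * (m + 1)) ≤ H.index := by
  classical
  have : Finite V := Module.finite_of_finite F
  have : Finite (Alt.isoGroup B) := Fr.finite_iso B
  unfold Free at hfree
  push Not at hfree
  obtain ⟨v0, hv0, hv0D⟩ := hfree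
  set M := Submodule.span F (dset hA H) with hMdef
  have hMinv : ∀ g ∈ H, ∀ x ∈ M, g.1 x ∈ M := fun g hg x hx => by
    induction hx using Submodule.span_induction with
    | mem x hx => exact Submodule.subset_span (dset_map hA hg hx)
    | zero => simp
    | add x z _ _ hx hz => rw [map_add]; exact M.add_mem hx hz
    | smul a x _ hx => rw [map_smul]; exact M.smul_mem a hx
  by_cases hR : M ⊓ B.orthogonal M ≠ ⊥
  · refine index_ge_of_isotropic hA hB m hd hm f hf hih _ hR (fun x hx z hz => hz.2 x hx.1) ?_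
    intro g hg
    refine mem_stabS fun x hx => ⟨hMinv g hg x hx.1, fun n hn => ?_⟩
    show B n (g.1 x) = 0
    have h1 := g.2 ((g⁻¹).1 n) x
    rw [show g.1 ((g⁻¹).1 n) = n from Alt.apply_inv_self g.1 n] at h1
    rw [h1]
    exact hx.2 _ (hMinv _ (inv_mem hg) n hn)
  rw [not_not] at hR
  have horth0 : ∀ x ∈ M, (∀ d ∈ dset hA H, B d x = 0) → x = 0 := fun x hx h => by
    have : x ∈ M ⊓ B.orthogonal M := ⟨hx, fun n hn => by
      show B n x = 0
      induction hn using Submodule.span_induction with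
      | mem d hd => exact h d hd
      | zero => simp
      | add a b _ _ ha hb => rw [map_add, LinearMap.add_apply, ha, hb, add_zero]
      | smul a b _ hb => rw [map_smul, LinearMap.smul_apply, hb, smul_zero]⟩
    rwa [hR, Submodule.mem_bot] at this
  -- a maximal non-degenerate subspace inside the set of centres
  let cand : Set (Submodule F V) := {X | Alt.NDon B X ∧ ∀ u ∈ X, u ∈ dset hA H}
  have hcne : (⊥ : Submodule F V) ∈ cand := ⟨fun w hw hw0 => absurd ((Submodule.mem_bot F).1 hw) hw0,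
    fun u hu => by rw [(Submodule.mem_bot F).1 hu]; simpa using dset_smul hA (0 : F) hv0D⟩
  obtain ⟨U, ⟨hUnd, hUD⟩, hUmax⟩ := Set.exists_max_image cand (fun X => finrank F X) (Set.toFinite _) ⟨⊥, hcne⟩
  have hmax : ∀ U' : Submodule F V, Alt.NDon B U' → (∀ u ∈ U', u ∈ dset hA H) → finrank F U' ≤ finrank F U :=
    fun U' h1 h2 => hUmax U' ⟨h1, h2⟩
  have hU0 : U ≠ ⊥ := by
    obtain ⟨d, hd', hdv⟩ : ∃ d ∈ dset hA H, B d v0 ≠ 0 := by
      by_contra hc; push Not at hc
      exact hv0 (horth0 v0 (Submodule.subset_span hv0D) hc)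
    have hP : ∀ z ∈ Submodule.span F ({v0, d} : Set V), z ∈ dset hA H := fun z hz => by
      obtain ⟨a, b, rfl⟩ := Submodule.mem_span_pair.1 hz
      exact dset_plane hA hv0D hd' hdv a b
    have hPnd : Alt.NDon B (Submodule.span F ({v0, d} : Set V)) := fun z hz hz0 => by
      obtain ⟨a, b, rfl⟩ := Submodule.mem_span_pair.1 hz
      by_cases ha : a = 0
      · subst ha
        have hb0 : b ≠ 0 := fun h => hz0 (by simp [h])
        exact ⟨v0, Submodule.subset_span (by simp), by simp [hb0, hdv]⟩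
      · refine ⟨d, Submodule.subset_span (by simp), ?_⟩
        simp [hA d, ha, Alt.neg' hA d v0, hdv]
    intro h
    have := hmax _ hPnd hP
    rw [h, finrank_bot, Nat.le_zero, Submodule.finrank_eq_zero] at this
    exact hv0 ((Submodule.mem_bot F).1 (this ▸ Submodule.subset_span (by simp : v0 ∈ ({v0, d} : Set V))))
  -- the centres lie in the block or its orthogonal
  have hsplit : ∀ v ∈ dset hA H, v ∈ U ∨ v ∈ B.orthogonal U := by
    intro v hv
    obtain ⟨a, ha, hperp⟩ := Alt.decomp hA hUnd v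
    rcases eq_or_ne a 0 with rfl | ha0
    · exact Or.inr fun n hn => by
        show B n v = 0
        have := hperp n hn
        rw [sub_zero] at this
        rw [Alt.neg' hA v n, this, neg_zero]
    left
    by_contra hvU
    set b := v - a with hb
    have hb0 : b ≠ 0 := fun h => hvU (by rwa [sub_eq_zero.1 h])
    have hav : a + b = v := by rw [hb]; abel
    have hab : ∀ a' ∈ U, a' ≠ 0 → a' + b ∈ dset hA H := fun a' ha' ha'0 =>
      orbit_on_block hA hUnd hUD ha ha0 hperp (hav.symm ▸ hv) ha' ha'0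
    refine hb0 (horth0 b (hb ▸ M.sub_mem (Submodule.subset_span hv) (Submodule.subset_span (hUD a ha))) ?_)
    intro d hd'
    obtain ⟨a', ha', hperp'⟩ := Alt.decomp hA hUnd d
    set b' := d - a' with hb'
    have hd_eq : a' + b' = d := by rw [hb']; abel
    by_contra hbd
    have hbb : B b b' ≠ 0 := fun h0 => hbd (by
      rw [← hd_eq, map_add, LinearMap.add_apply, Alt.neg' hA b a', hperp a' ha', neg_zero, zero_add,
        Alt.neg' hA b b', h0, neg_zero])
    rcases eq_or_ne a' 0 with ha'0 | ha'0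
    · -- replace b' by b + b'
      have hb'D : b' ∈ dset hA H := by rw [← hd_eq, ha'0, zero_add] at hd'; exact hd'
      have hB1 : B (a + b) b' ≠ 0 := by
        rw [map_add, LinearMap.add_apply, Alt.neg' hA b' a, hperp' a ha, neg_zero, zero_add]; exact hbb
      have h3 := dset_plane hA hb'D (hav.symm ▸ hv) hB1 1 1
      rw [one_smul, one_smul] at h3
      refine false_of_pair hA hq hUnd hU0 hUD hmax (b := b) (b' := b' + b) hperp
        (fun u hu => by rw [map_add, LinearMap.add_apply, hperp' u hu, hperp u hu, add_zero])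
        (by rw [map_add, hA b, add_zero]; exact hbb) hab fun x hx hx0 => ?_
      refine orbit_on_block hA hUnd hUD ha ha0
        (fun u hu => by rw [map_add, LinearMap.add_apply, hperp' u hu, hperp u hu, add_zero]) ?_ hx hx0
      convert h3 using 1; abel
    · exact false_of_pair hA hq hUnd hU0 hUD hmax hperp hperp' hbb hab fun x hx hx0 =>
        orbit_on_block hA hUnd hUD ha' ha'0 hperp' (hd_eq.symm ▸ hd') hx hx0
  -- the block is proper
  have hUtop : U ≠ ⊤ := fun h => hH (Alt.eq_top_of_tvE hA hB H fun v c => hUD v (h ▸ Submodule.mem_top) c)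
  -- translates
  have hmove : ∀ g ∈ H, U.map (g.1 : V →ₗ[F] V) = U ∨ U.map (g.1 : V →ₗ[F] V) ≤ B.orthogonal U := fun g hg => by
    rcases le_or_le_of_subset_union (X := U.map (g.1 : V →ₗ[F] V)) (fun x hx => by
      obtain ⟨u, hu, rfl⟩ := hx
      exact hsplit _ (dset_map hA hg (hUD u hu))) with h | h
    · exact Or.inl (Submodule.eq_of_le_of_finrank_le h (le_of_eq (LinearEquiv.finrank_map_eq g.1 U).symm))
    · exact Or.inr h
  set S := stabS (B := B) U with hS
  obtain ⟨hUo, hdim⟩ := finrank_orth hA hUnd hB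
  obtain ⟨a, -, -, -, hUa⟩ := Alt.exists_sympBasis hA U hUnd
  obtain ⟨b, -, -, -, hUb⟩ := Alt.exists_sympBasis hA (B.orthogonal U) hUo
  have hba : b + a = m + 1 := by omega
  have ha1 : 1 ≤ a := by
    have : 0 < finrank F U := Nat.pos_of_ne_zero fun h => hU0 (Submodule.finrank_eq_zero.1 h)
    omega
  have hb1 : 1 ≤ b := by
    have : finrank F U < finrank F V := Submodule.finrank_lt hUtop
    omega
  -- the family of translates
  have : Fintype F := Fintype.ofFinite F
  have : Finite (Submodule F V) := inferInstance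
  set fam : Finset (Submodule F V) :=
    (Set.toFinite ((fun g : H => U.map (g.1.1 : V →ₗ[F] V)) '' Set.univ)).toFinset with hfam
  have hfm : ∀ X ∈ fam, ∃ g ∈ H, X = U.map (g.1 : V →ₗ[F] V) := by
    intro X hX
    rw [hfam, Set.Finite.mem_toFinset] at hX
    obtain ⟨g, -, rfl⟩ := hX
    exact ⟨g.1, g.2, rfl⟩
  have hcard : fam.card * (2 * a) ≤ finrank F V := by
    refine card_family hA (2 * a) fam ?_ ?_ ?_
    · intro X hX
      obtain ⟨g, -, rfl⟩ := hfm X hX
      rw [LinearEquiv.finrank_map_eq, hUa]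
    · intro X hX
      obtain ⟨g, -, rfl⟩ := hfm X hX
      rintro _ ⟨u, hu, rfl⟩ hw0
      obtain ⟨z, hz, hz'⟩ := hUnd u hu fun h => hw0 (by rw [h, map_zero])
      exact ⟨g.1 z, ⟨z, hz, rfl⟩, by show B (g.1 u) (g.1 z) ≠ 0; rwa [g.2]⟩
    · intro X hX Y hY hne
      obtain ⟨g, hg, rfl⟩ := hfm X hX
      obtain ⟨g', hg', rfl⟩ := hfm Y hY
      rintro _ ⟨x, hx, rfl⟩ _ ⟨y, hy, rfl⟩
      rcases hmove _ (mul_mem (inv_mem hg) hg') with h | h
      · refine absurd ?_ hne
        conv_lhs => rw [← h, ← Submodule.map_comp]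
        congr 1
        exact LinearMap.ext fun z => Alt.apply_inv_self g.1 (g'.1 z)
      · have h0 : B x ((g⁻¹).1 (g'.1 y)) = 0 := h ⟨y, hy, rfl⟩ x hx
        show B (g.1 x) (g'.1 y) = 0
        rw [← g.2] at h0
        rwa [show g.1 ((g⁻¹).1 (g'.1 y)) = g'.1 y from Alt.apply_inv_self g.1 _] at h0
  have hrel : S.relIndex H ≤ fam.card := by
    rw [← Set.ncard_eq_toFinset_card _, Subgroup.relIndex, Subgroup.index, ← Nat.card_coe_set_eq]
    refine Nat.card_le_card_of_injective (fun q => ⟨U.map (q.out.1.1 : V →ₗ[F] V), q.out, trivial, rfl⟩)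
      fun q q' h => ?_
    rw [← q.out_eq, ← q'.out_eq]
    refine Quotient.sound (QuotientGroup.leftRel_apply.2 ?_)
    rw [Subgroup.mem_subgroupOf]
    have h' : U.map (q.out.1.1 : V →ₗ[F] V) = U.map (q'.out.1.1 : V →ₗ[F] V) := congrArg Subtype.val h
    show U.map ((((q.out)⁻¹ * q'.out : H) : Alt.isoGroup B).1 : V →ₗ[F] V) = U
    rw [show ((((q.out)⁻¹ * q'.out : H) : Alt.isoGroup B).1 : V →ₗ[F] V) =
      ((q.out.1⁻¹).1 : V →ₗ[F] V).comp (q'.out.1.1 : V →ₗ[F] V) from rfl, Submodule.map_comp, ← h',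
      ← Submodule.map_comp, show ((q.out.1⁻¹).1 : V →ₗ[F] V).comp (q.out.1.1 : V →ₗ[F] V) = LinearMap.id from
        LinearMap.ext fun x => Alt.inv_apply_self _ x, Submodule.map_id]
  have hH' : S.index ≤ fam.card * H.index := by
    refine le_trans (Subgroup.index_antitone (inf_le_left : S ⊓ H ≤ S)) ?_
    rw [← Subgroup.relIndex_mul_index (inf_le_right : S ⊓ H ≤ H), Subgroup.inf_relIndex_right]
    exact Nat.mul_le_mul_right _ hrel
  set q := Nat.card F
  have hG : Nat.card (Alt.isoGroup B) = q ^ ((b + a) ^ 2) * ∏ i ∈ Finset.range (b + a), (q ^ (2 * (i + 1)) - 1) := by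
    rw [Alt.card_isoGroup hA hB (b + a) (by omega), Fintype.card_eq_nat_card]
  have hTU : Nat.card (Alt.TG B U) = q ^ (a ^ 2) * ∏ i ∈ Finset.range a, (q ^ (2 * (i + 1)) - 1) := by
    rw [Alt.card_TG hA hB a U hUnd hUa, Fintype.card_eq_nat_card]
  have hTo : Nat.card (Alt.TG B (B.orthogonal U)) = q ^ (b ^ 2) * ∏ i ∈ Finset.range b, (q ^ (2 * (i + 1)) - 1) := by
    rw [Alt.card_TG hA hB b _ hUo hUb, Fintype.card_eq_nat_card]
  have hpos : 0 < Nat.card (Alt.TG B U) * Nat.card (Alt.TG B (B.orthogonal U)) := by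
    have : Finite (V ≃ₗ[F] V) := Finite.of_injective (fun g : V ≃ₗ[F] V => (g : V → V)) DFunLike.coe_injective
    exact Nat.mul_pos Nat.card_pos Nat.card_pos
  have hidx : q ^ (4 * (a * b)) ≤ S.index := by
    refine Nat.le_of_mul_le_mul_right ?_ hpos
    calc q ^ (4 * (a * b)) * (Nat.card (Alt.TG B U) * Nat.card (Alt.TG B (B.orthogonal U)))
        ≤ Nat.card (Alt.isoGroup B) := by rw [hTU, hTo, hG]; exact card_bound q a b (by omega)
      _ = S.index * Nat.card S := by rw [mul_comm, Subgroup.card_mul_index]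
      _ ≤ _ := Nat.mul_le_mul_left _ (card_stab_le hA hB hUnd)
  have hfam : fam.card ≤ m + 1 := by
    have : fam.card * 2 ≤ fam.card * (2 * a) := Nat.mul_le_mul_left _ (by omega)
    omega
  have : (m + 1) * pts q (2 * (m + 1)) ≤ (m + 1) * H.index :=
    (pts_bound q m a b hq hba ha1 hb1).trans (hidx.trans (hH'.trans (Nat.mul_le_mul_right _ hfam)))
  exact Nat.le_of_mul_le_mul_left this (by omega)

end Cfsg.Agent.MinIndexForm.Sp
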