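import Cfsg.Agent.MinIndexForm.Sp.Frame

/-!
The invariants of a subgroup at a point: the image in Levi × torus, the vector part and the central part of the
unipotent radical, the orbit formula, the action of the image on them, and lifting along a central element.
-/

set_option autoImplicit false

namespace Cfsg.Agent.MinIndexForm.Sp

open Cfsg.Agent.Classical Module

variable {F V : Type*} [Field F] [AddCommGroup V] [Module F V] {B : LinearMap.BilinForm F V}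

namespace Fr

variable (σ : Fr B)

noncomputable def rfun (p : σ.P) : Alt.isoGroup σ.BW × Fˣ :=
  ((σ.exists_par p.2).choose_spec.choose_spec.choose_spec.choose, (σ.exists_par p.2).choose)

theorem rfun_par (p : σ.P) : ∃ u c, (p : Alt.isoGroup B) = σ.par (σ.rfun p).2 u c (σ.rfun p).1 :=
  ⟨_, _, (σ.exists_par p.2).choose_spec.choose_spec.choose_spec.choose_spec⟩

theorem rfun_eq {p : σ.P} {a : Fˣ} {u : σ.W} {c : F} {l : Alt.isoGroup σ.BW}
    (h : (p : Alt.isoGroup B) = σ.par a u c l) : σ.rfun p = (l, a) := by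
  obtain ⟨u', c', h'⟩ := σ.rfun_par p
  obtain ⟨e1, -, -, e2⟩ := σ.par_inj (h.symm.trans h')
  exact Prod.ext e2.symm e1.symm

/-- The image in Levi × torus. -/
noncomputable def rho : σ.P →* Alt.isoGroup σ.BW × Fˣ :=
  MonoidHom.mk' σ.rfun fun p p' => by
    obtain ⟨u, c, h⟩ := σ.rfun_par p
    obtain ⟨u', c', h'⟩ := σ.rfun_par p'
    obtain ⟨u'', c'', h''⟩ := σ.par_mul (σ.rfun p).2 (σ.rfun p').2 u u' c c' (σ.rfun p).1 (σ.rfun p').1
    refine σ.rfun_eq (u := u'') (c := c'') ?_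
    rw [Subgroup.coe_mul, h, h', h'']

theorem rho_eq {p : σ.P} {a : Fˣ} {u : σ.W} {c : F} {l : Alt.isoGroup σ.BW}
    (h : (p : Alt.isoGroup B) = σ.par a u c l) : σ.rho p = (l, a) := σ.rfun_eq h

variable (K : Subgroup (Alt.isoGroup B))

/-- The image of the subgroup in Levi × torus. -/
noncomputable def Im : Subgroup (Alt.isoGroup σ.BW × Fˣ) := (K.subgroupOf σ.P).map σ.rho

theorem mem_Im {K : Subgroup (Alt.isoGroup B)} {l : Alt.isoGroup σ.BW} {a : Fˣ} :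
    (l, a) ∈ σ.Im K ↔ ∃ u c, σ.par a u c l ∈ K := by
  constructor
  · rintro ⟨p, hp, he⟩
    obtain ⟨a', u, c, l', h⟩ := σ.exists_par p.2
    rw [σ.rho_eq h, Prod.mk.injEq] at he
    obtain ⟨rfl, rfl⟩ := he
    exact ⟨u, c, h ▸ hp⟩
  · rintro ⟨u, c, h⟩
    exact ⟨⟨σ.par a u c l, σ.par_mem a u c l⟩, h, σ.rho_eq rfl⟩

/-- The projection to the Levi part. -/
noncomputable def Jb : Subgroup (Alt.isoGroup σ.BW) :=
  (σ.Im K).map (MonoidHom.fst (Alt.isoGroup σ.BW) Fˣ)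

/-- The part with trivial torus component. -/
noncomputable def I1 : Subgroup (Alt.isoGroup σ.BW) :=
  (σ.Im K).comap (MonoidHom.inl (Alt.isoGroup σ.BW) Fˣ)

/-- The torus part with trivial Levi component. -/
noncomputable def T1 : Subgroup Fˣ := (σ.Im K).comap (MonoidHom.inr (Alt.isoGroup σ.BW) Fˣ)

/-- The projection to the torus. -/
noncomputable def T2 : Subgroup Fˣ := (σ.Im K).map (MonoidHom.snd (Alt.isoGroup σ.BW) Fˣ)

theorem mem_Jb {l : Alt.isoGroup σ.BW} : l ∈ σ.Jb K ↔ ∃ a, (l, a) ∈ σ.Im K := by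
  constructor
  · rintro ⟨⟨l', a⟩, h, rfl⟩; exact ⟨a, h⟩
  · rintro ⟨a, h⟩; exact ⟨(l, a), h, rfl⟩

theorem mem_T2 {a : Fˣ} : a ∈ σ.T2 K ↔ ∃ l, (l, a) ∈ σ.Im K := by
  constructor
  · rintro ⟨⟨l, a'⟩, h, rfl⟩; exact ⟨l, h⟩
  · rintro ⟨l, h⟩; exact ⟨(l, a), h, rfl⟩

theorem mem_I1 {l : Alt.isoGroup σ.BW} : l ∈ σ.I1 K ↔ (l, 1) ∈ σ.Im K := Iff.rfl

theorem mem_T1 {a : Fˣ} : a ∈ σ.T1 K ↔ (1, a) ∈ σ.Im K := Iff.rfl

theorem I1_le_Jb : σ.I1 K ≤ σ.Jb K := fun _ h => (σ.mem_Jb K).2 ⟨1, h⟩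

theorem T1_le_T2 : σ.T1 K ≤ σ.T2 K := fun _ h => (σ.mem_T2 K).2 ⟨1, h⟩

/-- The vector parts of the unipotent elements in the subgroup. -/
def Sb : AddSubgroup σ.W where
  carrier := {u | ∃ c, σ.sh u c ∈ K}
  zero_mem' := ⟨0, by rw [sh_zero]; exact K.one_mem⟩
  add_mem' := fun ⟨_, ha⟩ ⟨_, hb⟩ => ⟨_, by rw [← sh_mul]; exact K.mul_mem ha hb⟩
  neg_mem' := fun ⟨c, ha⟩ => ⟨-c, by rw [← sh_inv]; exact K.inv_mem ha⟩

/-- The central parts of the unipotent elements in the subgroup. -/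
def Zp : AddSubgroup F where
  carrier := {c | σ.sh 0 c ∈ K}
  zero_mem' := by simp [sh_zero, K.one_mem]
  add_mem' := fun {a b} ha hb => by
    have h := K.mul_mem ha hb
    rwa [sh_mul, add_zero, Submodule.coe_zero, map_zero, add_zero] at h
  neg_mem' := fun {a} ha => by
    have h := K.inv_mem ha
    rwa [sh_inv, neg_zero] at h

theorem mem_Sb {u : σ.W} : u ∈ σ.Sb K ↔ ∃ c, σ.sh u c ∈ K := Iff.rfl

theorem mem_Zp {c : F} : c ∈ σ.Zp K ↔ σ.sh 0 c ∈ K := Iff.rfl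

theorem sh_mem_iff {u : σ.W} {c0 c : F} (h0 : σ.sh u c0 ∈ K) : σ.sh u c ∈ K ↔ c - c0 ∈ σ.Zp K := by
  have : σ.sh u c = σ.sh 0 (c - c0) * σ.sh u c0 := by
    rw [sh_mul, zero_add, Submodule.coe_zero, map_zero, add_zero, sub_add_cancel]
  rw [mem_Zp, this, K.mul_mem_cancel_right h0]

theorem par_conj_sh (a : Fˣ) (u : σ.W) (c : F) (l : Alt.isoGroup σ.BW) (w : σ.W) (d : F) :
    σ.par a u c l * σ.sh w d * (σ.par a u c l)⁻¹ =
      σ.sh ((a : F) • l.1 w) ((a : F) ^ 2 * (d + 2 * B ((l.1 w : σ.W) : V) (u : V))) := by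
  rw [mul_inv_eq_iff_eq_mul]
  calc σ.par a u c l * σ.sh w d = σ.tor a * σ.sh u c * σ.sh (l.1 w) d * σ.emb l := by
        rw [par, mul_assoc, emb_mul_sh]; simp only [mul_assoc]
    _ = σ.tor a * σ.sh (l.1 w) (d + 2 * B ((l.1 w : σ.W) : V) (u : V)) * σ.sh u c * σ.emb l := by
        simp only [mul_assoc]
        rw [← mul_assoc (σ.sh u c), ← mul_assoc (σ.sh (l.1 w) _), sh_mul, sh_mul, add_comm u]
        congr 3
        rw [Alt.neg' σ.hA ((l.1 w : σ.W) : V) (u : V)]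
        ring
    _ = _ := by rw [tor_mul_sh, par]; simp only [mul_assoc]

theorem Sb_inv {l : Alt.isoGroup σ.BW} {a : Fˣ} (h : (l, a) ∈ σ.Im K) {w : σ.W} (hw : w ∈ σ.Sb K) :
    (a : F) • l.1 w ∈ σ.Sb K := by
  obtain ⟨u, c, hp⟩ := σ.mem_Im.1 h
  obtain ⟨d, hd⟩ := hw
  exact ⟨_, σ.par_conj_sh a u c l w d ▸ K.mul_mem (K.mul_mem hp hd) (K.inv_mem hp)⟩

theorem Sb_inv_I1 {l : Alt.isoGroup σ.BW} (h : l ∈ σ.I1 K) {w : σ.W} (hw : w ∈ σ.Sb K) : l.1 w ∈ σ.Sb K := by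
  simpa using σ.Sb_inv K h hw

theorem Zp_inv {a : Fˣ} (h : a ∈ σ.T2 K) {d : F} (hd : d ∈ σ.Zp K) : (a : F) ^ 2 * d ∈ σ.Zp K := by
  obtain ⟨l, h⟩ := (σ.mem_T2 K).1 h
  obtain ⟨u, c, hp⟩ := σ.mem_Im.1 h
  have := K.mul_mem (K.mul_mem hp hd) (K.inv_mem hp)
  rw [par_conj_sh, map_zero, smul_zero, Submodule.coe_zero, map_zero, LinearMap.zero_apply, mul_zero, add_zero] at this
  exact this

theorem comm_Sb {u v : σ.W} (hu : u ∈ σ.Sb K) (hv : v ∈ σ.Sb K) : 2 * B (u : V) (v : V) ∈ σ.Zp K := by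
  obtain ⟨c, hc⟩ := hu
  obtain ⟨d, hd⟩ := hv
  have := K.mul_mem (K.mul_mem hd hc) (K.inv_mem (K.mul_mem hc hd))
  rw [sh_mul, sh_mul, sh_inv, sh_mul, add_comm v u, add_neg_cancel] at this
  rw [mem_Zp]
  convert this using 2
  simp [σ.hA (u : V), σ.hA (v : V), Alt.neg' σ.hA (u : V) (v : V)]
  ring

/-- The kernel of the image map, as pairs. -/
noncomputable def kerEquiv : {x : σ.W × F // σ.sh x.1 x.2 ∈ K} ≃ σ.Sb K × σ.Zp K where
  toFun x := (⟨x.1.1, x.1.2, x.2⟩, ⟨x.1.2 - (show x.1.1 ∈ σ.Sb K from ⟨x.1.2, x.2⟩).choose,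
    (σ.sh_mem_iff K (show x.1.1 ∈ σ.Sb K from ⟨x.1.2, x.2⟩).choose_spec).1 x.2⟩)
  invFun x := ⟨(x.1.1, x.2.1 + x.1.2.choose),
    (σ.sh_mem_iff K x.1.2.choose_spec).2 (by rw [add_sub_cancel_right]; exact x.2.2)⟩
  left_inv x := by simp
  right_inv x := by simp

variable [Finite F] [FiniteDimensional F V]

theorem card_kernel :
    Nat.card (σ.rho.comp (K.subgroupOf σ.P).subtype).ker = Nat.card (σ.Sb K) * Nat.card (σ.Zp K) := by
  rw [← Nat.card_prod, ← Nat.card_congr (σ.kerEquiv K)]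
  refine (Nat.card_congr (Equiv.ofBijective (fun x =>
    (⟨⟨⟨σ.sh x.1.1 x.1.2, ⟨1, by simp [sh_y]⟩⟩, x.2⟩, ?_⟩ : (σ.rho.comp (K.subgroupOf σ.P).subtype).ker)) ⟨?_, ?_⟩)).symm
  · show σ.rho _ = 1
    exact σ.rho_eq (u := x.1.1) (c := x.1.2) (by simp [par, tor_one])
  · intro x x' h
    have h' : σ.sh x.1.1 x.1.2 = σ.sh x'.1.1 x'.1.2 := congrArg (fun g => ((g.1.1 : σ.P) : Alt.isoGroup B)) h
    exact Subtype.ext (Prod.ext (σ.sh_inj h').1 (σ.sh_inj h').2)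
  · rintro ⟨⟨p, hp⟩, hk⟩
    obtain ⟨a, u, c, l, h⟩ := σ.exists_par p.2
    have he : σ.rho p = 1 := hk
    rw [σ.rho_eq h, Prod.mk_eq_one] at he
    obtain ⟨rfl, rfl⟩ := he
    simp [par, tor_one] at h
    exact ⟨⟨(u, c), by show σ.sh u c ∈ K; rw [← h]; exact hp⟩, Subtype.ext (Subtype.ext (Subtype.ext h.symm))⟩

theorem card_subgroupOf :
    Nat.card (K.subgroupOf σ.P) = Nat.card (σ.Im K) * (Nat.card (σ.Sb K) * Nat.card (σ.Zp K)) := by
  rw [← σ.card_kernel K, Subgroup.card_eq_card_quotient_mul_card_subgroup (σ.rho.comp (K.subgroupOf σ.P).subtype).ker,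
    Nat.card_congr (QuotientGroup.quotientKerEquivRange _).toEquiv, Im, MonoidHom.range_comp, Subgroup.range_subtype]

theorem card_P :
    Nat.card σ.P = Nat.card (Alt.isoGroup σ.BW) * Nat.card Fˣ * (Nat.card σ.W * Nat.card F) := by
  have hI : σ.Im ⊤ = ⊤ := eq_top_iff.2 fun x _ => σ.mem_Im.2 ⟨0, 0, trivial⟩
  have hS : σ.Sb ⊤ = ⊤ := eq_top_iff.2 fun x _ => ⟨0, trivial⟩
  have hZ : σ.Zp ⊤ = ⊤ := eq_top_iff.2 fun x _ => trivial
  have h := σ.card_subgroupOf ⊤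
  rw [Subgroup.top_subgroupOf, hI, hS, hZ] at h
  simpa [Nat.card_prod] using h

theorem card_Im : Nat.card (σ.Im K) = Nat.card (σ.I1 K) * Nat.card (σ.T2 K) := by
  set f := (MonoidHom.snd (Alt.isoGroup σ.BW) Fˣ).comp (σ.Im K).subtype with hf
  have e : f.ker ≃ σ.I1 K :=
    { toFun := fun x => ⟨x.1.1.1, (σ.mem_I1 K).2 (by
        have h : x.1.1.2 = 1 := x.2
        have := x.1.2
        rwa [show x.1.1 = (x.1.1.1, 1) from Prod.ext rfl h] at this)⟩
      invFun := fun l => ⟨⟨(l.1, 1), l.2⟩, rfl⟩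
      left_inv := fun x => Subtype.ext (Subtype.ext (Prod.ext rfl (Eq.symm (x.2 : x.1.1.2 = 1))))
      right_inv := fun l => rfl }
  rw [Subgroup.card_eq_card_quotient_mul_card_subgroup f.ker,
    Nat.card_congr (QuotientGroup.quotientKerEquivRange _).toEquiv, Nat.card_congr e, hf, MonoidHom.range_comp, Subgroup.range_subtype, T2,
    mul_comm]

theorem card_Im' : Nat.card (σ.Im K) = Nat.card (σ.Jb K) * Nat.card (σ.T1 K) := by
  set f := (MonoidHom.fst (Alt.isoGroup σ.BW) Fˣ).comp (σ.Im K).subtype with hf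
  have e : f.ker ≃ σ.T1 K :=
    { toFun := fun x => ⟨x.1.1.2, (σ.mem_T1 K).2 (by
        have h : x.1.1.1 = 1 := x.2
        have := x.1.2
        rwa [show x.1.1 = (1, x.1.1.2) from Prod.ext h rfl] at this)⟩
      invFun := fun a => ⟨⟨(1, a.1), a.2⟩, rfl⟩
      left_inv := fun x => Subtype.ext (Subtype.ext (Prod.ext (Eq.symm (x.2 : x.1.1.1 = 1)) rfl))
      right_inv := fun l => rfl }
  rw [Subgroup.card_eq_card_quotient_mul_card_subgroup f.ker,
    Nat.card_congr (QuotientGroup.quotientKerEquivRange _).toEquiv, Nat.card_congr e, hf, MonoidHom.range_comp, Subgroup.range_subtype, Jb]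

theorem finite_iso (B' : LinearMap.BilinForm F V) : Finite (Alt.isoGroup B') := by
  have : Finite V := Module.finite_of_finite F
  have : Finite (V ≃ₗ[F] V) := Finite.of_injective (fun g : V ≃ₗ[F] V => (g : V → V)) DFunLike.coe_injective
  infer_instance

theorem relIndex_P :
    K.relIndex σ.P = (σ.I1 K).index * (σ.T2 K).index * ((σ.Sb K).index * (σ.Zp K).index) := by
  have : Finite V := Module.finite_of_finite F
  have : Finite (Alt.isoGroup σ.BW) := finite_iso _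
  have : Finite (Alt.isoGroup B) := finite_iso _
  have h := Subgroup.card_mul_index (K.subgroupOf σ.P)
  rw [σ.card_subgroupOf, σ.card_Im, σ.card_P, ← (σ.I1 K).card_mul_index, ← (σ.T2 K).card_mul_index,
    ← (σ.Sb K).card_mul_index, ← (σ.Zp K).card_mul_index] at h
  refine Nat.eq_of_mul_eq_mul_left
    (m := K.relIndex σ.P) (k := (σ.I1 K).index * (σ.T2 K).index * ((σ.Sb K).index * (σ.Zp K).index))
    (n := Nat.card (σ.I1 K) * Nat.card (σ.T2 K) * (Nat.card (σ.Sb K) * Nat.card (σ.Zp K))) ?_ ?_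
  · exact Nat.mul_pos (Nat.mul_pos Nat.card_pos Nat.card_pos) (Nat.mul_pos Nat.card_pos Nat.card_pos)
  · show _ * (K.subgroupOf σ.P).index = _
    rw [h]; ring

theorem relIndex_P' :
    K.relIndex σ.P = (σ.Jb K).index * (σ.T1 K).index * ((σ.Sb K).index * (σ.Zp K).index) := by
  have : Finite V := Module.finite_of_finite F
  have : Finite (Alt.isoGroup σ.BW) := finite_iso _
  have : Finite (Alt.isoGroup B) := finite_iso _
  have h := Subgroup.card_mul_index (K.subgroupOf σ.P)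
  rw [σ.card_subgroupOf, σ.card_Im', σ.card_P, ← (σ.Jb K).card_mul_index, ← (σ.T1 K).card_mul_index,
    ← (σ.Sb K).card_mul_index, ← (σ.Zp K).card_mul_index] at h
  refine Nat.eq_of_mul_eq_mul_left
    (m := K.relIndex σ.P) (k := (σ.Jb K).index * (σ.T1 K).index * ((σ.Sb K).index * (σ.Zp K).index))
    (n := Nat.card (σ.Jb K) * Nat.card (σ.T1 K) * (Nat.card (σ.Sb K) * Nat.card (σ.Zp K))) ?_ ?_
  · exact Nat.mul_pos (Nat.mul_pos Nat.card_pos Nat.card_pos) (Nat.mul_pos Nat.card_pos Nat.card_pos)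
  · show _ * (K.subgroupOf σ.P).index = _
    rw [h]; ring

theorem relIndex_P_le : K.relIndex σ.P ≤ K.index := by
  have : Finite V := Module.finite_of_finite F
  have : Finite (Alt.isoGroup B) := finite_iso _
  rw [← Subgroup.relIndex_top_right]
  exact Subgroup.relIndex_le_of_le_right le_top Subgroup.index_ne_zero_of_finite

end Fr

end Cfsg.Agent.MinIndexForm.Sp
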