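import Cfsg.Agent.MinIndexForm.Sp.EvenPlane

/-!
The minimal index in characteristic two.
-/

set_option autoImplicit false

namespace Cfsg.Agent.MinIndexForm.Sp

open Cfsg.Agent.Classical Module
open scoped commutatorElement

universe uF uV

/-- The bound for subgroups without a full transvection group. -/
def lowFree (q n : ℕ) : ℕ := if n = 1 then q + 2 else pts q (2 * n) + 2

variable {F : Type uF} [Field F] [Finite F] [CharP F 2]

section Dim

variable {V : Type uV} [AddCommGroup V] [Module F V] [FiniteDimensional F V] {B : LinearMap.BilinForm F V}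

omit [Finite F] [FiniteDimensional F V] in
theorem tv_apply_Sb (σ : Fr B) {K : Subgroup (Alt.isoGroup B)} (hS : σ.Sb K = ⊤) {v : σ.W} {c : F}
    (hI : Alt.tvE σ.hA_W v c ∈ σ.I1 K) (hv : v ≠ 0) (s : F) :
    σ.sh ((c * s) • v) (c * s ^ 2) ∈ K := by
  obtain ⟨w, hw⟩ : ∃ w, σ.BW w v = s := by
    obtain ⟨w0, hw0⟩ : ∃ w0, σ.BW w0 v ≠ 0 := by
      by_contra h; push Not at h; exact hv (σ.hB_W.2 v h)
    exact ⟨(s / σ.BW w0 v) • w0, by rw [map_smul, LinearMap.smul_apply, smul_eq_mul, div_mul_cancel₀ _ hw0]⟩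
  obtain ⟨u, c0, hp⟩ := σ.mem_Im.1 ((σ.mem_I1 K).1 hI)
  obtain ⟨d, hd⟩ := (σ.mem_Sb K).1 (show w ∈ σ.Sb K by rw [hS]; trivial)
  have h2 : (2 : F) = 0 := CharTwo.two_eq_zero
  have h1 := mul_mem (mul_mem (mul_mem hp hd) (inv_mem hp)) (inv_mem hd)
  rw [σ.par_conj_sh, h2, zero_mul, add_zero, Units.val_one, one_smul, one_pow, one_mul, σ.sh_inv, σ.sh_mul] at h1
  have e : (Alt.tvE σ.hA_W v c).1 w = w + (c * s) • v := by
    show Alt.tv σ.hA_W v c w = _
    rw [Alt.tv_apply, hw]
  rw [e] at h1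
  have e2 : B ((-w : σ.W) : V) ((w + (c * s) • v : σ.W) : V) = c * s ^ 2 := by
    rw [Submodule.coe_neg, map_neg, LinearMap.neg_apply, Submodule.coe_add, Submodule.coe_smul, map_add, map_smul,
      σ.hA (w : V), zero_add, show B (w : V) (v : V) = s from hw, smul_eq_mul, CharTwo.neg_eq]
    ring
  rw [e2, add_neg_cancel, zero_add] at h1
  convert h1 using 2
  abel

omit [FiniteDimensional F V] in
/-- Two different values at one centre are impossible when the vector part is everything. -/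
theorem false_of_two (σ : Fr B) {K : Subgroup (Alt.isoGroup B)} (hZ : σ.Zp K ≠ ⊤) (hS : σ.Sb K = ⊤) {v : σ.W}
    (hv : v ≠ 0) {c1 c2 : F} (h1 : c1 ≠ 0) (h2 : c2 ≠ 0) (hne : c1 ≠ c2) (hI1 : Alt.tvE σ.hA_W v c1 ∈ σ.I1 K)
    (hI2 : Alt.tvE σ.hA_W v c2 ∈ σ.I1 K) : False := by
  refine hZ (eq_top_iff.2 fun x _ => ?_)
  set r := c1 ^ 2 / c2 - c1 with hr
  have hr0 : r ≠ 0 := by
    rw [hr, sub_ne_zero]
    intro e
    rw [div_eq_iff h2, pow_two] at e
    exact hne (mul_left_cancel₀ h1 e)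
  obtain ⟨s, hs⟩ : ∃ s : F, s ^ 2 = x / r := by
    have hinj : Function.Injective fun s : F => s ^ 2 := fun a b h => CharTwo.sq_inj.1 h
    exact (Finite.injective_iff_surjective.1 hinj) _
  have e1 := tv_apply_Sb σ hS hI1 hv s
  have e2 := tv_apply_Sb σ hS hI2 hv (c1 * s / c2)
  rw [show c2 * (c1 * s / c2) = c1 * s by field_simp] at e2
  have h3 := (σ.sh_mem_iff K e1).1 e2
  convert h3 using 1
  have hx : x = r * s ^ 2 := by rw [hs, mul_div_cancel₀ _ hr0]
  rw [hx, hr]
  field_simp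

omit [Finite F] [CharP F 2] [FiniteDimensional F V] in
/-- The unipotent elements over a line, seen from the point on that line. -/
theorem move_point (σ : Fr B) (K : Subgroup (Alt.isoGroup B)) {u : σ.W} (hu : u ≠ 0) :
    ∃ h, ∃ v : σ.W, v ≠ 0 ∧ ∀ r c : F, σ.sh (r • u) c ∈ K → Alt.tvE σ.hA_W v c ∈ σ.I1 (conjS h K) := by
  obtain ⟨h, hh⟩ := Alt.exists_iso_map σ.hA σ.hB (u := (u : V)) (fun e => hu (Subtype.ext e)) σ.y_ne
  set y' := h.1 σ.y with hy'
  have hBy : B σ.y y' = 0 := by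
    have h1 := h.2 (u : V) σ.y
    rw [hh] at h1
    exact h1.trans (σ.Bwy u)
  have hv : σ.pr y' ≠ 0 := by
    intro h0
    have hd := σ.decomp y'
    rw [h0, Submodule.coe_zero, zero_add, Alt.neg' σ.hA σ.y y', hBy, neg_zero, neg_zero, zero_smul, add_zero] at hd
    have h1 := congrArg (fun x => (h⁻¹).1 x) hd
    simp only [map_smul] at h1
    rw [show (h⁻¹).1 y' = σ.y from Alt.inv_apply_self h.1 σ.y,
      show (h⁻¹).1 σ.y = (u : V) from by rw [← hh]; exact Alt.inv_apply_self h.1 _] at h1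
    have := congrArg σ.pr h1
    rw [σ.pr_y, map_smul, σ.pr_W] at this
    rcases smul_eq_zero.1 this.symm with h2 | h2
    · rw [h2, zero_smul] at h1; exact σ.y_ne h1
    · exact hu h2
  refine ⟨h, σ.pr y', hv, fun r c hm => ?_⟩
  set g := h * σ.sh (r • u) c * h⁻¹ with hg
  have hgK : g ∈ conjS h K := by rw [mem_conjS, hg]; simpa [mul_assoc] using hm
  have hgen : ∀ x, g.1 x = x + (B x y' * r) • σ.y + (r * B x σ.y + c * B x y') • y' := fun x => by
    have e1 : B ((h⁻¹).1 x) σ.y = B x y' := by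
      rw [hy', ← h.2 ((h⁻¹).1 x) σ.y, show h.1 ((h⁻¹).1 x) = x from Alt.apply_inv_self h.1 x]
    have e2 : B ((h⁻¹).1 x) (u : V) = B x σ.y := by
      rw [← h.2 ((h⁻¹).1 x) (u : V), hh, show h.1 ((h⁻¹).1 x) = x from Alt.apply_inv_self h.1 x]
    rw [hg, Subgroup.coe_mul, Subgroup.coe_mul, LinearEquiv.mul_apply, LinearEquiv.mul_apply, σ.sh_apply,
      Submodule.coe_smul, map_smul, e1, e2, smul_eq_mul, map_add, map_add, map_smul, map_smul, map_smul, hh,
      show h.1 ((h⁻¹).1 x) = x from Alt.apply_inv_self h.1 x, ← hy', smul_smul]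
  have hgy : g.1 σ.y = ((1 : Fˣ) : F) • σ.y := by
    rw [hgen, hBy, σ.hA σ.y]; simp
  obtain ⟨a, w, d, l, he⟩ := σ.exists_par ⟨1, hgy⟩
  have ha : a = 1 := by
    have h3 := σ.par_y a w d l
    rw [← he, hgy] at h3
    exact (Units.ext (smul_left_injective F σ.y_ne h3)).symm
  have hl : l = Alt.tvE σ.hA_W (σ.pr y') c := Subtype.ext (LinearEquiv.ext fun x => by
    rw [← σ.pr_par_W a w d l x, ← he, hgen, σ.Bwy, mul_zero, zero_add, map_add, map_add, map_smul, map_smul,
      σ.pr_y, smul_zero, add_zero, σ.pr_W]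
    show _ = Alt.tv σ.hA_W (σ.pr y') c x
    rw [Alt.tv_apply, σ.BW_apply, σ.pr_B])
  subst ha hl
  exact (σ.mem_I1 _).2 (σ.mem_Im.2 ⟨w, d, he ▸ hgK⟩)

/-- Some conjugate has a proper vector part. -/
theorem exists_proper_Sb (σ : Fr B) (hW : 0 < finrank F σ.W) (hq : 4 ≤ Nat.card F)
    {H : Subgroup (Alt.isoGroup B)} (hfree : Free σ.hA H) : ∃ h, σ.Sb (conjS h H) ≠ ⊤ := by
  by_contra hc
  push Not at hc
  have h1 : conjS 1 H = H := Subgroup.ext fun x => by simp [mem_conjS]
  have hS : σ.Sb H = ⊤ := h1 ▸ hc 1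
  have : Nontrivial σ.W := Module.nontrivial_of_finrank_pos (R := F) hW
  have hZ := Zp_ne_top_of_free σ hfree
  -- some unipotent element has a central coordinate
  obtain ⟨u, c, hu, hc0, hm⟩ : ∃ (u : σ.W) (c : F), u ≠ 0 ∧ c ≠ 0 ∧ σ.sh u c ∈ H := by
    by_contra hno
    push Not at hno
    obtain ⟨u, hu⟩ := exists_ne (0 : σ.W)
    obtain ⟨v0, hv0⟩ : ∃ v0, σ.BW v0 u ≠ 0 := by
      by_contra h; push Not at h; exact hu (σ.hB_W.2 u h)
    obtain ⟨cu, hcu⟩ := (σ.mem_Sb H).1 (show u ∈ σ.Sb H by rw [hS]; trivial)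
    obtain ⟨cv, hcv⟩ := (σ.mem_Sb H).1 (show v0 ∈ σ.Sb H by rw [hS]; trivial)
    have hcu0 : cu = 0 := by by_contra h; exact hno u cu hu h hcu
    have hv00 : v0 ≠ 0 := fun h => hv0 (by rw [h, map_zero, LinearMap.zero_apply])
    have hcv0 : cv = 0 := by by_contra h; exact hno v0 cv hv00 h hcv
    subst hcu0 hcv0
    have h2 := mul_mem hcu hcv
    rw [σ.sh_mul, add_zero, zero_add] at h2
    refine hno (u + v0) _ (fun h0 => hv0 ?_) hv0 h2
    rw [eq_neg_of_add_eq_zero_right h0, map_neg, LinearMap.neg_apply, σ.hA_W u, neg_zero]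
  obtain ⟨h, v, hv, hroot⟩ := move_point σ H hu
  have hI : Alt.tvE σ.hA_W v c ∈ σ.I1 (conjS h H) := hroot 1 c (by rwa [one_smul])
  set K := conjS h H with hK
  -- two different values on the line through v
  have hSK : σ.Sb K = ⊤ := hc h
  obtain ⟨r, hr0, hr1⟩ : ∃ r : F, r ≠ 0 ∧ r ≠ 1 := by
    by_contra hno
    push Not at hno
    have : Nat.card F ≤ ({0, 1} : Set F).ncard := by
      rw [← Set.ncard_univ]
      exact Set.ncard_le_ncard (fun g _ => by
        rcases eq_or_ne g 0 with h | h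
        · exact Or.inl h
        · exact Or.inr (hno g h)) (Set.toFinite _)
    have := (Set.ncard_insert_le (0 : F) {1}).trans (by rw [Set.ncard_singleton])
    omega
  have e1 := tv_apply_Sb σ hSK hI hv 1
  have e2 := tv_apply_Sb σ hSK hI hv r
  rw [mul_one, one_pow, mul_one] at e1
  obtain ⟨h', v', hv', hroot'⟩ := move_point σ K hv
  have hne : c ≠ c * r ^ 2 := fun h => hr1 (CharTwo.sq_inj.1 (by
    rw [one_pow]; exact (mul_left_cancel₀ hc0 (by rw [mul_one]; exact h.symm))))
  refine false_of_two σ (Zp_ne_top_of_free σ (free_conjS σ.hA (free_conjS σ.hA hfree))) ?_ hv' hc0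
    (mul_ne_zero hc0 (pow_ne_zero 2 hr0)) hne (hroot' c c e1) (hroot' _ _ e2)
  have : conjS h' K = conjS (h' * h) H := Subgroup.ext fun x => by simp [hK, mem_conjS, mul_assoc]
  rw [this]; exact hc _

/-- Orbit counting on the annihilator of the vector part. -/
theorem count_ann (σ : Fr B) (K : Subgroup (Alt.isoGroup B)) (hS : σ.Sb K ≠ ⊤) :
    Nat.card σ.W - 1 ≤ (σ.I1 K).index * ((σ.Sb K).index - 1) := by
  have : Fact (Nat.Prime 2) := ⟨Nat.prime_two⟩
  have : Finite V := Module.finite_of_finite F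
  have : Finite (Alt.isoGroup σ.BW) := Fr.finite_iso _
  obtain ⟨φ, hφ, -⟩ := exists_functional_zero (F := F) 2 (Z := ⊥) bot_ne_top
  let U : AddSubgroup σ.W :=
    { carrier := {u | ∀ s ∈ σ.Sb K, φ (σ.BW s u) = 0}
      zero_mem' := fun s _ => by simp
      add_mem' := fun {a b} ha hb s hs => by rw [map_add, map_add, ha s hs, hb s hs, add_zero]
      neg_mem' := fun {a} ha s hs => by rw [map_neg, map_neg, ha s hs, neg_zero] }
  have hU := card_annihilator σ.hB_W 2 φ hφ (σ.Sb K) U (fun u => Iff.rfl)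
  have hUw : Nat.card U = (σ.Sb K).index := by
    rw [← (σ.Sb K).card_mul_index, mul_comm] at hU
    exact Nat.eq_of_mul_eq_mul_left Nat.card_pos hU
  rw [← hUw]
  have hUinv : ∀ l ∈ σ.I1 K, ∀ u ∈ U, l.1 u ∈ U := fun l hl u hu s hs => by
    have h1 := hu _ (σ.Sb_inv_I1 K (inv_mem hl) hs)
    rw [← l.2, show l.1 ((l⁻¹).1 s) = s from Alt.apply_inv_self l.1 s] at h1
    exact h1
  obtain ⟨u0, hu0, hu00⟩ : ∃ u ∈ U, u ≠ 0 := by
    by_contra h; push Not at h
    refine hS (AddSubgroup.index_eq_one.1 ?_)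
    rw [← hUw, (AddSubgroup.eq_bot_iff_forall _).2 h, AddSubgroup.card_bot]
  classical
  have : Fintype σ.W := Fintype.ofFinite _
  have : Fintype U := Fintype.ofFinite _
  have e1 : Nat.card σ.W - 1 = Nat.card {x : σ.W // x ≠ 0} := by
    rw [Nat.card_eq_fintype_card, Nat.card_eq_fintype_card, Fintype.card_subtype_compl, Fintype.card_subtype_eq]
  have e2 : Nat.card U - 1 = Nat.card {x : U // x ≠ 0} := by
    rw [Nat.card_eq_fintype_card, Nat.card_eq_fintype_card, Fintype.card_subtype_compl, Fintype.card_subtype_eq]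
  rw [e1, e2, Subgroup.index, ← Nat.card_prod]
  refine Nat.card_le_card_of_surjective (fun x => (⟨(x.1.out).1 (x.2.1.1), fun h => x.2.2 (Subtype.ext
    ((x.1.out).1.map_eq_zero_iff.1 h))⟩ : {x : σ.W // x ≠ 0})) fun x => ?_
  obtain ⟨g, hg⟩ := Alt.exists_iso_map σ.hA_W σ.hB_W hu00 x.2
  obtain ⟨i, hi⟩ := QuotientGroup.mk_out_eq_mul (σ.I1 K) g
  refine ⟨((g : Alt.isoGroup σ.BW ⧸ σ.I1 K), ⟨⟨((i : Alt.isoGroup σ.BW)⁻¹).1 u0,
    hUinv _ (inv_mem i.2) u0 hu0⟩, fun h => hu00 ?_⟩), Subtype.ext ?_⟩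
  · have h' : ((i : Alt.isoGroup σ.BW)⁻¹).1 u0 = 0 := congrArg Subtype.val h
    rw [← Alt.apply_inv_self i.1.1 u0]
    show i.1.1 (((i : Alt.isoGroup σ.BW)⁻¹).1 u0) = 0
    rw [h', map_zero]
  · show ((g : Alt.isoGroup σ.BW ⧸ σ.I1 K).out).1 (((i : Alt.isoGroup σ.BW)⁻¹).1 u0) = x.1
    rw [hi, Subgroup.coe_mul, LinearEquiv.mul_apply,
      show i.1.1 (((i : Alt.isoGroup σ.BW)⁻¹).1 u0) = u0 from Alt.apply_inv_self i.1.1 u0, hg]

omit [CharP F 2] in
theorem perfect_W' (σ : Fr B) (hq : 4 ≤ Nat.card F) : commutator (Alt.isoGroup σ.BW) = ⊤ := by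
  refine Alt.commutator_isoGroup σ.hA_W σ.hB_W (Or.inl ?_)
  by_contra hc
  push Not at hc
  have : Nat.card F ≤ ({0, 1, -1} : Set F).ncard := by
    rw [← Set.ncard_univ]
    exact Set.ncard_le_ncard (fun a _ => by
      rcases eq_or_ne a 0 with h | h
      · exact Or.inl h
      · exact Or.inr (sq_eq_one_iff.1 (hc a h))) (Set.toFinite _)
  have h3 := (Set.ncard_insert_le (0 : F) ({1, -1} : Set F))
  have h2 := Set.ncard_insert_le (1 : F) ({-1} : Set F)
  rw [Set.ncard_singleton] at h2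
  omega

theorem step_free (hA : B.IsAlt) (hB : B.Nondegenerate) (m : ℕ) (hm : 1 ≤ m)
    (hd : finrank F V = 2 * (m + 1)) (hq : 4 ≤ Nat.card F)
    (hih : ∀ (σ : Fr B) (J : Subgroup (Alt.isoGroup σ.BW)), J ≠ ⊤ →
      pts (Nat.card F) (2 * m) ≤ J.index ∧ (Free σ.hA_W J → lowFree (Nat.card F) m ≤ J.index))
    {H : Subgroup (Alt.isoGroup B)} (hH : H ≠ ⊤) (hfree : Free hA H) :
    pts (Nat.card F) (2 * (m + 1)) + 2 ≤ H.index := by
  have : Fact (Nat.Prime 2) := ⟨Nat.prime_two⟩
  have : Nontrivial V := Module.nontrivial_of_finrank_pos (R := F) (by omega)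
  obtain ⟨v, hv⟩ := exists_ne (0 : V)
  obtain ⟨σ, -⟩ := exists_frame hA hB hv
  have : Finite V := Module.finite_of_finite F
  have : Finite (Alt.isoGroup σ.BW) := Fr.finite_iso _
  have hWd : finrank F σ.W = 2 * m := by have := σ.finrank_W; omega
  obtain ⟨h, hS⟩ := exists_proper_Sb σ (by omega) hq hfree
  refine le_trans ?_ (relIndex_le_index σ h H)
  set K := conjS h H
  have hKfree : Free σ.hA K := free_conjS hA hfree
  have hZ := Zp_ne_top_of_free σ hKfree
  rw [σ.relIndex_P]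
  have hcount := count_ann σ K hS
  rw [card_W σ m hd] at hcount
  set q := Nat.card F with hqd
  set k := (σ.I1 K).index with hk
  set w := (σ.Sb K).index with hw
  set t := (σ.T2 K).index with ht
  set z := (σ.Zp K).index with hz
  have hw1 : 1 ≤ w := Nat.pos_of_ne_zero AddSubgroup.index_ne_zero_of_finite
  have hk1 : 1 ≤ k := Nat.pos_of_ne_zero Subgroup.index_ne_zero_of_finite
  have hkw : q ^ (2 * m) + k ≤ k * w + 1 := by
    obtain ⟨w', hw'⟩ : ∃ w', w = w' + 1 := ⟨w - 1, by omega⟩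
    rw [hw', Nat.add_sub_cancel] at hcount
    rw [hw', mul_add, mul_one]
    omega
  have hN : pts q (2 * (m + 1)) = q * (q * pts q (2 * m) + 1) + 1 := by
    rw [show 2 * (m + 1) = 2 * m + 1 + 1 by ring, pts_succ, pts_succ]
  have hpow := pts_mul q (2 * m) (by omega)
  have hP : 1 ≤ pts q (2 * m) := pts_pos q (by omega)
  set P := pts q (2 * m) with hPd
  rw [hN]
  obtain ⟨r, hr⟩ : ∃ r, q = r + 1 := ⟨q - 1, by omega⟩
  rw [hr, Nat.add_sub_cancel, ← hr] at hpow
  by_cases hT : σ.T2 K = ⊥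
  · have ht' : t = r := by
      rw [ht, hT, Subgroup.index_bot]
      have := card_units_field (F := F)
      omega
    have hz2 : 2 ≤ z := by
      have h1 := mt AddSubgroup.index_eq_one.1 hZ
      have : z ≠ 0 := AddSubgroup.index_ne_zero_of_finite
      omega
    have h1 : q ^ (2 * m) ≤ k * w := by omega
    rw [ht']
    refine le_trans (b := q ^ (2 * m) * r * 2) ?_ ?_
    · rw [← hpow, hr]
      have hr3 : 3 ≤ r := by omega
      nlinarith [Nat.mul_le_mul_left (r * P) hr3, Nat.mul_le_mul_left P hr3]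
    · calc q ^ (2 * m) * r * 2 ≤ k * w * r * z := Nat.mul_le_mul (Nat.mul_le_mul_right r h1) hz2
        _ = _ := by ring
  have htz : q ≤ t * z := index_mul_char_two hZ fun a ha c hc => σ.Zp_inv K ha hc
  have hT2 : 2 ≤ Nat.card (σ.T2 K) := Finite.one_lt_card_iff_nontrivial.2
    ((Subgroup.nontrivial_iff_ne_bot _).2 hT)
  have hklow : lowFree q m ≤ k := by
    have hlow2 : lowFree q m ≤ 2 * P := by
      unfold lowFree
      split_ifs with h1
      · subst h1
        have e : P = q + 1 := by rw [hPd]; simp [pts, Finset.sum_range_succ, add_comm]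
        omega
      · have : pts q 4 ≤ P := pts_mono q (by omega)
        have : 2 ≤ pts q 4 := by simp [pts, Finset.sum_range_succ]; omega
        omega
    by_cases hT1 : σ.T1 K = ⊥
    · have hJ : σ.Jb K ≠ ⊤ := fun hJ => by
        have hI := I1_eq_top σ (perfect_W' σ hq) hJ
        have h1 := σ.card_Im K
        rw [σ.card_Im' K, hI, hJ, hT1, Subgroup.card_bot, mul_one] at h1
        have : 0 < Nat.card (⊤ : Subgroup (Alt.isoGroup σ.BW)) := Nat.card_pos
        nlinarith
      have h1 := σ.card_Im K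
      rw [σ.card_Im' K, hT1, Subgroup.card_bot, mul_one] at h1
      have h2 := (σ.Jb K).card_mul_index
      have h3 := (σ.I1 K).card_mul_index
      rw [← h3, h1, mul_assoc] at h2
      have h4 : Nat.card (σ.T2 K) * (σ.Jb K).index = k := Nat.eq_of_mul_eq_mul_left Nat.card_pos h2
      refine le_trans hlow2 ?_
      rw [← h4]
      exact Nat.mul_le_mul hT2 ((hih σ _ hJ).1)
    · obtain ⟨a, ha, ha1⟩ : ∃ a ∈ σ.T1 K, a ≠ 1 := by
        by_contra hc; push Not at hc; exact hT1 ((Subgroup.eq_bot_iff_forall _).2 hc)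
      have hIfree : Free σ.hA_W (σ.I1 K) := fun x hx => by
        by_contra hc
        push Not at hc
        exact not_free_of_root σ 2 (sq_ne_one_of_ne_one ha1) ha hx hc hKfree
      have hne : σ.I1 K ≠ ⊤ := fun e => by
        have : Nontrivial σ.W := Module.nontrivial_of_finrank_pos (R := F) (by omega)
        obtain ⟨x, hx⟩ := exists_ne (0 : σ.W)
        obtain ⟨c, hc⟩ := hIfree x hx
        exact hc (by rw [e]; trivial)
      exact (hih σ _ hne).2 hIfree
  have hgoal : q * (k * w) ≤ k * t * (w * z) := by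
    calc q * (k * w) ≤ t * z * (k * w) := Nat.mul_le_mul_right _ htz
      _ = _ := by ring
  refine le_trans ?_ hgoal
  unfold lowFree at hklow
  split_ifs at hklow with h1
  · subst h1
    have e : P = q + 1 := by rw [hPd]; simp [pts, Finset.sum_range_succ, add_comm]
    have hgoal2 : q ^ 2 + q + 2 ≤ k * w := by
      by_cases hwq : q ≤ w
      · have := Nat.mul_le_mul hklow hwq
        nlinarith
      · have hwq' : w + 1 ≤ q := by omega
        have h3 : k * w + k ≤ k * q := by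
          calc k * w + k = k * (w + 1) := by ring
            _ ≤ _ := Nat.mul_le_mul_left _ hwq'
        by_contra hlt
        have h4 : k ≤ q + 2 := by
          rw [mul_one] at hkw
          omega
        have h5 : k = q + 2 := by omega
        rw [h5] at h3 hkw hlt
        nlinarith
    rw [e]
    nlinarith [Nat.mul_le_mul_left q hgoal2]
  · have h2 : q ^ (2 * m) + P + 1 ≤ k * w := by
      rw [← hPd] at hklow
      omega
    refine le_trans ?_ (Nat.mul_le_mul_left q h2)
    rw [← hpow, hr]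
    nlinarith

end Dim

/-- The bounds in characteristic two. -/
theorem min_index_even (hq : 4 ≤ Nat.card F) : ∀ n, ∀ {V : Type uV} [AddCommGroup V] [Module F V]
    [FiniteDimensional F V] {B : LinearMap.BilinForm F V} (hA : B.IsAlt), B.Nondegenerate →
    finrank F V = 2 * (n + 1) → ∀ H : Subgroup (Alt.isoGroup B), H ≠ ⊤ →
    pts (Nat.card F) (2 * (n + 1)) ≤ H.index ∧ (Free hA H → lowFree (Nat.card F) (n + 1) ≤ H.index) := by
  intro n
  induction n with
  | zero =>
    intro V _ _ _ B hA hB hd H hH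
    have hfree2 : Free hA H → Nat.card F + 2 ≤ H.index := free_plane hA hB hd hq hH
    have hp : pts (Nat.card F) (2 * (0 + 1)) = Nat.card F + 1 := by simp [pts, Finset.sum_range_succ, add_comm]
    refine ⟨?_, fun h => by simpa [lowFree] using hfree2 h⟩
    by_cases hfree : Free hA H
    · have := hfree2 hfree; omega
    unfold Free at hfree
    push Not at hfree
    obtain ⟨v0, hv0, hD⟩ := hfree
    have : Finite V := Module.finite_of_finite F
    have : Finite (Alt.isoGroup B) := Fr.finite_iso B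
    obtain ⟨σ, rfl⟩ := exists_frame hA hB hv0
    have hperp : ∀ d ∈ dset hA H, B d σ.y = 0 := by
      intro d hd'
      by_contra hdv
      refine hH (Alt.eq_top_of_tvE hA hB H fun x c => ?_)
      have hsp : Submodule.span F ({σ.y, d} : Set V) = ⊤ := by
        refine Submodule.eq_top_of_finrank_eq ?_
        have hli : LinearIndependent F ![σ.y, d] :=
          (LinearIndependent.pair_iff' σ.y_ne).2 fun a ha => hdv (by rw [← ha, map_smul, LinearMap.smul_apply, hA σ.y, smul_zero])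
        have h2 := finrank_span_eq_card hli
        rw [show Set.range ![σ.y, d] = ({σ.y, d} : Set V) by simp [Set.pair_comm], Fintype.card_fin] at h2
        omega
      obtain ⟨a, b, rfl⟩ := Submodule.mem_span_pair.1 (show x ∈ Submodule.span F ({σ.y, d} : Set V) by
        rw [hsp]; trivial)
      exact dset_plane hA hD hd' hdv a b c
    rw [hp, ← show σ.P.index = Nat.card F + 1 by rw [index_P σ 0 hd, hp]]
    refine Subgroup.index_antitone fun g hg => ?_
    have h1 := hperp _ (dset_map hA hg hD)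
    have h2 := σ.decomp (g.1 σ.y)
    have : Subsingleton σ.W := Module.finrank_zero_iff.1 (show finrank F σ.W = 0 by have := σ.finrank_W; omega)
    rw [Subsingleton.elim (σ.pr (g.1 σ.y)) 0, Submodule.coe_zero, zero_add, h1, neg_zero, zero_smul, add_zero] at h2
    have ha0 : B (g.1 σ.y) σ.f ≠ 0 := fun h0 => σ.y_ne (g.1.map_eq_zero_iff.1 (by rw [h2, h0, zero_smul]))
    exact ⟨Units.mk0 _ ha0, h2⟩
  | succ n ih =>
    intro V _ _ _ B hA hB hd H hH
    have hihW : ∀ (σ : Fr B) (J : Subgroup (Alt.isoGroup σ.BW)), J ≠ ⊤ →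
        pts (Nat.card F) (2 * (n + 1)) ≤ J.index ∧ (Free σ.hA_W J → lowFree (Nat.card F) (n + 1) ≤ J.index) :=
      fun σ J hJ => ih σ.hA_W σ.hB_W (by have := σ.finrank_W; omega) J hJ
    have hstep : Free hA H → pts (Nat.card F) (2 * (n + 1 + 1)) + 2 ≤ H.index := fun hf =>
      step_free hA hB (n + 1) (by omega) hd hq hihW hH hf
    refine ⟨?_, fun hf => by simpa [lowFree] using hstep hf⟩
    by_cases hfree : Free hA H
    · have := hstep hfree; omega
    · exact index_of_not_free hA hB (n + 1) hd (by omega) (by omega) _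
        (fun _ => pts_mono _ (by omega)) (fun σ J hJ _ => (hihW σ J hJ).1) hH hfree

end Cfsg.Agent.MinIndexForm.Sp
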