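import Cfsg.Agent.MinIndexForm.Sp.Moved

/-!
Characteristic two, dimension two.
-/

set_option autoImplicit false

namespace Cfsg.Agent.MinIndexForm.Sp

open Cfsg.Agent.Classical Module

universe uF uV
variable {F : Type uF} {V : Type uV} [Field F] [AddCommGroup V] [Module F V] {B : LinearMap.BilinForm F V}

/-- A double coset different from the trivial one adds its orbit size. -/
theorem orbit_sum_of_not [Finite F] [FiniteDimensional F V] (σ : Fr B) (K : Subgroup (Alt.isoGroup B))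
    {g : Alt.isoGroup B} (hg : ∀ x ∈ σ.P, ∀ k ∈ K, g ≠ x * k) :
    K.relIndex σ.P + (conjS g K).relIndex σ.P ≤ K.index := by
  have : Finite (Alt.isoGroup B) := Fr.finite_iso B
  let G := Alt.isoGroup B
  let o : G → Set (G ⧸ K) := fun a => Set.range fun x : σ.P => ((x.1 * a : G) : G ⧸ K)
  have hsize : ∀ a, (conjS a K).relIndex σ.P = (o a).ncard := fun a => by
    rw [Subgroup.relIndex, Subgroup.index, ← Nat.card_coe_set_eq]
    refine Nat.card_congr (Equiv.ofBijective (fun x => (⟨((x.out.1 * a : G) : G ⧸ K), x.out, rfl⟩ : o a)) ⟨?_, ?_⟩)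
    · intro x x' h
      have h' := QuotientGroup.eq.1 (congrArg Subtype.val h)
      rw [← x.out_eq, ← x'.out_eq]
      refine Quotient.sound (QuotientGroup.leftRel_apply.2 ?_)
      rw [Subgroup.mem_subgroupOf, mem_conjS]
      simpa [mul_assoc] using h'
    · rintro ⟨_, y, rfl⟩
      refine ⟨(y : σ.P ⧸ (conjS a K).subgroupOf σ.P), Subtype.ext (QuotientGroup.eq.2 ?_)⟩
      obtain ⟨n, hn⟩ := QuotientGroup.mk_out_eq_mul ((conjS a K).subgroupOf σ.P) y
      have hn' := n.2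
      rw [Subgroup.mem_subgroupOf, mem_conjS] at hn'
      rw [hn]
      have := K.inv_mem hn'
      simpa [mul_assoc] using this
  have hdis : Disjoint (o 1) (o g) := by
    rw [Set.disjoint_iff]
    rintro _ ⟨⟨x, rfl⟩, y, hy⟩
    refine hg (y.1⁻¹ * x.1) (mul_mem (inv_mem y.2) x.2) (((x.1 * 1)⁻¹ * (y.1 * g))) (QuotientGroup.eq.1 hy.symm) ?_
    group
  have h1 : conjS 1 K = K := Subgroup.ext fun x => by simp [mem_conjS]
  rw [show K.relIndex σ.P = (o 1).ncard by rw [← hsize 1, h1], hsize g, ← Set.ncard_union_eq hdis (Set.toFinite _) (Set.toFinite _), Subgroup.index,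
    ← Set.ncard_univ]
  exact Set.ncard_le_ncard (Set.subset_univ _) (Set.toFinite _)

/-- Two double cosets give the sum of two orbit sizes. -/
theorem orbit_sum [Finite F] [FiniteDimensional F V] (σ : Fr B) (K : Subgroup (Alt.isoGroup B)) :
    (∀ g : Alt.isoGroup B, ∃ x ∈ σ.P, ∃ k ∈ K, g = x * k) ∨
      ∃ h, K.relIndex σ.P + (conjS h K).relIndex σ.P ≤ K.index := by
  by_cases hc : ∀ g : Alt.isoGroup B, ∃ x ∈ σ.P, ∃ k ∈ K, g = x * k
  · exact Or.inl hc
  push Not at hc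
  obtain ⟨g, hg⟩ := hc
  exact Or.inr ⟨g, orbit_sum_of_not σ K hg⟩

variable [Finite F] [FiniteDimensional F V] [CharP F 2]

omit [FiniteDimensional F V] in
theorem sq_ne_one_of_ne_one {a : Fˣ} (ha : a ≠ 1) : (a : F) ^ 2 ≠ 1 := fun h =>
  ha (Units.ext (CharTwo.sq_inj.1 (by rw [h, Units.val_one, one_pow])))

/-- A transvection group, or at least `q + 2` cosets, in dimension two. -/
theorem free_plane (hA : B.IsAlt) (hB : B.Nondegenerate) (hd : finrank F V = 2) (hq : 4 ≤ Nat.card F)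
    {H : Subgroup (Alt.isoGroup B)} (hH : H ≠ ⊤) (hfree : Free hA H) : Nat.card F + 2 ≤ H.index := by
  have : Fact (Nat.Prime 2) := ⟨Nat.prime_two⟩
  have : Finite V := Module.finite_of_finite F
  have : Finite (Alt.isoGroup B) := Fr.finite_iso B
  have : Nontrivial V := Module.nontrivial_of_finrank_pos (R := F) (by omega)
  obtain ⟨v, hv⟩ := exists_ne (0 : V)
  obtain ⟨σ, -⟩ := exists_frame hA hB hv
  have hW0 : finrank F σ.W = 0 := by have := σ.finrank_W; omega
  have : Subsingleton σ.W := Module.finrank_zero_iff.1 hW0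
  have : Subsingleton (Alt.isoGroup σ.BW) := ⟨fun a b => Subtype.ext (LinearEquiv.ext fun w => Subsingleton.elim _ _)⟩
  set q := Nat.card F with hqd
  -- every orbit
  have horb : ∀ h, (conjS h H).relIndex σ.P = (σ.T2 (conjS h H)).index * (σ.Zp (conjS h H)).index ∧
      q ≤ (σ.T2 (conjS h H)).index * (σ.Zp (conjS h H)).index := fun h => by
    have hZ := Zp_ne_top_of_free σ (free_conjS hA (h := h) hfree)
    refine ⟨?_, index_mul_char_two hZ fun a ha c hc => σ.Zp_inv _ ha hc⟩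
    rw [σ.relIndex_P, Subgroup.index_eq_one.2 (Subsingleton.elim (σ.I1 (conjS h H)) ⊤),
      AddSubgroup.index_eq_one.2 (Subsingleton.elim (σ.Sb (conjS h H)) ⊤), one_mul, one_mul]
  have h1 : conjS 1 H = H := Subgroup.ext fun x => by simp [mem_conjS]
  by_contra hlt
  push Not at hlt
  -- the torus part is non-trivial
  have hT : σ.T2 H ≠ ⊥ := fun hT => by
    obtain ⟨he, -⟩ := horb 1
    rw [h1] at he
    have hle := σ.relIndex_P_le H
    rw [he, hT, Subgroup.index_bot] at hle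
    have hz : 2 ≤ (σ.Zp H).index := by
      have h := mt AddSubgroup.index_eq_one.1 (Zp_ne_top_of_free σ hfree)
      have : (σ.Zp H).index ≠ 0 := AddSubgroup.index_ne_zero_of_finite
      omega
    have h4 := card_units_field (F := F)
    nlinarith
  obtain ⟨a, ha, ha1⟩ : ∃ a ∈ σ.T2 H, a ≠ 1 := by
    by_contra hc; push Not at hc; exact hT ((Subgroup.eq_bot_iff_forall _).2 hc)
  obtain ⟨l0, hl0⟩ := (σ.mem_T2 H).1 ha
  rw [Subsingleton.elim l0 1] at hl0
  obtain ⟨h, hlift⟩ := σ.lift 2 (K := H) (z0 := 1) (e := 1) (fun w => by simp)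
    (by rw [mul_one]; exact fun e => ha1 (Units.ext e)) (Or.inl (sq_ne_one_of_ne_one ha1)) hl0
  set K := conjS h H with hK
  have hKd : K.index = H.index := index_conjS h H
  obtain ⟨hKe, hKq⟩ := horb h
  rcases orbit_sum σ K with htrans | ⟨g, hg⟩
  swap
  · obtain ⟨he2, hq2⟩ := horb (g * h)
    have : conjS g K = conjS (g * h) H := Subgroup.ext fun x => by simp [hK, mem_conjS, mul_assoc]
    rw [this, hKe, he2] at hg
    omega
  -- one double coset
  have hrel : K.relIndex σ.P = K.index := by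
    refine le_antisymm (σ.relIndex_P_le K) ?_
    rw [Subgroup.index, Subgroup.relIndex, Subgroup.index]
    refine Nat.card_le_card_of_surjective (fun x => ((x.out.1 : Alt.isoGroup B) : Alt.isoGroup B ⧸ K)) fun y => ?_
    obtain ⟨x, hx, k, hk, e⟩ := htrans y.out
    refine ⟨((⟨x, hx⟩ : σ.P) : σ.P ⧸ K.subgroupOf σ.P), ?_⟩
    obtain ⟨n, hn⟩ := QuotientGroup.mk_out_eq_mul (K.subgroupOf σ.P) (⟨x, hx⟩ : σ.P)
    rw [← y.out_eq]
    show _ = ((y.out : Alt.isoGroup B) : Alt.isoGroup B ⧸ K)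
    rw [QuotientGroup.eq, hn, e]
    have := K.mul_mem (K.inv_mem (Subgroup.mem_subgroupOf.1 n.2)) hk
    simpa [mul_assoc] using this
  set t := (σ.T2 K).index with ht
  set z := (σ.Zp K).index with hz
  rw [hKe, hKd] at hrel
  -- the arithmetic
  have hzdvd : z ∣ q := (σ.Zp K).index_dvd_card
  have htdvd : t ∣ Nat.card Fˣ := (σ.T2 K).index_dvd_card
  have h4 := card_units_field (F := F)
  rw [← hqd] at h4
  obtain ⟨e, he⟩ : ∃ e, q = 2 ^ (e + 2) := by
    have : Fintype F := Fintype.ofFinite F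
    obtain ⟨e, -, he⟩ := FiniteField.card F 2
    rw [← Nat.card_eq_fintype_card, ← hqd] at he
    rcases hn : (e : ℕ) with _ | _ | n
    · exact absurd hn e.2.ne'
    · rw [hn] at he; omega
    · exact ⟨n, by rw [he, hn]⟩
  have hz2 : 2 ∣ z := by
    obtain ⟨i, -, hi⟩ := (Nat.dvd_prime_pow Nat.prime_two).1 (he ▸ hzdvd)
    rcases i with _ | i
    · exfalso
      exact Zp_ne_top_of_free σ (free_conjS hA (h := h) hfree) (AddSubgroup.index_eq_one.1 (show z = 1 by simpa using hi))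
    · exact ⟨2 ^ i, by rw [hi, pow_succ]; ring⟩
  have hqeven : 2 ∣ q := ⟨2 ^ (e + 1), by rw [he, pow_succ]; ring⟩
  have hd_eq : t * z = q := by
    have hev : 2 ∣ t * z := Dvd.dvd.mul_left hz2 t
    omega
  have htcop : Nat.Coprime t z := by
    refine Nat.Coprime.coprime_dvd_right hzdvd (Nat.Coprime.coprime_dvd_left htdvd ?_)
    rw [← h4]; simp
  have ht1 : t = 1 := by
    have htq : t ∣ q := ⟨z, hd_eq.symm⟩
    have : t ∣ Nat.gcd (Nat.card Fˣ) q := Nat.dvd_gcd htdvd htq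
    rw [← h4, Nat.gcd_self_add_right, Nat.gcd_one_right] at this
    exact Nat.dvd_one.1 this
  have hzq : z = q := by rw [ht1, one_mul] at hd_eq; exact hd_eq
  -- the stabiliser of the point is the torus
  have htora : σ.tor a ∈ K := by
    obtain ⟨c', hc', hc0⟩ := hlift 1 a hl0
    rw [hc0 (sq_ne_one_of_ne_one ha1)] at hc'
    simpa [σ.sh_zero] using hc'
  have h6 : σ.Zp K = ⊥ := by
    apply AddSubgroup.eq_bot_of_card_eq
    have := (σ.Zp K).card_mul_index
    rw [← hz, hzq, ← hqd] at this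
    nlinarith
  have hstab : ∀ k ∈ K, k ∈ σ.P → ∃ b : Fˣ, k = σ.tor b := by
    intro k hk hkP
    obtain ⟨b, u, c, l, rfl⟩ := σ.exists_par hkP
    rw [Subsingleton.elim u 0, Subsingleton.elim l 1] at hk ⊢
    refine ⟨b, ?_⟩
    have h5 : σ.sh 0 ((b : F) ^ 2 * (((a : F) ^ 2 - 1) * c)) ∈ K := by
      have h8 := mul_mem (mul_mem (mul_mem htora hk) (inv_mem htora)) (inv_mem hk)
      have e1 : σ.tor a * σ.par b 0 c 1 * (σ.tor a)⁻¹ * (σ.par b 0 c 1)⁻¹ =
          σ.sh 0 ((b : F) ^ 2 * (((a : F) ^ 2 - 1) * c)) := by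
        rw [mul_inv_eq_iff_eq_mul, mul_inv_eq_iff_eq_mul]
        simp only [Fr.par, map_one, mul_one]
        rw [σ.tor_mul_sh_zero b, ← mul_assoc (σ.sh 0 _), σ.sh_mul, mul_assoc _ (σ.tor b), σ.tor_mul,
          ← mul_assoc, σ.tor_mul_sh_zero a, mul_assoc, σ.tor_mul, mul_comm a b]
        congr 2
        · simp
        · rw [show ((0 : σ.W) : V) = 0 from rfl, map_zero]
          ring
      rwa [e1] at h8
    have h7 := (AddSubgroup.mem_bot).1 (h6 ▸ ((σ.mem_Zp K).2 h5))
    have hc : c = 0 := by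
      simpa [sub_eq_zero, sq_ne_one_of_ne_one ha1] using h7
    simp [Fr.par, hc, σ.sh_zero]
  -- an element moving the point to its partner
  have hf0 : σ.f ≠ 0 := fun h0 => by simpa [h0] using σ.hyf
  obtain ⟨w, hw⟩ := Alt.exists_iso_map σ.hA σ.hB σ.y_ne hf0
  obtain ⟨x, hxP, k, hk, hwe⟩ := htrans w⁻¹
  obtain ⟨b, hb⟩ := hxP
  set g := k⁻¹ with hg
  have hgy : g.1 σ.y = (b : F) • σ.f := by
    rw [show g = w * x by rw [hg, ← mul_left_inj k, inv_mul_cancel, mul_assoc, ← hwe, mul_inv_cancel]]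
    simp [LinearEquiv.mul_apply, hb, hw]
  have hgK : g ∈ K := K.inv_mem hk
  have hconjy : (g⁻¹ * σ.tor a * g).1 σ.y = ((a⁻¹ : Fˣ) : F) • σ.y := by
    simp only [Subgroup.coe_mul, LinearEquiv.mul_apply, hgy, map_smul, σ.tor_f]
    rw [smul_comm, ← map_smul _ (b : F) σ.f, ← hgy]
    congr 1
    exact Alt.inv_apply_self _ _
  obtain ⟨b', hb'⟩ := hstab _ (mul_mem (mul_mem (inv_mem hgK) htora) hgK) ⟨_, hconjy⟩
  rw [hb', σ.tor_y] at hconjy
  have hb'a : b' = a⁻¹ := Units.ext (smul_left_injective F σ.y_ne hconjy)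
  have hgf : (σ.tor a).1 (g.1 σ.f) = (a : F) • g.1 σ.f := by
    have h9 : σ.tor a * g = g * σ.tor a⁻¹ := by rw [← hb'a, ← hb']; group
    have := congrArg (fun x : Alt.isoGroup B => x.1 σ.f) h9
    simp only [Subgroup.coe_mul, LinearEquiv.mul_apply, σ.tor_f, inv_inv, map_smul] at this
    exact this
  have hgf' : ∃ r : F, g.1 σ.f = r • σ.y := by
    have hd2 := σ.decomp (g.1 σ.f)
    rw [Subsingleton.elim (σ.pr (g.1 σ.f)) 0, Submodule.coe_zero, zero_add] at hd2
    refine ⟨B (g.1 σ.f) σ.f, ?_⟩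
    rw [hd2] at hgf
    simp only [map_add, map_smul, σ.tor_y, σ.tor_f, smul_smul, smul_add] at hgf
    rw [mul_comm (a : F) (B (g.1 σ.f) σ.f), add_right_inj] at hgf
    have h0 : (-B (g.1 σ.f) σ.y * ((a⁻¹ : Fˣ) : F) - (a : F) * -B (g.1 σ.f) σ.y) • σ.f = 0 := by
      rw [sub_smul, hgf, sub_self]
    have hne : ((a⁻¹ : Fˣ) : F) - (a : F) ≠ 0 := by
      rw [sub_ne_zero]
      intro e
      refine sq_ne_one_of_ne_one ha1 ?_
      rw [pow_two]
      nth_rewrite 1 [← e]
      exact Units.inv_mul a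
    have h1' : -B (g.1 σ.f) σ.y = 0 := by
      have := (smul_eq_zero.1 h0).resolve_right hf0
      have e : (-B (g.1 σ.f) σ.y) * (((a⁻¹ : Fˣ) : F) - (a : F)) = 0 := by linear_combination this
      exact (mul_eq_zero.1 e).resolve_right hne
    conv_lhs => rw [hd2, h1', zero_smul, add_zero]
  obtain ⟨r, hr⟩ := hgf'
  have hr0 : r ≠ 0 := fun h0 => hf0 (g.1.map_eq_zero_iff.1 (by rw [hr, h0, zero_smul]))
  have hg2 : g * g ∈ σ.P := by
    refine ⟨Units.mk0 ((b : F) * r) (mul_ne_zero b.ne_zero hr0), ?_⟩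
    rw [Subgroup.coe_mul, LinearEquiv.mul_apply, hgy, map_smul, hr, smul_smul, Units.val_mk0]
  -- the subgroup has odd order
  have hcardK : Odd (Nat.card K) := by
    have : Fintype F := Fintype.ofFinite F
    have hG := Alt.card_isoGroup σ.hA σ.hB 1 (by omega)
    rw [Fintype.card_eq_nat_card, ← hqd] at hG
    simp at hG
    have hidx := K.card_mul_index
    rw [hG, hKd, ← hrel, hd_eq, mul_comm q] at hidx
    rw [Nat.eq_of_mul_eq_mul_right (by omega) hidx]
    rw [Nat.odd_iff]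
    obtain ⟨j, hj⟩ : 2 ∣ q ^ 2 := Dvd.dvd.pow hqeven (by norm_num)
    have hq2 : 1 ≤ q ^ 2 := Nat.one_le_pow _ _ (by omega)
    omega
  have hgo : Odd (orderOf g) := by
    refine Odd.of_dvd_nat hcardK ?_
    have := orderOf_dvd_natCard (⟨g, hgK⟩ : K)
    rwa [← Subgroup.orderOf_coe] at this
  have hgP : g ∈ σ.P := by
    obtain ⟨j, hj⟩ := hgo
    have : g = (g * g) ^ (j + 1) := by
      rw [← pow_two, ← pow_mul, show 2 * (j + 1) = orderOf g + 1 by omega, pow_succ, pow_orderOf_eq_one, one_mul]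
    rw [this]
    exact pow_mem hg2 _
  obtain ⟨c, hc⟩ := hgP
  rw [hgy] at hc
  have := congrArg (fun x => B σ.y x) hc
  simp [σ.hyf, σ.hA σ.y] at this

end Cfsg.Agent.MinIndexForm.Sp
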