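import Cfsg.Agent.MinIndexForm.Sp.Count

/-!
Arithmetic of additive subgroups of a finite field invariant under squares of a multiplicative subgroup, and the
annihilator of an additive subgroup under a form composed with an additive functional.
-/

set_option autoImplicit false

namespace Cfsg.Agent.MinIndexForm.Sp

open Module

variable {F : Type*} [Field F] [Finite F]

theorem card_units_field : Nat.card Fˣ + 1 = Nat.card F := by
  have := Nat.card_units F
  have : 0 < Nat.card F := Nat.card_pos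
  omega

/-- The scalars preserving a proper additive subgroup are at most as many as its index. -/
theorem mult_le_index {Z : AddSubgroup F} (hZ : Z ≠ ⊤) (R : Set F) (hR : ∀ r ∈ R, ∀ c ∈ Z, r * c ∈ Z)
    (hsub : ∀ r ∈ R, ∀ r' ∈ R, r ≠ r' → ∀ x, (r - r') * x ∈ Z → x ∈ Z) : Nat.card R ≤ Z.index := by
  obtain ⟨x, -, hx⟩ := SetLike.exists_of_lt (lt_top_iff_ne_top.2 hZ)
  refine Nat.card_le_card_of_injective (β := F ⧸ Z) (fun r : R => (QuotientAddGroup.mk (r.1 * x) : F ⧸ Z))
    fun r r' h => ?_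
  by_contra hne
  refine hx (hsub r.1 r.2 r'.1 r'.2 (fun e => hne (Subtype.ext e)) x ?_)
  have h' := QuotientAddGroup.eq.1 h
  rw [neg_add_eq_sub] at h'
  rw [sub_mul]
  simpa using Z.neg_mem h'

theorem card_map_sq_lt {Z : AddSubgroup F} (hZ : Z ≠ ⊤) {T : Subgroup Fˣ}
    (hT : ∀ a ∈ T, ∀ c ∈ Z, (a : F) ^ 2 * c ∈ Z) :
    Nat.card (T.map (powMonoidHom 2 : Fˣ →* Fˣ)) + 1 ≤ Z.index := by
  set R : Set F := insert 0 ((fun u : Fˣ => (u : F)) '' (T.map (powMonoidHom 2 : Fˣ →* Fˣ) : Set Fˣ)) with hR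
  have hmem : ∀ r ∈ R, ∀ c ∈ Z, r * c ∈ Z := by
    intro r hr c hc
    rcases hr with rfl | ⟨u, ⟨a, ha, rfl⟩, rfl⟩
    · simp [Z.zero_mem]
    · simpa using hT a ha c hc
  have hle : Nat.card R ≤ Z.index := by
    refine mult_le_index hZ R hmem fun r hr r' hr' hne x hx => ?_
    have hinj : Function.Injective fun c : Z => (⟨(r - r') * c.1, by
        rw [sub_mul]; exact Z.sub_mem (hmem r hr c.1 c.2) (hmem r' hr' c.1 c.2)⟩ : Z) := fun c c' h =>
      Subtype.ext (mul_left_cancel₀ (sub_ne_zero.2 hne) (congrArg Subtype.val h))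
    obtain ⟨c, hc⟩ := (Finite.injective_iff_surjective.1 hinj) ⟨_, hx⟩
    have : c.1 = x := mul_left_cancel₀ (sub_ne_zero.2 hne) (congrArg Subtype.val hc)
    exact this ▸ c.2
  refine le_trans (le_of_eq ?_) hle
  rw [Nat.card_coe_set_eq R, hR, Set.ncard_insert_of_notMem ?_ (Set.toFinite _),
    Set.ncard_image_of_injective _ Units.val_injective, ← Nat.card_coe_set_eq]
  · rfl
  · rintro ⟨u, -, hu⟩
    exact u.ne_zero hu

theorem card_le_two_mul_sq (T : Subgroup Fˣ) :
    Nat.card T ≤ 2 * Nat.card (T.map (powMonoidHom 2 : Fˣ →* Fˣ)) := by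
  set f := (powMonoidHom 2 : Fˣ →* Fˣ).comp T.subtype with hf
  have hk : Nat.card f.ker ≤ 2 := by
    refine le_trans (Nat.card_le_card_of_injective (β := rootsOfUnity 2 F)
      (fun x => ⟨(x.1 : Fˣ), by rw [mem_rootsOfUnity]; exact (x.2 : f x.1 = 1)⟩)
      fun x x' h => Subtype.ext (Subtype.ext (congrArg (fun z : rootsOfUnity 2 F => (z : Fˣ)) h))) ?_
    exact card_rootsOfUnity F 2
  rw [Subgroup.card_eq_card_quotient_mul_card_subgroup f.ker,
    Nat.card_congr (QuotientGroup.quotientKerEquivRange f).toEquiv, hf, MonoidHom.range_comp, Subgroup.range_subtype,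
    mul_comm]
  exact Nat.mul_le_mul_right _ hk

theorem card_eq_sq_of_char_two [CharP F 2] (T : Subgroup Fˣ) :
    Nat.card (T.map (powMonoidHom 2 : Fˣ →* Fˣ)) = Nat.card T := by
  refine (Nat.card_congr (Equiv.ofBijective (fun a : T => (⟨(powMonoidHom 2 : Fˣ →* Fˣ) a.1,
    ⟨a.1, a.2, rfl⟩⟩ : T.map (powMonoidHom 2 : Fˣ →* Fˣ))) ⟨fun a b h => ?_, ?_⟩)).symm
  · have h' : ((a.1 : F)) ^ 2 = (b.1 : F) ^ 2 := by
      simpa using congrArg (fun z : T.map (powMonoidHom 2 : Fˣ →* Fˣ) => ((z : Fˣ) : F)) h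
    exact Subtype.ext (Units.ext (CharTwo.sq_inj.1 h'))
  · rintro ⟨_, a, ha, rfl⟩; exact ⟨⟨a, ha⟩, rfl⟩

/-- The index of the torus part times the index of the central part is at least half the field. -/
theorem two_index_mul {Z : AddSubgroup F} (hZ : Z ≠ ⊤) {T : Subgroup Fˣ}
    (hT : ∀ a ∈ T, ∀ c ∈ Z, (a : F) ^ 2 * c ∈ Z) : Nat.card F ≤ 2 * (T.index * Z.index) := by
  have h1 := card_map_sq_lt hZ hT
  have h2 := card_le_two_mul_sq T
  have h3 := T.card_mul_index
  have h4 := card_units_field (F := F)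
  have hz : Z.index ≤ Nat.card F := Nat.card_le_card_of_surjective _ QuotientAddGroup.mk_surjective
  set s := Nat.card (T.map (powMonoidHom 2 : Fˣ →* Fˣ))
  set t := T.index
  have h5 : Nat.card Fˣ * Z.index ≤ 2 * (t * Z.index) * s := by
    rw [← h3]
    calc Nat.card T * t * Z.index ≤ 2 * s * t * Z.index := by gcongr
      _ = _ := by ring
  by_contra hlt
  push Not at hlt
  have h6 : 2 * (t * Z.index) * s ≤ (Nat.card F - 1) * s := Nat.mul_le_mul_right _ (by omega)
  have h7 : (Nat.card F - 1) * s < Nat.card Fˣ * Z.index := by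
    rw [show Nat.card F - 1 = Nat.card Fˣ by omega]
    exact Nat.mul_lt_mul_of_pos_left (by omega) Nat.card_pos
  omega

/-- In characteristic two, the full bound. -/
theorem index_mul_char_two [CharP F 2] {Z : AddSubgroup F} (hZ : Z ≠ ⊤) {T : Subgroup Fˣ}
    (hT : ∀ a ∈ T, ∀ c ∈ Z, (a : F) ^ 2 * c ∈ Z) : Nat.card F ≤ T.index * Z.index := by
  have h1 := card_map_sq_lt hZ hT
  rw [card_eq_sq_of_char_two] at h1
  have h3 := T.card_mul_index
  have h4 := card_units_field (F := F)
  have hz : Z.index ≤ Nat.card F := Nat.card_le_card_of_surjective _ QuotientAddGroup.mk_surjective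
  by_contra hlt
  push Not at hlt
  have h6 : T.index * Z.index * Nat.card T ≤ (Nat.card F - 1) * Nat.card T := Nat.mul_le_mul_right _ (by omega)
  have h7 : (Nat.card F - 1) * Nat.card T < Nat.card Fˣ * Z.index := by
    rw [show Nat.card F - 1 = Nat.card Fˣ by omega]
    exact Nat.mul_lt_mul_of_pos_left (by omega) Nat.card_pos
  rw [← h3, mul_comm (Nat.card T), mul_right_comm] at h7
  rw [← h3] at h4
  have : (Nat.card F - 1) * Nat.card T < T.index * Z.index * Nat.card T := by
    rw [mul_right_comm]; rw [mul_right_comm] at h7; exact h7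
  omega

omit [Finite F] in
theorem card_le_two_of_sq_eq_one {T : Subgroup Fˣ} [Finite T] (h : ∀ a ∈ T, (a : F) ^ 2 = 1) : Nat.card T ≤ 2 := by
  refine le_trans (Nat.card_le_card_of_injective (β := rootsOfUnity 2 F)
    (fun x => ⟨(x : Fˣ), by rw [mem_rootsOfUnity]; exact Units.ext (by simpa using h x x.2)⟩)
    fun x x' h => Subtype.ext (congrArg (fun z : rootsOfUnity 2 F => (z : Fˣ)) h)) ?_
  exact card_rootsOfUnity F 2

theorem exists_index_le (p : ℕ) {A : Type*} [AddGroup A] [Finite A] {H : AddSubgroup A} (hH : H ≠ ⊤)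
    (hp : p.Prime) (hA : ∃ k, Nat.card A = p ^ k) : p ≤ H.index := by
  obtain ⟨k, hk⟩ := hA
  have h1 : H.index ∣ p ^ k := hk ▸ H.index_dvd_card
  obtain ⟨i, -, hi⟩ := (Nat.dvd_prime_pow hp).1 h1
  rcases i with _ | i
  · exact absurd (AddSubgroup.index_eq_one.1 (by simpa using hi)) hH
  · rw [hi]; exact le_self_pow₀ hp.one_le (Nat.succ_ne_zero i)

/-- Annihilators: for an additive functional of the field and a non-degenerate form, an additive subgroup and its
annihilator multiply to the whole. -/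
theorem card_annihilator {W : Type*} [AddCommGroup W] [Module F W] [FiniteDimensional F W]
    {b : LinearMap.BilinForm F W} (hb : b.Nondegenerate) (p : ℕ) [Fact p.Prime] [CharP F p]
    (φ : F →+ ZMod p) (hφ : φ ≠ 0) (S : AddSubgroup W) (U : AddSubgroup W)
    (hU : ∀ u, u ∈ U ↔ ∀ s ∈ S, φ (b s u) = 0) :
    Nat.card U * Nat.card S = Nat.card W := by
  letI : Algebra (ZMod p) F := ZMod.algebra F p
  letI : Module (ZMod p) W := Module.compHom W (algebraMap (ZMod p) F)
  haveI : IsScalarTower (ZMod p) F W := IsScalarTower.of_algebraMap_smul fun r x => rfl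
  haveI : Finite W := Module.finite_of_finite F
  haveI : FiniteDimensional (ZMod p) W := Module.Finite.of_finite
  let φl : F →ₗ[ZMod p] ZMod p := φ.toZModLinearMap p
  let c : LinearMap.BilinForm (ZMod p) W := LinearMap.mk₂ (ZMod p) (fun u v => φl (b u v))
    (fun u u' v => by rw [map_add, LinearMap.add_apply, map_add])
    (fun r u v => by
      rw [← algebraMap_smul F r u, map_smul, LinearMap.smul_apply, algebraMap_smul, map_smul])
    (fun u v v' => by rw [map_add, map_add])
    (fun r u v => by rw [← algebraMap_smul F r v, map_smul, algebraMap_smul, map_smul])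
  have hsep : c.SeparatingLeft := by
    intro u hu
    by_contra hu0
    have : ∃ v, b u v ≠ 0 := by
      by_contra h; push Not at h; exact hu0 (hb.1 u h)
    obtain ⟨v, hv⟩ := this
    refine hφ (AddMonoidHom.ext fun x => ?_)
    have h2 : φ (b u ((x / b u v) • v)) = 0 := hu ((x / b u v) • v)
    rw [map_smul, smul_eq_mul, div_mul_cancel₀ _ hv] at h2
    exact h2
  have hc : c.Nondegenerate := by
    refine ⟨hsep, fun v hv => ?_⟩
    by_contra hv0
    have : ∃ u, b u v ≠ 0 := by
      by_contra h; push Not at h; exact hv0 (hb.2 v h)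
    obtain ⟨u, hu⟩ := this
    refine hφ (AddMonoidHom.ext fun x => ?_)
    have h2 : φ (b ((x / b u v) • u) v) = 0 := hv ((x / b u v) • u)
    rw [map_smul, LinearMap.smul_apply, smul_eq_mul, div_mul_cancel₀ _ hu] at h2
    exact h2
  set S' := AddSubgroup.toZModSubmodule p S
  have hUe : Nat.card U = Nat.card (c.orthogonal S') := by
    refine Nat.card_congr (Equiv.subtypeEquivRight fun u => ?_)
    rw [LinearMap.BilinForm.mem_orthogonal_iff, hU]
    exact Iff.rfl
  have hd := LinearMap.BilinForm.finrank_orthogonal hc S'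
  have hle : finrank (ZMod p) S' ≤ finrank (ZMod p) W := Submodule.finrank_le S'
  have hSe : Nat.card S = Nat.card S' := Nat.card_congr (Equiv.subtypeEquivRight fun u => Iff.rfl)
  rw [hUe, hSe, Module.natCard_eq_pow_finrank (K := ZMod p), Module.natCard_eq_pow_finrank (K := ZMod p) (V := S'),
    Module.natCard_eq_pow_finrank (K := ZMod p) (V := W), ← pow_add, hd, Nat.sub_add_cancel hle]

/-- An additive functional killing a proper additive subgroup. -/
theorem exists_functional_zero (p : ℕ) [Fact p.Prime] [CharP F p] {Z : AddSubgroup F} (hZ : Z ≠ ⊤) :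
    ∃ φ : F →+ ZMod p, φ ≠ 0 ∧ ∀ c ∈ Z, φ c = 0 := by
  letI : Algebra (ZMod p) F := ZMod.algebra F p
  have h : AddSubgroup.toZModSubmodule p Z < ⊤ := lt_top_iff_ne_top.2 fun e => hZ (by
    apply (AddSubgroup.toZModSubmodule (M := F) p).injective
    rw [e, map_top])
  obtain ⟨f, hf, hmap⟩ := Submodule.exists_dual_map_eq_bot_of_lt_top h inferInstance
  refine ⟨f.toAddMonoidHom, fun e => hf (LinearMap.ext fun x => DFunLike.congr_fun e x), fun c hc => ?_⟩
  have : f c ∈ (AddSubgroup.toZModSubmodule p Z).map f := ⟨c, hc, rfl⟩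
  rw [hmap] at this
  exact this

end Cfsg.Agent.MinIndexForm.Sp
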