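import Cfsg.Agent.Classical.AltSimple
import Cfsg.Agent.Classical.AltBasis

/-!
The stabiliser of a point in a symplectic group: the unipotent elements `sh u c`, the torus `tor a`, the Levi part
`emb l`, and the unique decomposition `tor a * sh u c * emb l`.
-/

set_option autoImplicit false

namespace Cfsg.Agent.MinIndexForm.Sp

open Cfsg.Agent.Classical Module

variable {F V : Type*} [Field F] [AddCommGroup V] [Module F V]

/-- A non-degenerate alternating form with a hyperbolic pair. -/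
structure Fr (B : LinearMap.BilinForm F V) where
  hA : B.IsAlt
  hB : B.Nondegenerate
  y : V
  f : V
  hyf : B y f = 1

namespace Fr

variable {B : LinearMap.BilinForm F V} (σ : Fr B)

/-- The orthogonal complement of the hyperbolic pair. -/
def W : Submodule F V := Alt.redW B ⊤ σ.y σ.f

/-- The form on the complement. -/
def BW : LinearMap.BilinForm F σ.W := B.compl₁₂ σ.W.subtype σ.W.subtype

theorem BW_apply (u v : σ.W) : σ.BW u v = B (u : V) (v : V) := rfl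

theorem hBfy : B σ.f σ.y = -1 := by rw [Alt.neg' σ.hA σ.y σ.f, σ.hyf]

theorem By (w : σ.W) : B σ.y (w : V) = 0 := (Alt.mem_redW.1 w.2).2.1

theorem Bf (w : σ.W) : B σ.f (w : V) = 0 := (Alt.mem_redW.1 w.2).2.2

theorem Bwy (w : σ.W) : B (w : V) σ.y = 0 := by rw [Alt.neg' σ.hA σ.y w, σ.By, neg_zero]

theorem Bwf (w : σ.W) : B (w : V) σ.f = 0 := by rw [Alt.neg' σ.hA σ.f w, σ.Bf, neg_zero]

theorem y_ne : σ.y ≠ 0 := fun h => by simpa [h] using σ.hyf

theorem hA_W : σ.BW.IsAlt := fun u => σ.hA u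

/-- The projection onto the complement. -/
def pr : V →ₗ[F] σ.W :=
  (Alt.rmap B σ.y σ.f).codRestrict σ.W fun _ => Alt.rmap_mem σ.hA (W := ⊤) trivial trivial trivial σ.hyf

theorem pr_coe (x : V) : (σ.pr x : V) = x - B x σ.f • σ.y + B x σ.y • σ.f := rfl

theorem pr_W (w : σ.W) : σ.pr w = w := Subtype.ext (by simp [pr_coe, σ.Bwy, σ.Bwf])

theorem pr_y : σ.pr σ.y = 0 := Subtype.ext (by simp [pr_coe, σ.hyf, σ.hA σ.y])

theorem pr_f : σ.pr σ.f = 0 := Subtype.ext (by simp [pr_coe, σ.hBfy, σ.hA σ.f])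

theorem decomp (x : V) : x = (σ.pr x : V) + B x σ.f • σ.y + (-B x σ.y) • σ.f := by
  rw [pr_coe, neg_smul]; abel

theorem B_pr (x : V) (w : σ.W) : B (σ.pr x : V) (w : V) = B x (w : V) := by
  simp [pr_coe, σ.By, σ.Bf]

theorem pr_B (w : σ.W) (x : V) : B (w : V) (σ.pr x : V) = B (w : V) x := by
  simp [pr_coe, σ.Bwy, σ.Bwf]

theorem hB_W : σ.BW.Nondegenerate := by
  have : σ.BW.SeparatingLeft := fun u hu => by
    have h := fun x => hu (σ.pr x)
    simp only [BW_apply, σ.pr_B] at h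
    exact Subtype.ext (σ.hB.1 _ h)
  exact ⟨this, fun u hu => this u fun v => by rw [Alt.neg' σ.hA_W v u, hu v, neg_zero]⟩

theorem ndon_W : Alt.NDon B σ.W :=
  Alt.ndon_redW σ.hA (Alt.ndon_top σ.hB) trivial trivial σ.hyf

theorem finrank_W [FiniteDimensional F V] : finrank F σ.W + 2 = finrank F V := by
  rw [← finrank_top F V]
  exact Alt.finrank_redW_add_two σ.hA trivial trivial σ.hyf

theorem ext_frame {g h : V ≃ₗ[F] V} (e1 : g σ.y = h σ.y) (e2 : g σ.f = h σ.f)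
    (e3 : ∀ w : σ.W, g (w : V) = h (w : V)) : g = h :=
  LinearEquiv.ext fun x => by
    conv_lhs => rw [σ.decomp x]
    conv_rhs => rw [σ.decomp x]
    simp only [map_add, map_smul, e1, e2, e3]

/-- The unipotent element `x ↦ x + B(x,y) u + B(x,u) y + c B(x,y) y`. -/
def shE (u : σ.W) (c : F) : V ≃ₗ[F] V where
  toFun x := x + B x σ.y • (u : V) + (B x (u : V) + c * B x σ.y) • σ.y
  map_add' x x' := by simp [add_smul, mul_add]; abel
  map_smul' a x := by simp [smul_smul, mul_add, add_smul, mul_left_comm]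
  invFun x := x - B x σ.y • (u : V) - (B x (u : V) + c * B x σ.y) • σ.y
  left_inv x := by
    simp [σ.Bwy, σ.By, σ.hA σ.y, σ.hA (u : V)]
    module
  right_inv x := by
    simp [σ.Bwy, σ.By, σ.hA σ.y, σ.hA (u : V)]
    module

theorem shE_apply (u : σ.W) (c : F) (x : V) :
    σ.shE u c x = x + B x σ.y • (u : V) + (B x (u : V) + c * B x σ.y) • σ.y := rfl

theorem shE_mem (u : σ.W) (c : F) : σ.shE u c ∈ Alt.isoGroup B := fun x z => by
  simp [shE_apply, σ.hA σ.y, σ.hA (u : V), σ.By, σ.Bwy, Alt.neg' σ.hA z σ.y, Alt.neg' σ.hA z (u : V)]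
  ring

/-- The unipotent element in the isometry group. -/
def sh (u : σ.W) (c : F) : Alt.isoGroup B := ⟨σ.shE u c, σ.shE_mem u c⟩

theorem sh_apply (u : σ.W) (c : F) (x : V) :
    (σ.sh u c).1 x = x + B x σ.y • (u : V) + (B x (u : V) + c * B x σ.y) • σ.y := rfl

theorem sh_y (u : σ.W) (c : F) : (σ.sh u c).1 σ.y = σ.y := by simp [sh_apply, σ.hA σ.y, σ.By]

theorem sh_f (u : σ.W) (c : F) : (σ.sh u c).1 σ.f = σ.f - (u : V) - c • σ.y := by
  simp [sh_apply, σ.hBfy, σ.Bf]; module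

theorem sh_W (u : σ.W) (c : F) (w : σ.W) : (σ.sh u c).1 (w : V) = (w : V) + B (w : V) (u : V) • σ.y := by
  simp [sh_apply, σ.Bwy]

theorem sh_mul (u u' : σ.W) (c c' : F) :
    σ.sh u c * σ.sh u' c' = σ.sh (u + u') (c + c' + B (u' : V) (u : V)) := by
  refine Subtype.ext (σ.ext_frame ?_ ?_ fun w => ?_)
  · simp [sh_y, LinearEquiv.mul_apply]
  · simp [sh_f, sh_W, sh_y, LinearEquiv.mul_apply, map_sub]; module
  · simp [sh_W, sh_y, LinearEquiv.mul_apply, map_add]; module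

theorem sh_zero : σ.sh 0 0 = 1 := Subtype.ext (LinearEquiv.ext fun x => by simp [sh_apply])

theorem sh_inv (u : σ.W) (c : F) : (σ.sh u c)⁻¹ = σ.sh (-u) (-c) :=
  inv_eq_of_mul_eq_one_right (by
    rw [sh_mul, add_neg_cancel, add_neg_cancel, Submodule.coe_neg, map_neg, LinearMap.neg_apply, σ.hA (u : V), neg_zero,
      add_zero, sh_zero])

theorem sh_inj {u u' : σ.W} {c c' : F} (h : σ.sh u c = σ.sh u' c') : u = u' ∧ c = c' := by
  have e := congrArg (fun g : Alt.isoGroup B => g.1 σ.f) h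
  simp only [sh_f] at e
  have e1 := congrArg σ.pr e
  simp only [map_sub, map_smul, pr_f, pr_y, pr_W, smul_zero, sub_zero, zero_sub, neg_inj] at e1
  subst e1
  refine ⟨rfl, ?_⟩
  have e2 : c • σ.y = c' • σ.y := sub_right_injective e
  exact smul_left_injective F σ.y_ne e2

theorem sh_zero_eq_tv (c : F) : σ.sh 0 c = Alt.tvE σ.hA σ.y c :=
  Subtype.ext (LinearEquiv.ext fun x => by simp [sh_apply, Alt.tvE, Alt.tv_apply, add_smul])

/-- The torus element: `y ↦ a y`, `f ↦ a⁻¹ f`, identity on the complement. -/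
def torE (a : Fˣ) : V ≃ₗ[F] V where
  toFun x := (σ.pr x : V) + ((a : F) * B x σ.f) • σ.y + (-((a⁻¹ : Fˣ) : F) * B x σ.y) • σ.f
  map_add' x x' := by simp [add_smul, mul_add]; abel
  map_smul' b x := by simp [smul_smul, mul_left_comm]
  invFun x := (σ.pr x : V) + (((a⁻¹ : Fˣ) : F) * B x σ.f) • σ.y + (-(a : F) * B x σ.y) • σ.f
  left_inv x := by
    simp only [map_add, map_smul, pr_W, pr_y, pr_f, smul_zero, add_zero, LinearMap.add_apply,
      LinearMap.smul_apply, σ.Bwf, σ.Bwy, σ.hyf, σ.hA σ.y, σ.hA σ.f, σ.hBfy, smul_eq_mul]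
    conv_rhs => rw [σ.decomp x]
    simp
  right_inv x := by
    simp only [map_add, map_smul, pr_W, pr_y, pr_f, smul_zero, add_zero, LinearMap.add_apply,
      LinearMap.smul_apply, σ.Bwf, σ.Bwy, σ.hyf, σ.hA σ.y, σ.hA σ.f, σ.hBfy, smul_eq_mul]
    conv_rhs => rw [σ.decomp x]
    simp

theorem torE_apply (a : Fˣ) (x : V) :
    σ.torE a x = (σ.pr x : V) + ((a : F) * B x σ.f) • σ.y + (-((a⁻¹ : Fˣ) : F) * B x σ.y) • σ.f := rfl

theorem torE_mem (a : Fˣ) : σ.torE a ∈ Alt.isoGroup B := fun x z => by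
  conv_rhs => rw [σ.decomp x, σ.decomp z]
  simp [torE_apply, σ.By, σ.Bf, σ.Bwy, σ.Bwf, σ.hyf, σ.hBfy, σ.hA σ.y, σ.hA σ.f]
  field_simp

/-- The torus element in the isometry group. -/
def tor (a : Fˣ) : Alt.isoGroup B := ⟨σ.torE a, σ.torE_mem a⟩

theorem tor_y (a : Fˣ) : (σ.tor a).1 σ.y = (a : F) • σ.y := by
  show σ.torE a σ.y = _
  simp [torE_apply, pr_y, σ.hA σ.y, σ.hyf]

theorem tor_f (a : Fˣ) : (σ.tor a).1 σ.f = ((a⁻¹ : Fˣ) : F) • σ.f := by
  show σ.torE a σ.f = _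
  simp [torE_apply, pr_f, σ.hA σ.f, σ.hBfy]

theorem tor_W (a : Fˣ) (w : σ.W) : (σ.tor a).1 (w : V) = w := by
  show σ.torE a w = _
  simp [torE_apply, pr_W, σ.Bwf, σ.Bwy]

theorem tor_mul (a b : Fˣ) : σ.tor a * σ.tor b = σ.tor (a * b) := by
  refine Subtype.ext (σ.ext_frame ?_ ?_ fun w => ?_)
  · simp [tor_y, LinearEquiv.mul_apply, smul_smul, mul_comm]
  · simp [tor_f, LinearEquiv.mul_apply, smul_smul, mul_comm]
  · simp [tor_W, LinearEquiv.mul_apply]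

theorem tor_one : σ.tor 1 = 1 := by
  refine Subtype.ext (σ.ext_frame ?_ ?_ fun w => ?_) <;> simp [tor_y, tor_f, tor_W]

theorem tor_inv (a : Fˣ) : (σ.tor a)⁻¹ = σ.tor a⁻¹ :=
  inv_eq_of_mul_eq_one_right (by rw [tor_mul, mul_inv_cancel, tor_one])

/-- The extension of an isometry of the complement. -/
def embE (l : Alt.isoGroup σ.BW) : V ≃ₗ[F] V where
  toFun x := (l.1 (σ.pr x) : V) + B x σ.f • σ.y + (-B x σ.y) • σ.f
  map_add' x x' := by simp [add_smul, add_comm]; abel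
  map_smul' b x := by simp [smul_smul]
  invFun x := ((l⁻¹).1 (σ.pr x) : V) + B x σ.f • σ.y + (-B x σ.y) • σ.f
  left_inv x := by
    simp only [map_add, map_smul, pr_W, pr_y, pr_f, smul_zero, add_zero, LinearMap.add_apply,
      LinearMap.smul_apply, σ.Bwf, σ.Bwy, σ.hyf, σ.hA σ.y, σ.hA σ.f, σ.hBfy, smul_eq_mul]
    conv_rhs => rw [σ.decomp x]
    simp [Alt.inv_apply_self]
  right_inv x := by
    simp only [map_add, map_smul, pr_W, pr_y, pr_f, smul_zero, add_zero, LinearMap.add_apply,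
      LinearMap.smul_apply, σ.Bwf, σ.Bwy, σ.hyf, σ.hA σ.y, σ.hA σ.f, σ.hBfy, smul_eq_mul]
    conv_rhs => rw [σ.decomp x]
    simp [Alt.apply_inv_self]

theorem embE_mem (l : Alt.isoGroup σ.BW) : σ.embE l ∈ Alt.isoGroup B := fun x z => by
  conv_rhs => rw [σ.decomp x, σ.decomp z]
  have h := l.2 (σ.pr x) (σ.pr z)
  simp only [BW_apply] at h
  simp [embE, σ.By, σ.Bf, σ.Bwy, σ.Bwf, σ.hyf, σ.hBfy, σ.hA σ.y, σ.hA σ.f, h]

theorem embE_W (l : Alt.isoGroup σ.BW) (w : σ.W) : σ.embE l (w : V) = (l.1 w : V) := by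
  simp [embE, pr_W, σ.Bwf, σ.Bwy]

theorem embE_y (l : Alt.isoGroup σ.BW) : σ.embE l σ.y = σ.y := by
  simp [embE, pr_y, σ.hA σ.y, σ.hyf]

theorem embE_f (l : Alt.isoGroup σ.BW) : σ.embE l σ.f = σ.f := by
  simp [embE, pr_f, σ.hA σ.f, σ.hBfy]

/-- The Levi embedding. -/
def emb : Alt.isoGroup σ.BW →* Alt.isoGroup B :=
  MonoidHom.mk' (fun l => ⟨σ.embE l, σ.embE_mem l⟩) fun l l' => Subtype.ext (σ.ext_frame
    (by simp [LinearEquiv.mul_apply, embE_y])
    (by simp [LinearEquiv.mul_apply, embE_f])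
    fun w => by simp [LinearEquiv.mul_apply, embE_W])

theorem emb_y (l : Alt.isoGroup σ.BW) : (σ.emb l).1 σ.y = σ.y := σ.embE_y l

theorem emb_f (l : Alt.isoGroup σ.BW) : (σ.emb l).1 σ.f = σ.f := σ.embE_f l

theorem emb_W (l : Alt.isoGroup σ.BW) (w : σ.W) : (σ.emb l).1 (w : V) = (l.1 w : V) := σ.embE_W l w

theorem emb_tv (v : σ.W) (c : F) :
    σ.emb (Alt.tvE σ.hA_W v c) = Alt.tvE σ.hA (v : V) c := by
  refine Subtype.ext (σ.ext_frame ?_ ?_ fun w => ?_)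
  · simp [emb_y, Alt.tvE, Alt.tv_apply, σ.By]
  · simp [emb_f, Alt.tvE, Alt.tv_apply, σ.Bf]
  · simp [emb_W, Alt.tvE, Alt.tv_apply, BW_apply]

theorem emb_mul_sh (l : Alt.isoGroup σ.BW) (u : σ.W) (c : F) :
    σ.emb l * σ.sh u c = σ.sh (l.1 u) c * σ.emb l := by
  refine Subtype.ext (σ.ext_frame ?_ ?_ fun w => ?_)
  · simp [LinearEquiv.mul_apply, sh_y, emb_y]
  · simp [LinearEquiv.mul_apply, sh_f, emb_f, emb_y, emb_W, map_sub]
  · simp [LinearEquiv.mul_apply, sh_W, emb_W, emb_y, map_add]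
    rw [← BW_apply, ← l.2 w u, BW_apply]

theorem emb_mul_tor (l : Alt.isoGroup σ.BW) (a : Fˣ) : σ.emb l * σ.tor a = σ.tor a * σ.emb l := by
  refine Subtype.ext (σ.ext_frame ?_ ?_ fun w => ?_)
  · simp [LinearEquiv.mul_apply, tor_y, emb_y]
  · simp [LinearEquiv.mul_apply, tor_f, emb_f]
  · simp [LinearEquiv.mul_apply, tor_W, emb_W]

theorem tor_mul_sh (a : Fˣ) (u : σ.W) (c : F) :
    σ.tor a * σ.sh u c = σ.sh ((a : F) • u) ((a : F) ^ 2 * c) * σ.tor a := by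
  refine Subtype.ext (σ.ext_frame ?_ ?_ fun w => ?_)
  · simp [LinearEquiv.mul_apply, sh_y, tor_y]
  · simp [LinearEquiv.mul_apply, sh_f, tor_f, tor_y, tor_W, map_sub, smul_sub, smul_smul]
    field_simp
  · simp [LinearEquiv.mul_apply, sh_W, tor_W, tor_y, map_add, smul_smul, mul_comm]

/-- The stabiliser of the point. -/
def P : Subgroup (Alt.isoGroup B) where
  carrier := {g | ∃ a : Fˣ, g.1 σ.y = (a : F) • σ.y}
  one_mem' := ⟨1, by simp⟩
  mul_mem' := by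
    rintro g h ⟨a, ha⟩ ⟨b, hb⟩
    exact ⟨b * a, by rw [Subgroup.coe_mul, LinearEquiv.mul_apply, hb, map_smul, ha, smul_smul, Units.val_mul]⟩
  inv_mem' := by
    rintro g ⟨a, ha⟩
    refine ⟨a⁻¹, ?_⟩
    have := congrArg (fun x => ((a⁻¹ : Fˣ) : F) • (g⁻¹).1 x) ha
    simp only [map_smul, smul_smul, Units.inv_mul, one_smul, Subgroup.coe_inv, Alt.inv_apply_self] at this
    exact this.symm

theorem mem_P {g : Alt.isoGroup B} : g ∈ σ.P ↔ ∃ a : Fˣ, g.1 σ.y = (a : F) • σ.y := Iff.rfl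

/-- The product of the three parts. -/
def par (a : Fˣ) (u : σ.W) (c : F) (l : Alt.isoGroup σ.BW) : Alt.isoGroup B := σ.tor a * σ.sh u c * σ.emb l

theorem par_y (a : Fˣ) (u : σ.W) (c : F) (l : Alt.isoGroup σ.BW) : (σ.par a u c l).1 σ.y = (a : F) • σ.y := by
  simp [par, LinearEquiv.mul_apply, emb_y, sh_y, tor_y]

theorem par_mem (a : Fˣ) (u : σ.W) (c : F) (l : Alt.isoGroup σ.BW) : σ.par a u c l ∈ σ.P := ⟨a, σ.par_y a u c l⟩

theorem pr_par_W (a : Fˣ) (u : σ.W) (c : F) (l : Alt.isoGroup σ.BW) (w : σ.W) :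
    σ.pr ((σ.par a u c l).1 (w : V)) = l.1 w := by
  simp [par, LinearEquiv.mul_apply, emb_W, sh_W, tor_W, tor_y, map_add, pr_W, pr_y]

theorem par_inj {a a' : Fˣ} {u u' : σ.W} {c c' : F} {l l' : Alt.isoGroup σ.BW}
    (h : σ.par a u c l = σ.par a' u' c' l') : a = a' ∧ u = u' ∧ c = c' ∧ l = l' := by
  have e := congrArg (fun g : Alt.isoGroup B => g.1 σ.y) h
  simp only [par_y] at e
  have ha : a = a' := Units.ext (smul_left_injective F σ.y_ne e)
  have hl : l = l' := Subtype.ext (LinearEquiv.ext fun w => by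
    rw [← σ.pr_par_W a u c l w, ← σ.pr_par_W a' u' c' l' w, h])
  subst ha hl
  simp only [par, mul_left_inj, mul_right_inj] at h
  exact ⟨rfl, (σ.sh_inj h).1, (σ.sh_inj h).2, rfl⟩

theorem par_mul (a a' : Fˣ) (u u' : σ.W) (c c' : F) (l l' : Alt.isoGroup σ.BW) :
    ∃ u'' c'', σ.par a u c l * σ.par a' u' c' l' = σ.par (a * a') u'' c'' (l * l') := by
  refine ⟨((a'⁻¹ : Fˣ) : F) • u + l.1 u', ((a'⁻¹ : Fˣ) : F) ^ 2 * c + c' +
    B ((l.1 u' : σ.W) : V) ((((a'⁻¹ : Fˣ) : F) • u : σ.W) : V), ?_⟩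
  have h1 : σ.sh u c * σ.tor a' = σ.tor a' * σ.sh (((a'⁻¹ : Fˣ) : F) • u) (((a'⁻¹ : Fˣ) : F) ^ 2 * c) := by
    rw [tor_mul_sh, smul_smul, ← mul_assoc, ← mul_pow, Units.mul_inv, one_smul, one_pow, one_mul]
  calc σ.par a u c l * σ.par a' u' c' l'
      = σ.tor a * σ.sh u c * (σ.emb l * σ.tor a') * σ.sh u' c' * σ.emb l' := by simp only [par, mul_assoc]
    _ = σ.tor a * (σ.sh u c * σ.tor a') * (σ.emb l * σ.sh u' c') * σ.emb l' := by
      rw [emb_mul_tor]; simp only [mul_assoc]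
    _ = (σ.tor a * σ.tor a') * (σ.sh (((a'⁻¹ : Fˣ) : F) • u) (((a'⁻¹ : Fˣ) : F) ^ 2 * c) * σ.sh (l.1 u') c') *
        (σ.emb l * σ.emb l') := by rw [h1, emb_mul_sh]; simp only [mul_assoc]
    _ = _ := by rw [tor_mul, sh_mul, ← map_mul, par]

theorem exists_par {g : Alt.isoGroup B} (hg : g ∈ σ.P) : ∃ a u c l, g = σ.par a u c l := by
  obtain ⟨a, ha⟩ := hg
  set g1 := σ.tor a⁻¹ * g with hg1
  have h1 : g1.1 σ.y = σ.y := by
    simp [hg1, LinearEquiv.mul_apply, ha, tor_y, smul_smul]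
  set u : σ.W := -σ.pr (g1.1 σ.f) with hu
  set c : F := -B (g1.1 σ.f) σ.f with hc
  have hy : B (g1.1 σ.f) σ.y = -1 := by
    conv_lhs => rw [← h1]
    rw [g1.2, hBfy]
  have hf : g1.1 σ.f = (σ.sh u c).1 σ.f := by
    rw [sh_f, hu, hc]
    conv_lhs => rw [σ.decomp (g1.1 σ.f), hy]
    simp; abel
  set g2 := (σ.sh u c)⁻¹ * g1 with hg2
  have h2y : g2.1 σ.y = σ.y := by
    simp [hg2, LinearEquiv.mul_apply, h1]
    conv_lhs => rw [← σ.sh_y u c]
    exact Alt.inv_apply_self _ _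
  have h2f : g2.1 σ.f = σ.f := by
    simp [hg2, LinearEquiv.mul_apply, hf]
  have hmaps : ∀ w : σ.W, g2.1 (w : V) ∈ σ.W := fun w => Alt.mem_redW.2 ⟨trivial,
    by conv_lhs => rw [← h2y]
       rw [g2.2, σ.By],
    by conv_lhs => rw [← h2f]
       rw [g2.2, σ.Bf]⟩
  have h2y' : (g2⁻¹).1 σ.y = σ.y := by
    conv_lhs => rw [← h2y]
    exact Alt.inv_apply_self _ _
  have h2f' : (g2⁻¹).1 σ.f = σ.f := by
    conv_lhs => rw [← h2f]
    exact Alt.inv_apply_self _ _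
  have hmaps' : ∀ w : σ.W, (g2⁻¹).1 (w : V) ∈ σ.W := fun w => Alt.mem_redW.2 ⟨trivial,
    by conv_lhs => rw [← h2y']
       rw [(g2⁻¹).2, σ.By],
    by conv_lhs => rw [← h2f']
       rw [(g2⁻¹).2, σ.Bf]⟩
  let l : σ.W ≃ₗ[F] σ.W := LinearEquiv.ofLinearMap
    ((g2.1.toLinearMap.comp σ.W.subtype).codRestrict σ.W hmaps)
    (((g2⁻¹).1.toLinearMap.comp σ.W.subtype).codRestrict σ.W hmaps')
    (LinearMap.ext fun w => Subtype.ext (Alt.apply_inv_self g2.1 (w : V)))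
    (LinearMap.ext fun w => Subtype.ext (Alt.inv_apply_self g2.1 (w : V)))
  have hl : l ∈ Alt.isoGroup σ.BW := fun w w' => g2.2 (w : V) (w' : V)
  refine ⟨a, u, c, ⟨l, hl⟩, ?_⟩
  have : g2 = σ.emb ⟨l, hl⟩ := by
    refine Subtype.ext (σ.ext_frame ?_ ?_ fun w => ?_)
    · rw [h2y, emb_y]
    · rw [h2f, emb_f]
    · rw [emb_W]; rfl
  rw [par, ← this, hg2, hg1, ← tor_inv]
  simp [mul_assoc]

end Fr

end Cfsg.Agent.MinIndexForm.Sp
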