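import Cfsg.Agent.MinIndexForm.Sp.Field

/-!
Lifting the image of a subgroup to Levi × torus along a central element acting without fixed vectors.
-/

set_option autoImplicit false

namespace Cfsg.Agent.MinIndexForm.Sp

open Cfsg.Agent.Classical Module

variable {F V : Type*} [Field F] [AddCommGroup V] [Module F V] {B : LinearMap.BilinForm F V}

/-- The subgroup contains no full transvection group. -/
def Free (hA : B.IsAlt) (K : Subgroup (Alt.isoGroup B)) : Prop := ∀ v : V, v ≠ 0 → ∃ c : F, Alt.tvE hA v c ∉ K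

/-- A conjugate subgroup. -/
def conjS (h : Alt.isoGroup B) (K : Subgroup (Alt.isoGroup B)) : Subgroup (Alt.isoGroup B) :=
  K.map (MulAut.conj h).toMonoidHom

theorem mem_conjS {h g : Alt.isoGroup B} {K : Subgroup (Alt.isoGroup B)} :
    g ∈ conjS h K ↔ h⁻¹ * g * h ∈ K := by
  rw [conjS, Subgroup.mem_map_equiv, MulAut.conj_symm_apply]

theorem index_conjS (h : Alt.isoGroup B) (K : Subgroup (Alt.isoGroup B)) : (conjS h K).index = K.index :=
  Subgroup.index_map_equiv K (MulAut.conj h)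

theorem free_conjS (hA : B.IsAlt) {h : Alt.isoGroup B} {K : Subgroup (Alt.isoGroup B)} (hK : Free hA K) :
    Free hA (conjS h K) := fun v hv => by
  obtain ⟨c, hc⟩ := hK ((h⁻¹).1 v) fun e => hv (by
    have := congrArg (fun x => h.1 x) e
    simpa [Alt.apply_inv_self] using this)
  refine ⟨c, fun hm => hc ?_⟩
  rw [mem_conjS] at hm
  have e := Alt.conj_tvE hA h⁻¹ v c
  rw [inv_inv] at e
  rwa [e] at hm

theorem conjS_ne_top {h : Alt.isoGroup B} {K : Subgroup (Alt.isoGroup B)} (hK : K ≠ ⊤) : conjS h K ≠ ⊤ :=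
  fun e => hK (Subgroup.index_eq_one.1 (by rw [← index_conjS h K, e, Subgroup.index_top]))

namespace Fr

variable (σ : Fr B)

theorem Im_conjS_sh (x : σ.W) (d : F) (K : Subgroup (Alt.isoGroup B)) {l : Alt.isoGroup σ.BW} {b : Fˣ}
    (h : (l, b) ∈ σ.Im K) : ∃ u c, σ.par b u c l ∈ conjS (σ.sh x d) K := by
  obtain ⟨u, c, hp⟩ := σ.mem_Im.1 h
  have hx : σ.sh x d = σ.par 1 x d 1 := by simp [par, tor_one]
  have hx' : (σ.sh x d)⁻¹ = σ.par 1 (-x) (-d) 1 := by simp [par, tor_one, sh_inv]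
  obtain ⟨u1, c1, h1⟩ := σ.par_mul 1 b x u d c 1 l
  obtain ⟨u2, c2, h2⟩ := σ.par_mul (1 * b) 1 u1 (-x) c1 (-d) (1 * l) 1
  refine ⟨u2, c2, ?_⟩
  have e : σ.par b u2 c2 l = σ.sh x d * σ.par b u c l * (σ.sh x d)⁻¹ := by
    rw [hx', hx, h1, h2, one_mul, mul_one, one_mul, mul_one]
  rw [mem_conjS, e]
  simpa [mul_assoc] using hp

theorem emb_scalar_mul {z0 : Alt.isoGroup σ.BW} {e : F} (hz : ∀ w : σ.W, z0.1 w = e • w)
    (l : Alt.isoGroup σ.BW) : z0 * l = l * z0 :=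
  Subtype.ext (LinearEquiv.ext fun w => by
    rw [Subgroup.coe_mul, Subgroup.coe_mul, LinearEquiv.mul_apply, LinearEquiv.mul_apply, hz, hz, map_smul])

theorem emb_mul_sh_zero (l : Alt.isoGroup σ.BW) (c : F) : σ.emb l * σ.sh 0 c = σ.sh 0 c * σ.emb l := by
  rw [emb_mul_sh, map_zero]

theorem tor_mul_sh_zero (a : Fˣ) (c : F) : σ.tor a * σ.sh 0 c = σ.sh 0 ((a : F) ^ 2 * c) * σ.tor a := by
  rw [tor_mul_sh, smul_zero]

/-- The central element can be moved to the standard position. -/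
theorem exists_conj_central (p : ℕ) [Fact p.Prime] [CharP F p] {K : Subgroup (Alt.isoGroup B)} {a : Fˣ}
    {z0 : Alt.isoGroup σ.BW} {e : F} (hz : ∀ w : σ.W, z0.1 w = e • w) (hae : (a : F) * e ≠ 1)
    (ha : (a : F) ^ 2 ≠ 1 ∨ p ≠ 2) (hm : (z0, a) ∈ σ.Im K) :
    ∃ x d, σ.tor a * σ.emb z0 ∈ conjS (σ.sh x d) K := by
  obtain ⟨u, c, hp⟩ := σ.mem_Im.1 hm
  -- kill the vector part
  have hne : e - (a : F)⁻¹ ≠ 0 := fun h0 => hae (by rw [sub_eq_zero.1 h0, mul_inv_cancel₀ a.ne_zero])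
  set x : σ.W := (e - (a : F)⁻¹)⁻¹ • u with hx
  have key : ((a⁻¹ : Fˣ) : F) • x + u = e • x := by
    have h2 : u = (e - (a : F)⁻¹) • x := by rw [hx, smul_smul, mul_inv_cancel₀ hne, one_smul]
    rw [h2, sub_smul, Units.val_inv_eq_inv_val]; abel
  obtain ⟨c', hc'⟩ : ∃ c', σ.sh x 0 * σ.par a u c z0 * (σ.sh x 0)⁻¹ = σ.tor a * σ.sh 0 c' * σ.emb z0 := by
    have h1 : σ.sh x 0 * σ.tor a = σ.tor a * σ.sh (((a⁻¹ : Fˣ) : F) • x) 0 := by
      rw [tor_mul_sh, smul_smul, mul_zero, Units.mul_inv, one_smul]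
    have h2 : σ.emb z0 * (σ.sh x 0)⁻¹ = σ.sh (-(e • x)) 0 * σ.emb z0 := by
      rw [sh_inv, neg_zero, emb_mul_sh, hz, smul_neg]
    have h3 : σ.sh x 0 * σ.par a u c z0 * (σ.sh x 0)⁻¹ =
        σ.tor a * (σ.sh (((a⁻¹ : Fˣ) : F) • x) 0 * σ.sh u c * σ.sh (-(e • x)) 0) * σ.emb z0 :=
      calc σ.sh x 0 * σ.par a u c z0 * (σ.sh x 0)⁻¹
          = (σ.sh x 0 * σ.tor a) * σ.sh u c * (σ.emb z0 * (σ.sh x 0)⁻¹) := by rw [par]; simp only [mul_assoc]
        _ = _ := by rw [h1, h2]; simp only [mul_assoc]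
    rw [sh_mul, sh_mul, key, add_neg_cancel] at h3
    exact ⟨_, h3⟩
  by_cases ha2 : (a : F) ^ 2 = 1
  · -- the central part is in the subgroup
    have hp2 : p ≠ 2 := by tauto
    refine ⟨x, 0, ?_⟩
    set g := σ.tor a * σ.sh 0 c' * σ.emb z0 with hg
    have hgm : g ∈ conjS (σ.sh x 0) K := by
      rw [mem_conjS, ← hc']; simpa [mul_assoc] using hp
    have hz2 : z0 * z0 = 1 := by
      refine Subtype.ext (LinearEquiv.ext fun w => ?_)
      rw [Subgroup.coe_mul, LinearEquiv.mul_apply, hz, hz, smul_smul]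
      rcases subsingleton_or_nontrivial σ.W with hs | hs
      · exact Subsingleton.elim _ _
      · obtain ⟨w0, hw0⟩ := exists_ne (0 : σ.W)
        obtain ⟨w1, hw1⟩ : ∃ w1, σ.BW w0 w1 ≠ 0 := by
          by_contra h; push Not at h; exact hw0 (σ.hB_W.1 w0 h)
        have h3 := z0.2 w0 w1
        rw [hz, hz, map_smul, map_smul, LinearMap.smul_apply, smul_eq_mul, smul_eq_mul, ← mul_assoc] at h3
        rw [mul_right_cancel₀ hw1 (h3.trans (one_mul _).symm), one_smul]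
        rfl
    have hga : g * g = σ.sh 0 (c' + c') := by
      have e1 : σ.tor a * σ.tor a = 1 := by
        rw [tor_mul, show a * a = 1 from Units.ext (by rw [Units.val_mul, ← pow_two]; exact ha2), tor_one]
      calc g * g = σ.tor a * σ.sh 0 c' * (σ.emb z0 * σ.tor a) * σ.sh 0 c' * σ.emb z0 := by
            rw [hg]; simp only [mul_assoc]
        _ = σ.tor a * (σ.sh 0 c' * σ.tor a) * (σ.emb z0 * σ.sh 0 c') * σ.emb z0 := by
            rw [emb_mul_tor]; simp only [mul_assoc]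
        _ = (σ.tor a * σ.tor a) * (σ.sh 0 c' * σ.sh 0 c') * (σ.emb z0 * σ.emb z0) := by
            rw [emb_mul_sh_zero, show σ.sh 0 c' * σ.tor a = σ.tor a * σ.sh 0 c' by
              rw [tor_mul_sh_zero, ha2, one_mul]]
            simp only [mul_assoc]
        _ = _ := by rw [e1, one_mul, ← map_mul, hz2, map_one, mul_one, sh_mul, add_zero, Submodule.coe_zero,
              map_zero, add_zero]
    have h2c : c' + c' ∈ σ.Zp (conjS (σ.sh x 0) K) := by
      rw [mem_Zp, ← hga]; exact mul_mem hgm hgm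
    have hc0 : c' ∈ σ.Zp (conjS (σ.sh x 0) K) := by
      have := AddSubgroup.nsmul_mem _ h2c ((p + 1) / 2)
      have hodd : Odd p := (Fact.out : p.Prime).odd_of_ne_two hp2
      rw [← two_nsmul, ← mul_nsmul', Nat.div_mul_cancel (by obtain ⟨k, hk⟩ := hodd; omega), succ_nsmul,
        nsmul_eq_mul, CharP.cast_eq_zero, zero_mul, zero_add] at this
      exact this
    have h4 : σ.tor a * σ.emb z0 = σ.sh 0 (-c') * g := by
      rw [hg, tor_mul_sh_zero, ha2, one_mul, ← mul_assoc, ← mul_assoc, sh_mul]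
      simp [sh_zero]
    rw [h4]
    exact mul_mem ((σ.mem_Zp _).1 (neg_mem hc0)) hgm
  · -- kill the central part
    have hA0 : ((a⁻¹ : Fˣ) : F) ^ 2 - 1 ≠ 0 := by
      rw [Units.val_inv_eq_inv_val, inv_pow, sub_ne_zero]
      intro h; exact ha2 (inv_eq_one.1 h)
    set d := -c' / (((a⁻¹ : Fˣ) : F) ^ 2 - 1) with hd
    refine ⟨x, d, ?_⟩
    have h5 : σ.tor a * σ.emb z0 = σ.sh 0 d * (σ.tor a * σ.sh 0 c' * σ.emb z0) * (σ.sh 0 d)⁻¹ := by
      have h6 : σ.sh 0 d * σ.tor a = σ.tor a * σ.sh 0 (((a⁻¹ : Fˣ) : F) ^ 2 * d) := by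
        rw [tor_mul_sh_zero, ← mul_assoc, ← mul_pow, Units.mul_inv, one_pow, one_mul]
      symm
      calc σ.sh 0 d * (σ.tor a * σ.sh 0 c' * σ.emb z0) * (σ.sh 0 d)⁻¹
          = (σ.sh 0 d * σ.tor a) * σ.sh 0 c' * (σ.emb z0 * σ.sh 0 (-d)) := by
            rw [sh_inv, neg_zero]; simp only [mul_assoc]
        _ = σ.tor a * (σ.sh 0 (((a⁻¹ : Fˣ) : F) ^ 2 * d) * σ.sh 0 c' * σ.sh 0 (-d)) * σ.emb z0 := by
            rw [h6, emb_mul_sh_zero]; simp only [mul_assoc]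
        _ = σ.tor a * σ.sh 0 0 * σ.emb z0 := by
            rw [sh_mul, sh_mul]
            simp only [add_zero, Submodule.coe_zero, map_zero]
            rw [show ((a⁻¹ : Fˣ) : F) ^ 2 * d + c' + -d = 0 by
              have : d * (((a⁻¹ : Fˣ) : F) ^ 2 - 1) = -c' := by rw [hd, div_mul_cancel₀ _ hA0]
              linear_combination this]
        _ = _ := by rw [sh_zero, mul_one]
    have hsh : σ.sh x d = σ.sh 0 d * σ.sh x 0 := by
      rw [sh_mul, zero_add, add_zero, Submodule.coe_zero, map_zero, add_zero]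
    rw [mem_conjS, h5, ← hc', hsh]
    simpa [mul_assoc] using hp

variable [Finite F] [FiniteDimensional F V]

/-- Lifting along the central element. -/
theorem lift (p : ℕ) [Fact p.Prime] [CharP F p] {K : Subgroup (Alt.isoGroup B)} {a : Fˣ}
    {z0 : Alt.isoGroup σ.BW} {e : F} (hz : ∀ w : σ.W, z0.1 w = e • w) (hae : (a : F) * e ≠ 1)
    (ha : (a : F) ^ 2 ≠ 1 ∨ p ≠ 2) (hm : (z0, a) ∈ σ.Im K) :
    ∃ h, ∀ l b, (l, b) ∈ σ.Im K → ∃ c, σ.sh 0 c * σ.tor b * σ.emb l ∈ conjS h K ∧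
      ((a : F) ^ 2 ≠ 1 → c = 0) := by
  obtain ⟨x, d, hσ⟩ := σ.exists_conj_central p hz hae ha hm
  refine ⟨σ.sh x d, fun l b hlb => ?_⟩
  set K' := conjS (σ.sh x d) K
  obtain ⟨u, c, hg⟩ := σ.Im_conjS_sh x d K hlb
  have : Finite V := Module.finite_of_finite F
  set u' : σ.W := (b : F) • u with hu'
  set c' : F := (b : F) ^ 2 * c
  have hg' : σ.sh u' c' * σ.tor b * σ.emb l ∈ K' := by rw [← tor_mul_sh]; exact hg
  set s0 := σ.tor a * σ.emb z0
  have hconj : ∀ w d', s0 * σ.sh w d' * s0⁻¹ = σ.sh (((a : F) * e) • w) ((a : F) ^ 2 * d') := fun w d' => by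
    rw [mul_inv_eq_iff_eq_mul, mul_assoc, emb_mul_sh, hz, ← mul_assoc, tor_mul_sh, smul_smul, mul_assoc]
  have hcomm : s0 * (σ.tor b * σ.emb l) = σ.tor b * σ.emb l * s0 := by
    calc σ.tor a * σ.emb z0 * (σ.tor b * σ.emb l) = σ.tor a * (σ.emb z0 * σ.tor b) * σ.emb l := by
          simp only [mul_assoc]
      _ = (σ.tor a * σ.tor b) * (σ.emb z0 * σ.emb l) := by rw [emb_mul_tor]; simp only [mul_assoc]
      _ = (σ.tor b * σ.tor a) * (σ.emb l * σ.emb z0) := by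
          rw [tor_mul, tor_mul, mul_comm a b, ← map_mul, emb_scalar_mul σ hz l, map_mul]
      _ = σ.tor b * (σ.tor a * σ.emb l) * σ.emb z0 := by simp only [mul_assoc]
      _ = σ.tor b * σ.emb l * (σ.tor a * σ.emb z0) := by rw [← emb_mul_tor]; simp only [mul_assoc]
  -- commutators with the central element
  have key : ∀ w d', σ.sh w d' * σ.tor b * σ.emb l ∈ K' →
      σ.sh (((a : F) * e) • w) ((a : F) ^ 2 * d') * (σ.sh w d')⁻¹ ∈ K' := fun w d' h => by
    have h2 := mul_mem (mul_mem (mul_mem hσ h) (inv_mem hσ)) (inv_mem h)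
    rw [show s0 * (σ.sh w d' * σ.tor b * σ.emb l) * s0⁻¹ * (σ.sh w d' * σ.tor b * σ.emb l)⁻¹ =
      σ.sh (((a : F) * e) • w) ((a : F) ^ 2 * d') * (σ.sh w d')⁻¹ from ?_] at h2
    · exact h2
    · rw [← hconj w d', mul_assoc (σ.sh w d'), show s0 * (σ.sh w d' * (σ.tor b * σ.emb l)) * s0⁻¹ =
        (s0 * σ.sh w d' * s0⁻¹) * (s0 * (σ.tor b * σ.emb l) * s0⁻¹) by group, hcomm]
      group
  have hu : u' ∈ σ.Sb K' := by
    have h1 : ((a : F) * e) • u' - u' ∈ σ.Sb K' := by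
      have := key u' c' hg'
      rw [sh_inv, sh_mul] at this
      exact ⟨_, by rw [sub_eq_add_neg]; exact this⟩
    have hS : ∀ w ∈ σ.Sb K', ((a : F) * e) • w ∈ σ.Sb K' := fun w ⟨d', hd'⟩ =>
      ⟨_, hconj w d' ▸ mul_mem (mul_mem hσ hd') (inv_mem hσ)⟩
    have hne : (a : F) * e - 1 ≠ 0 := sub_ne_zero.2 hae
    have hinj : Function.Injective fun w : σ.Sb K' =>
        (⟨((a : F) * e - 1) • w.1, by rw [sub_smul, one_smul]; exact sub_mem (hS w.1 w.2) w.2⟩ : σ.Sb K') :=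
      fun w w' h => Subtype.ext (smul_right_injective σ.W hne (congrArg Subtype.val h))
    obtain ⟨w, hw⟩ := (Finite.injective_iff_surjective.1 hinj) ⟨_, h1⟩
    have : w.1 = u' := smul_right_injective σ.W hne (by
      simpa [sub_smul] using congrArg Subtype.val hw)
    exact this ▸ w.2
  obtain ⟨d', hd'⟩ := hu
  have h0 : σ.sh 0 (c' - d') * σ.tor b * σ.emb l ∈ K' := by
    have := mul_mem (inv_mem hd') hg'
    rw [sh_inv, ← mul_assoc, ← mul_assoc, sh_mul] at this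
    simpa [σ.hA (u' : V), sub_eq_add_neg, add_comm] using this
  by_cases ha2 : (a : F) ^ 2 = 1
  · exact ⟨_, h0, fun h => absurd ha2 h⟩
  refine ⟨0, ?_, fun _ => rfl⟩
  have hz1 : ((a : F) ^ 2 - 1) * (c' - d') ∈ σ.Zp K' := by
    have := key 0 _ h0
    rw [smul_zero, sh_inv, sh_mul, neg_zero, add_zero, Submodule.coe_zero, map_zero, add_zero] at this
    rw [mem_Zp, sub_mul, one_mul, sub_eq_add_neg]
    exact this
  have hne : (a : F) ^ 2 - 1 ≠ 0 := sub_ne_zero.2 ha2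
  have hZ : ∀ y ∈ σ.Zp K', (a : F) ^ 2 * y ∈ σ.Zp K' := fun y hy => by
    have := mul_mem (mul_mem hσ hy) (inv_mem hσ)
    rw [hconj, smul_zero] at this
    exact this
  have hinj : Function.Injective fun y : σ.Zp K' =>
      (⟨((a : F) ^ 2 - 1) * y.1, by rw [sub_mul, one_mul]; exact sub_mem (hZ y.1 y.2) y.2⟩ : σ.Zp K') :=
    fun y y' h => Subtype.ext (mul_left_cancel₀ hne (congrArg Subtype.val h))
  obtain ⟨y, hy⟩ := (Finite.injective_iff_surjective.1 hinj) ⟨_, hz1⟩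
  have hy' : c' - d' ∈ σ.Zp K' := mul_left_cancel₀ hne (congrArg Subtype.val hy) ▸ y.2
  have := mul_mem ((σ.mem_Zp _).1 (neg_mem hy')) h0
  rw [← mul_assoc, ← mul_assoc, sh_mul] at this
  simpa using this

end Fr

end Cfsg.Agent.MinIndexForm.Sp
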