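import Cfsg.Agent.MinIndexForm.Sp.OddMain
import Cfsg.Agent.MinIndexForm.Sp.EvenMain
import Cfsg.Agent.Classical.SympGroup

/-!
The minimal index of a proper subgroup of the symplectic group, as matrices and modulo the centre.
-/

set_option autoImplicit false

namespace Cfsg.Agent.MinIndexForm.Sp

open Cfsg.Agent.Classical Module

universe uF

variable {F : Type uF} [Field F] [Fintype F]

theorem min_index_iso (m : ℕ) (hm : 2 ≤ m) (hq : 3 ≤ Fintype.card F) (hexc : ¬ (m = 2 ∧ Fintype.card F = 3))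
    {V : Type uF} [AddCommGroup V] [Module F V] [FiniteDimensional F V] {B : LinearMap.BilinForm F V}
    (hA : B.IsAlt) (hB : B.Nondegenerate) (hd : finrank F V = 2 * m) (H : Subgroup (Alt.isoGroup B)) (hH : H ≠ ⊤) :
    pts (Fintype.card F) (2 * m) ≤ H.index := by
  obtain ⟨n, rfl⟩ : ∃ n, m = n + 2 := ⟨m - 2, by omega⟩
  obtain ⟨p, hp⟩ := CharP.exists F
  have : Fact p.Prime := ⟨CharP.char_is_prime F p⟩
  rw [Fintype.card_eq_nat_card] at *
  by_cases hp2 : p = 2
  · subst hp2
    have h4 : 4 ≤ Nat.card F := by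
      have : Fintype F := Fintype.ofFinite F
      obtain ⟨e, -, he⟩ := FiniteField.card F 2
      rw [← Nat.card_eq_fintype_card] at he
      by_contra hlt
      have h3 : Nat.card F = 3 := by omega
      have h2 : 2 ∣ Nat.card F := he ▸ dvd_pow_self 2 e.2.ne'
      omega
    exact (min_index_even h4 (n + 1) hA hB hd H hH).1
  · have h := min_index_odd p hp2 n hA hB hd H hH
    unfold lowOdd at h
    rwa [if_neg (by rintro ⟨h1, h2⟩; exact hexc ⟨h2, h1⟩)] at h

theorem exists_index_iso (m : ℕ) (hm : 1 ≤ m) :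
    ∃ K : Subgroup (Matrix.symplecticGroup (Fin m) F), Subgroup.center _ ≤ K ∧
      K.index = pts (Fintype.card F) (2 * m) := by
  obtain ⟨n, rfl⟩ : ∃ n, m = n + 1 := ⟨m - 1, by omega⟩
  have := nontrivial_symp (F := F) hm
  obtain ⟨v, hv⟩ := exists_ne (0 : Fin (n + 1) ⊕ Fin (n + 1) → F)
  obtain ⟨σ, -⟩ := exists_frame (sympB_isAlt (m := n + 1) (F := F)) sympB_nondeg hv
  refine ⟨σ.P.comap (spEquiv (n + 1) F).toMonoidHom, fun z hz => ?_, ?_⟩
  · have hz' : spEquiv (n + 1) F z ∈ Subgroup.center (Alt.isoGroup (sympB (n + 1) F)) := by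
      rw [Subgroup.mem_center_iff] at hz ⊢
      intro g
      obtain ⟨g', rfl⟩ := (spEquiv (n + 1) F).surjective g
      rw [← map_mul, ← map_mul, hz g']
    obtain ⟨a, ha⟩ := Alt.scalar_of_center sympB_isAlt sympB_nondeg hz'
    have ha0 : a ≠ 0 := fun h => σ.y_ne ((spEquiv (n + 1) F z).1.map_eq_zero_iff.1 (by rw [ha, h, zero_smul]))
    exact ⟨Units.mk0 a ha0, ha σ.y⟩
  · rw [Fintype.card_eq_nat_card, ← index_P σ n finrank_symp]
    exact Subgroup.index_comap_of_surjective (f := (spEquiv (n + 1) F).toMonoidHom) σ.P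
      (spEquiv (n + 1) F).surjective

theorem pts_eq_div (q n : ℕ) (hq : 2 ≤ q) : (q ^ n - 1) / (q - 1) = pts q n := by
  have h := pts_mul q n (by omega)
  rw [← h, Nat.add_sub_cancel, Nat.mul_div_cancel _ (by omega)]

end Cfsg.Agent.MinIndexForm.Sp
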