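import Cfsg.Agent.MinIndexForm.Sp.Blocks

/-!
General steps shared by both parities.
-/

set_option autoImplicit false

namespace Cfsg.Agent.MinIndexForm.Sp

open Cfsg.Agent.Classical Module
open scoped commutatorElement

universe uF uV
variable {F : Type uF} {V : Type uV} [Field F] [AddCommGroup V] [Module F V] {B : LinearMap.BilinForm F V}

/-- Not every conjugate contains the transvection group at a given point. -/
theorem exists_moved [FiniteDimensional F V] (σ : Fr B) {H : Subgroup (Alt.isoGroup B)} (hH : H ≠ ⊤) :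
    ∃ h, σ.Zp (conjS h H) ≠ ⊤ := by
  by_contra hc
  push Not at hc
  refine hH (Alt.eq_top_of_tvE σ.hA σ.hB H fun v c => ?_)
  rcases eq_or_ne v 0 with rfl | hv
  · have : Alt.tvE σ.hA (0 : V) c = 1 := Subtype.ext (LinearEquiv.ext fun x => by
      simp [Alt.tvE, Alt.tv_apply])
    rw [this]; exact H.one_mem
  obtain ⟨h, hh⟩ := Alt.exists_iso_map σ.hA σ.hB hv σ.y_ne
  have h1 : σ.sh 0 c ∈ conjS h H := (σ.mem_Zp _).1 (by rw [hc h]; trivial)
  rw [mem_conjS, σ.sh_zero_eq_tv] at h1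
  have e := Alt.conj_tvE σ.hA h⁻¹ σ.y c
  rw [inv_inv] at e
  rw [e] at h1
  rwa [show (h⁻¹).1 σ.y = v from by rw [← hh]; exact Alt.inv_apply_self h.1 v] at h1

theorem Zp_ne_top_of_free (σ : Fr B) {K : Subgroup (Alt.isoGroup B)} (hK : Free σ.hA K) : σ.Zp K ≠ ⊤ := fun e => by
  obtain ⟨c, hc⟩ := hK σ.y σ.y_ne
  refine hc ?_
  rw [← σ.sh_zero_eq_tv]
  exact (σ.mem_Zp K).1 (by rw [e]; trivial)

/-- The scalar isometry of the complement with value minus one. -/
def negW (σ : Fr B) : Alt.isoGroup σ.BW :=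
  ⟨LinearEquiv.neg F, fun u v => by simp⟩

theorem negW_apply (σ : Fr B) (w : σ.W) : (negW σ).1 w = (-1 : F) • w := by simp [negW]

theorem relIndex_le_index [Finite F] [FiniteDimensional F V] (σ : Fr B) (h : Alt.isoGroup B)
    (H : Subgroup (Alt.isoGroup B)) : (conjS h H).relIndex σ.P ≤ H.index := by
  rw [← index_conjS h H]; exact σ.relIndex_P_le _

/-- A transvection group in the torus-free part, lifted. -/
theorem not_free_of_root [Finite F] [FiniteDimensional F V] (σ : Fr B) (p : ℕ) [Fact p.Prime] [CharP F p]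
    {K : Subgroup (Alt.isoGroup B)} {a : Fˣ} (ha : (a : F) ^ 2 ≠ 1) (hm : a ∈ σ.T1 K)
    {v : σ.W} (hv : v ≠ 0) (hroot : ∀ c, Alt.tvE σ.hA_W v c ∈ σ.I1 K) : ¬ Free σ.hA K := by
  intro hK
  obtain ⟨h, hl⟩ := σ.lift p (z0 := 1) (e := 1) (fun w => by simp)
    (by rw [mul_one]; intro e; exact ha (by rw [e, one_pow])) (Or.inl ha) hm
  obtain ⟨c, hc⟩ := free_conjS σ.hA (h := h) hK (v : V) fun e => hv (Subtype.ext e)
  obtain ⟨d, hd, hd0⟩ := hl _ 1 (hroot c)
  rw [hd0 ha, σ.sh_zero, σ.tor_one, one_mul, one_mul, σ.emb_tv] at hd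
  exact hc hd

/-- A perfect Levi part inside the image lifts to a perfect part with trivial torus component. -/
theorem I1_eq_top [Finite F] [FiniteDimensional F V] (σ : Fr B) {K : Subgroup (Alt.isoGroup B)}
    (hperf : commutator (Alt.isoGroup σ.BW) = ⊤) (hJ : σ.Jb K = ⊤) : σ.I1 K = ⊤ := by
  rw [eq_top_iff, ← hperf, commutator_eq_closure, Subgroup.closure_le]
  rintro _ ⟨l, l', rfl⟩
  obtain ⟨a, ha⟩ := (σ.mem_Jb K).1 (show l ∈ σ.Jb K by rw [hJ]; trivial)
  obtain ⟨a', ha'⟩ := (σ.mem_Jb K).1 (show l' ∈ σ.Jb K by rw [hJ]; trivial)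
  have := mul_mem (mul_mem (mul_mem ha ha') (inv_mem ha)) (inv_mem ha')
  show (⁅l, l'⁆, (1 : Fˣ)) ∈ σ.Im K
  convert this using 1
  simp [commutatorElement_def, Prod.mk_mul_mk, mul_comm a a']

end Cfsg.Agent.MinIndexForm.Sp
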