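import Cfsg.Agent.MinIndexForm.Sp.Moved

/-!
Odd characteristic: the unipotent radical is a Heisenberg group, so a moved orbit is large.
-/

set_option autoImplicit false

namespace Cfsg.Agent.MinIndexForm.Sp

open Cfsg.Agent.Classical Module

universe uF uV
variable {F : Type uF} {V : Type uV} [Field F] [AddCommGroup V] [Module F V] {B : LinearMap.BilinForm F V}
variable [Finite F] [FiniteDimensional F V] (p : ℕ) [Fact p.Prime] [CharP F p]

theorem two_ne (hp : p ≠ 2) : (2 : F) ≠ 0 := Ring.two_ne_zero (by rwa [ringChar.eq F p])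

omit [FiniteDimensional F V] in
theorem exists_card_pow : ∃ e, Nat.card F = p ^ e := by
  have : Fintype F := Fintype.ofFinite F
  obtain ⟨e, -, he⟩ := FiniteField.card F p
  exact ⟨e, by rw [← Fintype.card_eq_nat_card, he]⟩

omit [Finite F] in
theorem three_le_p (hp : p ≠ 2) : 3 ≤ p := by
  have := (Fact.out : p.Prime).two_le
  omega

theorem z_ge (hp : p ≠ 2) (σ : Fr B) {K : Subgroup (Alt.isoGroup B)} (hZ : σ.Zp K ≠ ⊤) : 3 ≤ (σ.Zp K).index := by
  obtain ⟨e, he⟩ := exists_card_pow (F := F) p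
  exact le_trans (three_le_p p hp) (exists_index_le p hZ (Fact.out) ⟨e, he⟩)

theorem card_Sb_sq (hp : p ≠ 2) (σ : Fr B) {K : Subgroup (Alt.isoGroup B)} (hZ : σ.Zp K ≠ ⊤) :
    Nat.card (σ.Sb K) * Nat.card (σ.Sb K) ≤ Nat.card σ.W := by
  obtain ⟨φ, hφ, hφ0⟩ := exists_functional_zero p hZ
  set ψ : F →+ ZMod p := φ.comp (AddMonoidHom.mulLeft (2 : F)) with hψ
  have hψ0 : ψ ≠ 0 := fun e => hφ (AddMonoidHom.ext fun x => by
    have := DFunLike.congr_fun e (x / 2)
    simp only [hψ, AddMonoidHom.comp_apply, AddMonoidHom.coe_mulLeft] at this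
    have h2 : (2 : F) * (x / 2) = x := mul_div_cancel₀ x (two_ne (F := F) p hp)
    rw [h2] at this
    exact this)
  let U : AddSubgroup σ.W :=
    { carrier := {u | ∀ s ∈ σ.Sb K, ψ (σ.BW s u) = 0}
      zero_mem' := fun s _ => by simp
      add_mem' := fun {a b} ha hb s hs => by rw [map_add, map_add, ha s hs, hb s hs, add_zero]
      neg_mem' := fun {a} ha s hs => by rw [map_neg, map_neg, ha s hs, neg_zero] }
  have : Finite V := Module.finite_of_finite F
  rw [← card_annihilator σ.hB_W p ψ hψ0 (σ.Sb K) U (fun u => Iff.rfl)]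
  exact Nat.mul_le_mul_right _ (Nat.card_le_card_of_injective
    (fun x : σ.Sb K => (⟨x.1, fun s hs => hφ0 _ (σ.comm_Sb K hs x.2)⟩ : U))
    fun x x' h => Subtype.ext (congrArg Subtype.val h :))

theorem w_ge (hp : p ≠ 2) (m : ℕ) (hd : finrank F V = 2 * (m + 1)) (σ : Fr B) {K : Subgroup (Alt.isoGroup B)}
    (hZ : σ.Zp K ≠ ⊤) : Nat.card F ^ m ≤ (σ.Sb K).index ∧ (σ.Sb K).index * Nat.card (σ.Sb K) = Nat.card F ^ (2 * m) := by
  have h1 := card_Sb_sq p hp σ hZ
  have h2 := (σ.Sb K).card_mul_index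
  rw [card_W σ m hd] at h1 h2
  refine ⟨?_, by rw [mul_comm]; exact h2⟩
  have : Finite V := Module.finite_of_finite F
  have hS : 0 < Nat.card (σ.Sb K) := Nat.card_pos
  by_contra hlt
  push Not at hlt
  have h3 : Nat.card (σ.Sb K) ≤ Nat.card F ^ m := by
    by_contra h; push Not at h
    have h4 := Nat.mul_lt_mul'' h h
    rw [← pow_add, ← two_mul] at h4
    omega
  have h5 : Nat.card (σ.Sb K) * (σ.Sb K).index < Nat.card F ^ m * Nat.card F ^ m :=
    lt_of_lt_of_le (Nat.mul_lt_mul_of_pos_left hlt hS) (Nat.mul_le_mul_right _ h3)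
  rw [← pow_add, ← two_mul] at h5
  omega

/-- The index of the vector part in the full case. -/
theorem Sb_bot_of_full (hp : p ≠ 2) (m : ℕ) (hd : finrank F V = 2 * (m + 1)) (hm : 1 ≤ m) (σ : Fr B)
    {K : Subgroup (Alt.isoGroup B)} (hZ : σ.Zp K ≠ ⊤) (hI : σ.I1 K = ⊤) : σ.Sb K = ⊥ := by
  by_contra hS
  obtain ⟨s, hs, hs0⟩ : ∃ s ∈ σ.Sb K, s ≠ 0 := by
    by_contra h; push Not at h
    exact hS ((AddSubgroup.eq_bot_iff_forall _).2 h)
  have htop : σ.Sb K = ⊤ := eq_top_iff.2 fun x _ => by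
    rcases eq_or_ne x 0 with rfl | hx
    · exact zero_mem _
    obtain ⟨g, hg⟩ := Alt.exists_iso_map σ.hA_W σ.hB_W hs0 hx
    exact hg ▸ σ.Sb_inv_I1 K (show g ∈ σ.I1 K by rw [hI]; trivial) hs
  have h := (w_ge p hp m hd σ hZ).1
  rw [htop, AddSubgroup.index_top] at h
  have : 1 < Nat.card F ^ m := Nat.one_lt_pow (by omega) Finite.one_lt_card
  omega

/-- The span of the vector part is invariant under the projection to the Levi part. -/
theorem Jb_le_stab_span (σ : Fr B) (K : Subgroup (Alt.isoGroup B)) :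
    σ.Jb K ≤ stabS (Submodule.span F (σ.Sb K : Set σ.W)) := fun l hl => by
  obtain ⟨a, ha⟩ := (σ.mem_Jb K).1 hl
  refine mem_stabS fun x hx => ?_
  induction hx using Submodule.span_induction with
  | mem x hx =>
    have := Submodule.smul_mem (Submodule.span F (σ.Sb K : Set σ.W)) ((a⁻¹ : Fˣ) : F)
      (Submodule.subset_span (σ.Sb_inv K ha hx))
    rwa [smul_smul, Units.inv_mul, one_smul] at this
  | zero => simp
  | add x z _ _ hx hz => rw [map_add]; exact add_mem hx hz
  | smul b x _ hx => rw [map_smul]; exact Submodule.smul_mem _ b hx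

/-- The weak bound for dimension four over the field with three elements. -/
theorem bound_three (hp : p ≠ 2) (hA : B.IsAlt) (hB : B.Nondegenerate) (hd : finrank F V = 2 * (1 + 1))
    (hq : Nat.card F = 3) {H : Subgroup (Alt.isoGroup B)} (hH : H ≠ ⊤) : 14 ≤ H.index := by
  have : Nontrivial V := Module.nontrivial_of_finrank_pos (R := F) (by omega)
  obtain ⟨v, hv⟩ := exists_ne (0 : V)
  obtain ⟨σ, -⟩ := exists_frame hA hB hv
  have : Finite V := Module.finite_of_finite F
  have : Finite (Alt.isoGroup σ.BW) := Fr.finite_iso _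
  obtain ⟨h, hZ⟩ := exists_moved σ hH
  refine le_trans ?_ (relIndex_le_index σ h H)
  set K := conjS h H
  obtain ⟨hw, hw'⟩ := w_ge p hp 1 hd σ hZ
  have hz := z_ge p hp σ hZ
  rw [σ.relIndex_P']
  have ht : 1 ≤ (σ.T1 K).index := Nat.pos_of_ne_zero Subgroup.index_ne_zero_of_finite
  have hk : 1 ≤ (σ.Jb K).index := Nat.pos_of_ne_zero Subgroup.index_ne_zero_of_finite
  rw [hq] at hw hw'
  have h3 : 9 ≤ (σ.Sb K).index * (σ.Zp K).index :=
    le_trans (by norm_num) (Nat.mul_le_mul hw hz)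
  by_cases hJ : σ.Jb K = ⊤
  · have hS : Nat.card (σ.Sb K) = 1 := by
      by_contra hne
      obtain ⟨s, hs, hs0⟩ : ∃ s ∈ σ.Sb K, s ≠ 0 := by
        by_contra hc; push Not at hc
        exact hne (by rw [(AddSubgroup.eq_bot_iff_forall _).2 hc, AddSubgroup.card_bot])
      have hps : addOrderOf s = p := addOrderOf_eq_prime
        (by rw [← Nat.cast_smul_eq_nsmul F, CharP.cast_eq_zero, zero_smul]) hs0
      have hsz : AddSubgroup.zmultiples s = σ.Sb K := by
        refine AddSubgroup.eq_of_le_of_card_ge (AddSubgroup.zmultiples_le.2 hs) ?_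
        rw [Nat.card_zmultiples, hps]
        have h9 := card_Sb_sq p hp σ hZ
        rw [card_W σ 1 hd, hq] at h9
        have := three_le_p p hp
        have h3S : 3 * Nat.card (σ.Sb K) ≤ 3 ^ (2 * 1) := hw' ▸ Nat.mul_le_mul_right _ hw
        omega
      have hline : Submodule.span F (σ.Sb K : Set σ.W) ≤ Submodule.span F {s} :=
        Submodule.span_le.2 fun x hx => by
          rw [← hsz] at hx
          obtain ⟨z, rfl⟩ := AddSubgroup.mem_zmultiples_iff.1 hx
          exact Submodule.mem_span_singleton.2 ⟨(z : F), Int.cast_smul_eq_zsmul F z s⟩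
      have htop : Submodule.span F ({s} : Set σ.W) = ⊤ := eq_top_iff.2 fun x _ => by
        rcases eq_or_ne x 0 with rfl | hx
        · exact zero_mem _
        obtain ⟨g, hg⟩ := Alt.exists_iso_map σ.hA_W σ.hB_W hs0 hx
        exact hline (hg ▸ stabS_maps (Jb_le_stab_span σ K (show g ∈ σ.Jb K by rw [hJ]; trivial))
          (Submodule.subset_span hs))
      have h1 := finrank_span_singleton (K := F) hs0
      rw [htop, finrank_top] at h1
      have := σ.finrank_W
      omega
    rw [hS, mul_one] at hw'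
    rw [hw']
    calc 14 ≤ 1 * 1 * (3 ^ (2 * 1) * 3) := by norm_num
      _ ≤ _ := by gcongr
  · have : 2 ≤ (σ.Jb K).index := by
      have := mt Subgroup.index_eq_one.1 hJ
      omega
    calc 14 ≤ 2 * 1 * 9 := by norm_num
      _ ≤ _ := by gcongr

end Cfsg.Agent.MinIndexForm.Sp
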