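import Cfsg.Agent.MinIndexForm.Sp.Odd

/-!
The minimal index for odd characteristic.
-/

set_option autoImplicit false

namespace Cfsg.Agent.MinIndexForm.Sp

open Cfsg.Agent.Classical Module
open scoped commutatorElement

universe uF uV

/-- The bound to be proved: the number of points, except fourteen for dimension four over three elements. -/
def lowOdd (q n : ℕ) : ℕ := if q = 3 ∧ n = 2 then 14 else pts q (2 * n)

theorem pts_le_lowOdd (q : ℕ) (hq : 3 ≤ q) {m : ℕ} (hm : 2 ≤ m) : pts q (m + 1) ≤ lowOdd q m := by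
  unfold lowOdd
  split_ifs with h
  · obtain ⟨rfl, rfl⟩ := h; decide
  · exact pts_mono q (by omega)

variable {F : Type uF} [Field F] [Finite F] (p : ℕ) [Fact p.Prime] [CharP F p]

theorem commutator_central {G : Type*} [Group G] {z z' a b : G} (h1 : Commute z z') (h2 : Commute z a)
    (h3 : Commute z b) (h4 : Commute z' a) (h5 : Commute z' b) :
    z * a * (z' * b) * (z * a)⁻¹ * (z' * b)⁻¹ = a * b * a⁻¹ * b⁻¹ := by
  have hz : Commute z (z' * (a * b * a⁻¹)) := h1.mul_right ((h2.mul_right h3).mul_right h2.inv_right)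
  have hz' : Commute z' (a * b * a⁻¹ * b⁻¹) :=
    ((h4.mul_right h5).mul_right h4.inv_right).mul_right h5.inv_right
  calc z * a * (z' * b) * (z * a)⁻¹ * (z' * b)⁻¹
      = z * (a * z') * b * a⁻¹ * z⁻¹ * b⁻¹ * z'⁻¹ := by simp only [mul_inv_rev, mul_assoc]
    _ = z * (z' * (a * b * a⁻¹)) * z⁻¹ * b⁻¹ * z'⁻¹ := by rw [← h4.eq]; simp only [mul_assoc]
    _ = z' * (a * b * a⁻¹) * b⁻¹ * z'⁻¹ := by rw [hz.eq, mul_inv_cancel_right]
    _ = z' * (a * b * a⁻¹ * b⁻¹) * z'⁻¹ := by simp only [mul_assoc]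
    _ = _ := by rw [hz'.eq, mul_inv_cancel_right]

section Dim

variable {V : Type uV} [AddCommGroup V] [Module F V] [FiniteDimensional F V] {B : LinearMap.BilinForm F V}

omit [Fact p.Prime] [CharP F p] in
theorem perfect_W (σ : Fr B) (hq : 4 ≤ Nat.card F) : commutator (Alt.isoGroup σ.BW) = ⊤ := by
  refine Alt.commutator_isoGroup σ.hA_W σ.hB_W (Or.inl ?_)
  by_contra hc
  push Not at hc
  have : Nat.card F ≤ ({0, 1, -1} : Set F).ncard := by
    rw [← Set.ncard_univ]
    exact Set.ncard_le_ncard (fun a _ => by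
      rcases eq_or_ne a 0 with h | h
      · exact Or.inl h
      · exact Or.inr (sq_eq_one_iff.1 (hc a h))) (Set.toFinite _)
  have h3 := (Set.ncard_insert_le (0 : F) ({1, -1} : Set F))
  have h2 := Set.ncard_insert_le (1 : F) ({-1} : Set F)
  rw [Set.ncard_singleton] at h2
  omega

/-- A full Levi image gives a transvection group. -/
theorem not_free_of_full (hp : p ≠ 2) (σ : Fr B) {K : Subgroup (Alt.isoGroup B)}
    (hperf : commutator (Alt.isoGroup σ.BW) = ⊤) (hI : σ.I1 K = ⊤) (hW : finrank F σ.W ≠ 0) :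
    ¬ Free σ.hA K := by
  intro hK
  obtain ⟨h, hl⟩ := σ.lift p (K := K) (a := 1) (z0 := negW σ) (e := -1) (negW_apply σ)
    (by rw [Units.val_one, one_mul]; exact fun e => two_ne (F := F) p hp (by linear_combination -e))
    (Or.inr hp) ((σ.mem_I1 K).1 (by rw [hI]; trivial))
  have hmap : ∀ l, σ.emb l ∈ conjS h K := by
    suffices h' : commutator (Alt.isoGroup σ.BW) ≤ (conjS h K).comap σ.emb by
      rw [hperf] at h'; exact fun l => h' trivial
    rw [commutator_eq_closure, Subgroup.closure_le]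
    rintro _ ⟨l, l', rfl⟩
    obtain ⟨c, hc, -⟩ := hl l 1 ((σ.mem_I1 K).1 (by rw [hI]; trivial))
    obtain ⟨c', hc', -⟩ := hl l' 1 ((σ.mem_I1 K).1 (by rw [hI]; trivial))
    rw [σ.tor_one, mul_one] at hc hc'
    have := mul_mem (mul_mem (mul_mem hc hc') (inv_mem hc)) (inv_mem hc')
    show σ.emb ⁅l, l'⁆ ∈ conjS h K
    convert this using 1
    have hcc : Commute (σ.sh 0 c) (σ.sh 0 c') := by
      show σ.sh 0 c * σ.sh 0 c' = σ.sh 0 c' * σ.sh 0 c
      rw [σ.sh_mul, σ.sh_mul]; simp [add_comm]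
    have e1 : Commute (σ.emb l) (σ.sh 0 c') := σ.emb_mul_sh_zero l c'
    have e2 : Commute (σ.emb l') (σ.sh 0 c) := σ.emb_mul_sh_zero l' c
    rw [map_commutatorElement, commutatorElement_def]
    exact (commutator_central hcc ((σ.emb_mul_sh_zero l c : Commute _ _).symm) e2.symm e1.symm
      ((σ.emb_mul_sh_zero l' c' : Commute _ _).symm)).symm
  obtain ⟨v, hv⟩ : ∃ v : σ.W, v ≠ 0 := by
    have : Nontrivial σ.W := Module.nontrivial_of_finrank_pos (R := F) (Nat.pos_of_ne_zero hW)
    exact exists_ne 0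
  obtain ⟨c, hc⟩ := free_conjS σ.hA (h := h) hK (v : V) fun e => hv (Subtype.ext e)
  exact hc (σ.emb_tv v c ▸ hmap _)

theorem range_bound (σ : Fr B) (hp : p ≠ 2) (u : σ.W) (hu : u ≠ 0) (hd' : finrank F σ.W = 2 * (0 + 1))
    {J : Subgroup (Alt.isoGroup σ.BW)} (hJ : J ≤ stabS (Submodule.span F {u}))
    {c : F} (hc : Alt.tvE σ.hA_W u c ∉ J) : 3 * (Nat.card F + 1) ≤ J.index := by
  have : Finite V := Module.finite_of_finite F
  have : Finite (Alt.isoGroup σ.BW) := Fr.finite_iso _
  obtain ⟨τ, rfl⟩ := exists_frame σ.hA_W σ.hB_W hu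
  have hP : J ≤ τ.P := fun g hg => P_eq_stabS τ rfl (hJ hg)
  have hPidx : τ.P.index = Nat.card F + 1 := by
    rw [index_P τ 0 hd']; simp [pts, Finset.sum_range_succ, add_comm]
  set X := (Alt.tvHom σ.hA_W τ.y).range
  have hX : X ≤ τ.P := by
    rintro _ ⟨d, rfl⟩
    refine ⟨1, ?_⟩
    show (Alt.tv σ.hA_W τ.y d.toAdd) τ.y = _
    simp [Alt.tv_apply, σ.hA_W τ.y]
  have h2 : J.relIndex X ≤ J.relIndex τ.P :=
    Subgroup.relIndex_le_of_le_right hX Subgroup.index_ne_zero_of_finite
  have h3 : 3 ≤ J.relIndex X := by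
    have hne : J.relIndex X ≠ 1 := fun h => hc (Subgroup.relIndex_eq_one.1 h (Alt.tvE_mem_range σ.hA_W τ.y c))
    have h0 : J.relIndex X ≠ 0 := Subgroup.index_ne_zero_of_finite
    have hdvd : J.relIndex X ∣ Nat.card X := Subgroup.index_dvd_card _
    have hodd : Odd (Nat.card X) := by
      have h4 : Nat.card X ∣ Nat.card (Multiplicative F) := Subgroup.card_range_dvd _
      obtain ⟨e, he⟩ := exists_card_pow (F := F) p
      refine Odd.of_dvd_nat ?_ h4
      rw [Nat.card_congr (Multiplicative.toAdd), he]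
      exact ((Fact.out : p.Prime).odd_of_ne_two hp).pow
    have : J.relIndex X ≠ 2 := fun h => by
      rw [h] at hdvd
      exact (Nat.not_even_iff_odd.2 hodd) (even_iff_two_dvd.2 hdvd)
    omega
  rw [← Subgroup.relIndex_mul_index hP, hPidx]
  exact Nat.mul_le_mul_right _ (h3.trans h2)

theorem index_line (σ : Fr B) (u : σ.W) (hu : u ≠ 0) (hd' : finrank F σ.W = 2 * (0 + 1))
    {J : Subgroup (Alt.isoGroup σ.BW)} (hJ : J ≤ stabS (Submodule.span F {u})) : Nat.card F + 1 ≤ J.index := by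
  have : Finite V := Module.finite_of_finite F
  have : Finite (Alt.isoGroup σ.BW) := Fr.finite_iso _
  obtain ⟨τ, rfl⟩ := exists_frame σ.hA_W σ.hB_W hu
  have hPidx : τ.P.index = Nat.card F + 1 := by
    rw [index_P τ 0 hd']; simp [pts, Finset.sum_range_succ, add_comm]
  rw [← hPidx]
  exact Subgroup.index_antitone fun g hg => P_eq_stabS τ rfl (hJ hg)

theorem index_plane (σ : Fr B) {K : Subgroup (Alt.isoGroup B)} (hp : p ≠ 2)
    (hd' : finrank F σ.W = 2 * (0 + 1)) (hS : Nat.card (σ.Sb K) ≤ Nat.card F) {u v : σ.W} (hu : u ∈ σ.Sb K)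
    (hu0 : u ≠ 0) (hv : v ∈ σ.Sb K) (hind : v ∉ Submodule.span F ({u} : Set σ.W)) :
    3 * (Nat.card F + 1) ≤ (σ.I1 K).index := by
  have : Finite V := Module.finite_of_finite F
  have : Finite (Alt.isoGroup σ.BW) := Fr.finite_iso _
  have hv0 : v ≠ 0 := fun h => hind (h ▸ zero_mem _)
  let A : σ.W → AddSubgroup F := fun x => (σ.Sb K).comap ((LinearMap.toSpanSingleton F σ.W x).toAddMonoidHom)
  have hA : ∀ x c, c ∈ A x ↔ c • x ∈ σ.Sb K := fun x c => Iff.rfl
  have hind2 : ∀ c d : F, c • u + d • v = 0 → c = 0 ∧ d = 0 := by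
    intro c d h
    have hd0 : d = 0 := by
      by_contra hd
      refine hind (Submodule.mem_span_singleton.2 ⟨-c / d, smul_right_injective σ.W hd ?_⟩)
      show d • ((-c / d) • u) = d • v
      rw [smul_smul, mul_div_cancel₀ _ hd, neg_smul, eq_comm, ← add_eq_zero_iff_eq_neg, add_comm]
      exact h
    subst hd0
    rw [zero_smul, add_zero] at h
    exact ⟨(smul_eq_zero.1 h).resolve_right hu0, rfl⟩
  have hprod : Nat.card (A u) * Nat.card (A v) ≤ Nat.card F := by
    refine le_trans ?_ hS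
    rw [← Nat.card_prod]
    refine Nat.card_le_card_of_injective
      (fun x => (⟨x.1.1 • u + x.2.1 • v, add_mem x.1.2 x.2.2⟩ : σ.Sb K)) fun x x' h => ?_
    have h' : (x.1.1 - x'.1.1) • u + (x.2.1 - x'.2.1) • v = 0 := by
      have := congrArg Subtype.val h
      rw [sub_smul, sub_smul, sub_add_sub_comm, sub_eq_zero]; exact this
    obtain ⟨e1, e2⟩ := hind2 _ _ h'
    exact Prod.ext (Subtype.ext (sub_eq_zero.1 e1)) (Subtype.ext (sub_eq_zero.1 e2))
  -- reorder so that the line through the first vector is the smaller one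
  obtain ⟨u, v, hu, hu0, hv, hind2, hsq⟩ : ∃ u v : σ.W, u ∈ σ.Sb K ∧ u ≠ 0 ∧ v ∈ σ.Sb K ∧
      (∀ c d : F, c • u + d • v = 0 → c = 0 ∧ d = 0) ∧ Nat.card (A u) * Nat.card (A u) ≤ Nat.card F := by
    rcases le_total (Nat.card (A u)) (Nat.card (A v)) with h | h
    · exact ⟨u, v, hu, hu0, hv, hind2, (Nat.mul_le_mul_left _ h).trans hprod⟩
    · exact ⟨v, u, hv, hv0, hu, fun c d e => (hind2 d c (by rw [add_comm]; exact e)).symm,
        (Nat.mul_le_mul_right _ h).trans hprod⟩
  set a := Nat.card (A u)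
  have h3a : 3 * a ≤ Nat.card F := by
    rcases eq_or_ne a 1 with h | h
    · rw [h]
      obtain ⟨e, he⟩ := exists_card_pow (F := F) p
      have h2 : 1 < Nat.card F := Finite.one_lt_card
      rcases e with _ | e
      · simp only [pow_zero] at he; omega
      · rw [he, mul_one]
        exact le_trans (three_le_p p hp) (le_self_pow₀ (Fact.out : p.Prime).one_le (Nat.succ_ne_zero e))
    · have hapos : 0 < a := Nat.card_pos
      have hdvd : a ∣ Nat.card F := (A u).card_addSubgroup_dvd_card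
      obtain ⟨e, he⟩ := exists_card_pow (F := F) p
      rw [he] at hdvd
      obtain ⟨i, -, hi⟩ := (Nat.dvd_prime_pow (Fact.out)).1 hdvd
      have : 3 ≤ a := by
        rw [hi]
        rcases i with _ | i
        · exact absurd (by simpa using hi) h
        · exact le_trans (three_le_p p hp) (le_self_pow₀ (Fact.out : p.Prime).one_le (Nat.succ_ne_zero i))
      exact le_trans (Nat.mul_le_mul_right _ this) hsq
  have hspan : Submodule.span F ({u, v} : Set σ.W) = ⊤ := by
    refine Submodule.eq_top_of_finrank_eq ?_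
    have hli : LinearIndependent F ![u, v] := LinearIndependent.pair_iff.2 hind2
    have h2 := finrank_span_eq_card hli
    rw [show Set.range ![u, v] = ({u, v} : Set σ.W) by simp [Set.pair_comm], Fintype.card_fin] at h2
    omega
  have huv : σ.BW u v ≠ 0 := fun h0 => by
    exact hu0 (σ.hB_W.1 u fun x => by
      obtain ⟨c, d, rfl⟩ := Submodule.mem_span_pair.1 (show x ∈ Submodule.span F ({u, v} : Set σ.W) by
        rw [hspan]; trivial)
      rw [map_add, map_smul, map_smul, σ.hA_W u, h0, smul_zero, smul_zero, add_zero])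
  classical
  have hcard : Nat.card (σ.I1 K) ≤ (Nat.card F - 1) * a := by
    let f : σ.I1 K → {x : σ.Sb K // x ≠ 0} := fun l =>
      ⟨⟨l.1.1 u, σ.Sb_inv_I1 K l.2 hu⟩, fun h => hu0 (l.1.1.map_eq_zero_iff.1 (congrArg Subtype.val h))⟩
    let rep : {x : σ.Sb K // x ≠ 0} → σ.I1 K := fun x =>
      if h : ∃ l, f l = x then h.choose else 1
    have hrep : ∀ l, f (rep (f l)) = f l := fun l => by
      simp only [rep, dif_pos (show ∃ l', f l' = f l from ⟨l, rfl⟩)]
      exact (show ∃ l', f l' = f l from ⟨l, rfl⟩).choose_spec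
    have key : ∀ s : σ.I1 K, s.1.1 u = u → ∃ c : A u, s.1.1 v - v = c.1 • u := by
      intro s hs
      have hsp : ∃ c d : F, c • u + d • v = s.1.1 v :=
        Submodule.mem_span_pair.1 (show s.1.1 v ∈ Submodule.span F ({u, v} : Set σ.W) by rw [hspan]; trivial)
      obtain ⟨c, d, he⟩ := hsp
      have h3 := s.1.2 u v
      rw [hs, ← he, map_add, map_smul, map_smul, σ.hA_W u, smul_zero, zero_add, smul_eq_mul] at h3
      have hd1 : d = 1 := mul_right_cancel₀ huv (h3.trans (one_mul _).symm)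
      subst hd1
      rw [one_smul] at he
      refine ⟨⟨c, ?_⟩, by rw [← he, add_sub_cancel_right]⟩
      rw [hA, show c • u = s.1.1 v - v by rw [← he, add_sub_cancel_right]]
      exact sub_mem (σ.Sb_inv_I1 K s.2 hv) hv
    have hstab : ∀ l, ((rep (f l))⁻¹ * l).1.1 u = u := fun l => by
      have h := congrArg (fun x : {x : σ.Sb K // x ≠ 0} => x.1.1) (hrep l)
      simp only [f] at h
      show ((rep (f l)).1⁻¹).1 (l.1.1 u) = u
      rw [← h]; exact Alt.inv_apply_self _ _
    have hS1 : Nat.card {x : σ.Sb K // x ≠ 0} ≤ Nat.card F - 1 := by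
      have : Nat.card {x : σ.Sb K // x ≠ 0} + 1 = Nat.card (σ.Sb K) := by
        have : Fintype (σ.Sb K) := Fintype.ofFinite _
        classical
        rw [Nat.card_eq_fintype_card, Nat.card_eq_fintype_card, Fintype.card_subtype_compl, Fintype.card_subtype_eq]
        have := Fintype.card_pos (α := σ.Sb K)
        omega
      omega
    choose g hg using fun l => key _ (hstab l)
    refine le_trans (Nat.card_le_card_of_injective (fun l => (f l, g l)) fun l l' h => ?_)
      (by rw [Nat.card_prod]; exact Nat.mul_le_mul_right _ hS1)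
    simp only [Prod.mk.injEq] at h
    have e1 := hstab l
    have e2 := hstab l'
    have e3 : ((rep (f l))⁻¹ * l).1.1 v = ((rep (f l'))⁻¹ * l').1.1 v := by
      rw [← sub_left_inj (a := v), hg l, hg l', h.2]
    rw [← h.1] at e2 e3
    have : (rep (f l))⁻¹ * l = (rep (f l))⁻¹ * l' := by
      refine Subtype.ext (Subtype.ext (LinearEquiv.ext fun x => ?_))
      obtain ⟨c, d, rfl⟩ := Submodule.mem_span_pair.1 (show x ∈ Submodule.span F ({u, v} : Set σ.W) by
        rw [hspan]; trivial)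
      simp only [map_add, map_smul, e1, e2, e3]
    exact mul_left_cancel this
  have : Fintype F := Fintype.ofFinite F
  have hL : Nat.card (Alt.isoGroup σ.BW) = Nat.card F * (Nat.card F ^ 2 - 1) := by
    rw [Alt.card_isoGroup σ.hA_W σ.hB_W (0 + 1) hd', Fintype.card_eq_nat_card]
    simp
  have hidx := (σ.I1 K).card_mul_index
  rw [hL] at hidx
  set q := Nat.card F
  set k := (σ.I1 K).index
  have hq : 1 < q := Finite.one_lt_card
  have h1 : q * (q ^ 2 - 1) ≤ (q - 1) * a * k := hidx ▸ Nat.mul_le_mul_right _ hcard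
  rw [show q ^ 2 - 1 = (q - 1) * (q + 1) by
    rw [mul_comm]; simpa using Nat.sq_sub_sq q 1] at h1
  have h2 : q * (q + 1) ≤ a * k := by
    refine Nat.le_of_mul_le_mul_left ?_ (show 0 < q - 1 by omega)
    calc (q - 1) * (q * (q + 1)) = q * ((q - 1) * (q + 1)) := by ring
      _ ≤ _ := h1
      _ = _ := by ring
  have h4 : q * (3 * (q + 1)) ≤ q * k := by
    calc q * (3 * (q + 1)) = 3 * (q * (q + 1)) := by ring
      _ ≤ 3 * (a * k) := Nat.mul_le_mul_left _ h2
      _ = 3 * a * k := by ring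
      _ ≤ _ := Nat.mul_le_mul_right _ h3a
  exact Nat.le_of_mul_le_mul_left h4 (by omega)

/-- Dimension four. -/
theorem bound_two (hp : p ≠ 2) (hA : B.IsAlt) (hB : B.Nondegenerate) (hd : finrank F V = 2 * (1 + 1))
    (hq : 5 ≤ Nat.card F) {H : Subgroup (Alt.isoGroup B)} (hH : H ≠ ⊤) :
    pts (Nat.card F) (2 * (1 + 1)) ≤ H.index := by
  by_cases hfree : Free hA H
  swap
  · exact index_of_not_free hA hB 1 hd (by omega) le_rfl 0 (fun h => absurd h (by omega))
      (fun _ _ _ h => absurd h (by omega)) hH hfree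
  have : Nontrivial V := Module.nontrivial_of_finrank_pos (R := F) (by omega)
  obtain ⟨v, hv⟩ := exists_ne (0 : V)
  obtain ⟨σ, -⟩ := exists_frame hA hB hv
  have : Finite V := Module.finite_of_finite F
  have : Finite (Alt.isoGroup σ.BW) := Fr.finite_iso _
  obtain ⟨h, hZ⟩ := exists_moved σ hH
  refine le_trans ?_ (relIndex_le_index σ h H)
  set K := conjS h H with hK
  have hKfree : Free σ.hA K := free_conjS hA hfree
  have hd' : finrank F σ.W = 2 * (0 + 1) := by have := σ.finrank_W; omega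
  obtain ⟨hw, hw'⟩ := w_ge p hp 1 hd σ hZ
  have hz := z_ge p hp σ hZ
  set q := Nat.card F with hqd
  have hN : pts q (2 * (1 + 1)) = q ^ 3 + q ^ 2 + q + 1 := by simp [pts, Finset.sum_range_succ]; ring
  rw [hN, pow_one] at *
  have hperf := perfect_W σ (show 4 ≤ Nat.card F by omega)
  have htz1 := two_index_mul hZ (fun a ha c hc => σ.Zp_inv K (σ.T1_le_T2 K ha) hc)
  have htz2 := two_index_mul hZ (fun a ha c hc => σ.Zp_inv K ha hc)
  rw [← hqd] at htz1 htz2
  by_cases hS : σ.Sb K = ⊥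
  · rw [σ.relIndex_P']
    have hw2 : (σ.Sb K).index = q ^ 2 := by simpa [hS] using hw'
    have hJ : σ.Jb K ≠ ⊤ := fun hJ =>
      not_free_of_full p hp σ hperf (I1_eq_top σ hperf hJ) (by omega) hKfree
    have hk : 3 ≤ (σ.Jb K).index := by
      have h1 := mt Subgroup.index_eq_one.1 hJ
      have h0 : (σ.Jb K).index ≠ 0 := Subgroup.index_ne_zero_of_finite
      have h2 : (σ.Jb K).index ≠ 2 := fun h2 => hJ (by
        rw [eq_top_iff, ← hperf, commutator_eq_closure, Subgroup.closure_le]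
        rintro _ ⟨l, l', rfl⟩
        have := Subgroup.normal_of_index_eq_two h2
        show ⁅l, l'⁆ ∈ σ.Jb K
        rw [← QuotientGroup.eq_one_iff, ← QuotientGroup.mk'_apply, map_commutatorElement,
          commutatorElement_eq_one_iff_mul_comm]
        have : IsCyclic (Alt.isoGroup σ.BW ⧸ σ.Jb K) := by
          have : Fact (Nat.Prime 2) := ⟨Nat.prime_two⟩
          exact isCyclic_of_prime_card (p := 2) h2
        exact IsCyclic.commGroup.mul_comm _ _)
      omega
    rw [hw2]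
    nlinarith [Nat.mul_le_mul_right (q ^ 2) (Nat.mul_le_mul hk htz1)]
  obtain ⟨u, hu, hu0⟩ : ∃ u ∈ σ.Sb K, u ≠ 0 := by
    by_contra hc; push Not at hc
    exact hS ((AddSubgroup.eq_bot_iff_forall _).2 hc)
  by_cases hline : ∀ x ∈ σ.Sb K, x ∈ Submodule.span F ({u} : Set σ.W)
  swap
  · push Not at hline
    obtain ⟨x, hx, hxu⟩ := hline
    rw [σ.relIndex_P]
    have hk := index_plane p σ hp hd' (by
      have h1 : q * Nat.card (σ.Sb K) ≤ q * q := by
        calc q * Nat.card (σ.Sb K) ≤ (σ.Sb K).index * Nat.card (σ.Sb K) := Nat.mul_le_mul_right _ hw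
          _ = _ := by rw [hw']; ring
      exact Nat.le_of_mul_le_mul_left h1 (by omega)) hu hu0 hx hxu
    rw [← hqd] at hk
    nlinarith [Nat.mul_le_mul (Nat.mul_le_mul hk htz2) hw]
  rw [σ.relIndex_P']
  have hJst : σ.Jb K ≤ stabS (Submodule.span F ({u} : Set σ.W)) := by
    have e : Submodule.span F (σ.Sb K : Set σ.W) = Submodule.span F {u} :=
      le_antisymm (Submodule.span_le.2 hline)
        (Submodule.span_mono (Set.singleton_subset_iff.2 hu))
    exact e ▸ Jb_le_stab_span σ K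
  have hk := index_line σ u hu0 hd' hJst
  rw [← hqd] at hk
  by_cases hw3 : 3 * q ≤ (σ.Sb K).index
  · nlinarith [Nat.mul_le_mul (Nat.mul_le_mul hk htz1) hw3]
  by_cases hc : ∃ c, Alt.tvE σ.hA_W u c ∉ σ.Jb K
  · obtain ⟨c, hc⟩ := hc
    have hk3 := range_bound p σ hp u hu0 hd' hJst hc
    rw [← hqd] at hk3
    nlinarith [Nat.mul_le_mul (Nat.mul_le_mul hk3 htz1) hw]
  push Not at hc
  -- the whole root group is in the image
  have hroot : ∀ c, Alt.tvE σ.hA_W u c ∈ σ.I1 K := by
    intro c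
    obtain ⟨a, ha⟩ := (σ.mem_Jb K).1 (hc (-c))
    have h1 := pow_mem ha (Nat.card Fˣ)
    rw [Prod.pow_mk, pow_card_eq_one'] at h1
    refine (σ.mem_I1 K).2 ?_
    convert h1 using 2
    rw [show Alt.tvE σ.hA_W u (-c) = Alt.tvHom σ.hA_W u (Multiplicative.ofAdd (-c)) from rfl, ← map_pow,
      ← ofAdd_nsmul]
    show _ = Alt.tvE σ.hA_W u (Nat.card Fˣ • -c)
    congr 1
    have h4 := card_units_field (F := F)
    have h5 : ((Nat.card Fˣ + 1 : ℕ) : F) = 0 := by rw [h4]; exact (by have : Fintype F := Fintype.ofFinite F; rw [Nat.card_eq_fintype_card]; exact Nat.cast_card_eq_zero F)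
    rw [nsmul_eq_mul]
    push_cast at h5
    linear_combination c * h5
  by_cases hT : ∃ a ∈ σ.T1 K, (a : F) ^ 2 ≠ 1
  · obtain ⟨a, ha, ha2⟩ := hT
    exact absurd hKfree (not_free_of_root σ p ha2 ha hu0 hroot)
  push Not at hT
  have ht : q - 1 ≤ 2 * (σ.T1 K).index := by
    have h1 := (σ.T1 K).card_mul_index
    have h2 := card_le_two_of_sq_eq_one (T := σ.T1 K) hT
    have h3 := card_units_field (F := F)
    rw [← hqd] at h3
    have h4 := Nat.mul_le_mul_right (σ.T1 K).index h2
    omega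
  obtain ⟨r, hr⟩ : ∃ r, q = r + 1 := ⟨q - 1, by omega⟩
  rw [hr, Nat.add_sub_cancel] at ht
  rw [hr] at hk hw hq ⊢
  nlinarith [Nat.mul_le_mul (Nat.mul_le_mul hk ht) (Nat.mul_le_mul hw hz)]

/-- The inductive step. -/
theorem step_odd (hp : p ≠ 2) (hA : B.IsAlt) (hB : B.Nondegenerate) (m : ℕ) (hm : 2 ≤ m)
    (hd : finrank F V = 2 * (m + 1)) (hq : 3 ≤ Nat.card F)
    (hih : ∀ (σ : Fr B) (J : Subgroup (Alt.isoGroup σ.BW)), J ≠ ⊤ → lowOdd (Nat.card F) m ≤ J.index)
    {H : Subgroup (Alt.isoGroup B)} (hH : H ≠ ⊤) : pts (Nat.card F) (2 * (m + 1)) ≤ H.index := by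
  by_cases hfree : Free hA H
  swap
  · exact index_of_not_free hA hB m hd hq (by omega) _ (fun h => pts_le_lowOdd _ hq h)
      (fun σ J hJ _ => hih σ J hJ) hH hfree
  have : Nontrivial V := Module.nontrivial_of_finrank_pos (R := F) (by omega)
  obtain ⟨v, hv⟩ := exists_ne (0 : V)
  obtain ⟨σ, -⟩ := exists_frame hA hB hv
  have : Finite V := Module.finite_of_finite F
  have : Finite (Alt.isoGroup σ.BW) := Fr.finite_iso _
  obtain ⟨h, hZ⟩ := exists_moved σ hH
  refine le_trans ?_ (relIndex_le_index σ h H)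
  set K := conjS h H
  have hKfree : Free σ.hA K := free_conjS hA hfree
  obtain ⟨hw, -⟩ := w_ge p hp m hd σ hZ
  have hz := z_ge p hp σ hZ
  have hW : finrank F σ.W = 2 * m := by have := σ.finrank_W; omega
  have hperf : commutator (Alt.isoGroup σ.BW) = ⊤ :=
    Alt.commutator_isoGroup σ.hA_W σ.hB_W (Or.inr (Or.inl ⟨two_ne p hp, by omega⟩))
  have hJ : σ.Jb K ≠ ⊤ := fun hJ =>
    not_free_of_full p hp σ hperf (I1_eq_top σ hperf hJ) (by omega) hKfree
  have hk := hih σ _ hJ
  have ht : 1 ≤ (σ.T1 K).index := Nat.pos_of_ne_zero Subgroup.index_ne_zero_of_finite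
  rw [σ.relIndex_P']
  refine le_trans ?_ (Nat.mul_le_mul (Nat.mul_le_mul hk ht) (Nat.mul_le_mul hw hz))
  set q := Nat.card F
  rw [mul_one]
  have h1 := pts_succ q (2 * m + 1)
  have h2 := pts_succ q (2 * m)
  rw [show 2 * m + 1 + 1 = 2 * (m + 1) by ring] at h1
  have h3 : q ^ 2 ≤ q ^ m := Nat.pow_le_pow_right (by omega) hm
  have hP : 1 ≤ pts q (2 * m) := pts_pos q (by omega)
  unfold lowOdd
  split_ifs with hc
  · obtain ⟨hq3, rfl⟩ := hc
    rw [hq3]; decide
  · rw [h1, h2]
    calc q * (q * pts q (2 * m) + 1) + 1 = q ^ 2 * pts q (2 * m) + q + 1 := by ring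
      _ ≤ 3 * (q ^ 2 * pts q (2 * m)) := by nlinarith
      _ ≤ 3 * (q ^ m * pts q (2 * m)) := by gcongr
      _ = _ := by ring

end Dim

/-- The bound in odd characteristic. -/
theorem min_index_odd (hp : p ≠ 2) : ∀ n, ∀ {V : Type uV} [AddCommGroup V] [Module F V] [FiniteDimensional F V]
    {B : LinearMap.BilinForm F V}, B.IsAlt → B.Nondegenerate → finrank F V = 2 * (n + 2) →
    ∀ H : Subgroup (Alt.isoGroup B), H ≠ ⊤ → lowOdd (Nat.card F) (n + 2) ≤ H.index := by
  have hq3 : 3 ≤ Nat.card F := by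
    obtain ⟨e, he⟩ := exists_card_pow (F := F) p
    have h2 : 1 < Nat.card F := Finite.one_lt_card
    rcases e with _ | e
    · simp only [pow_zero] at he; omega
    · rw [he]; exact le_trans (three_le_p p hp) (le_self_pow₀ (Fact.out : p.Prime).one_le (Nat.succ_ne_zero e))
  intro n
  induction n with
  | zero =>
    intro V _ _ _ B hA hB hd H hH
    by_cases hc : Nat.card F = 3
    · simp only [lowOdd, hc, and_self, if_true]
      exact bound_three p hp hA hB hd hc hH
    · simp only [lowOdd, hc, false_and, if_false]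
      refine bound_two p hp hA hB hd ?_ hH
      obtain ⟨e, he⟩ := exists_card_pow (F := F) p
      by_contra h5
      have h4 : Nat.card F = 4 := by omega
      have : 2 ∣ p ^ e := by rw [← he, h4]; norm_num
      exact hp ((Nat.prime_dvd_prime_iff_eq Nat.prime_two Fact.out).1 (Nat.prime_two.dvd_of_dvd_pow this)).symm
  | succ n ih =>
    intro V _ _ _ B hA hB hd H hH
    simp only [lowOdd, show ¬ (Nat.card F = 3 ∧ n + 1 + 2 = 2) by omega, if_false]
    exact step_odd p hp hA hB (n + 2) (by omega) hd hq3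
      (fun σ J hJ => ih σ.hA_W σ.hB_W (by have := σ.finrank_W; omega) J hJ) hH

end Cfsg.Agent.MinIndexForm.Sp
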