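import Cfsg.Agent.MinIndexForm.Sp.Lift

/-!
The index of a point stabiliser, and a lower bound for the index of the stabiliser of a totally isotropic subspace.
-/

set_option autoImplicit false

namespace Cfsg.Agent.MinIndexForm.Sp

open Cfsg.Agent.Classical Module

universe uF uV
variable {F : Type uF} {V : Type uV} [Field F] [AddCommGroup V] [Module F V] {B : LinearMap.BilinForm F V}

/-- The number of points of an n-dimensional space over a field with q elements. -/
def pts (q n : ℕ) : ℕ := ∑ i ∈ Finset.range n, q ^ i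

theorem pts_mul (q n : ℕ) (hq : 1 ≤ q) : pts q n * (q - 1) + 1 = q ^ n := by
  obtain ⟨r, rfl⟩ : ∃ r, q = r + 1 := ⟨q - 1, by omega⟩
  rw [Nat.add_sub_cancel, pts, geom_sum_mul_add]

theorem pts_succ (q n : ℕ) : pts q (n + 1) = q * pts q n + 1 := geom_sum_succ

theorem pts_mono (q : ℕ) {a b : ℕ} (h : a ≤ b) : pts q a ≤ pts q b :=
  Finset.sum_le_sum_of_subset (Finset.range_mono h)

theorem pts_pos (q : ℕ) {n : ℕ} (h : 1 ≤ n) : 1 ≤ pts q n := by
  refine le_trans (le_of_eq ?_) (pts_mono q h)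
  simp [pts]

/-- The hyperbolic pair through a given vector. -/
theorem exists_frame (hA : B.IsAlt) (hB : B.Nondegenerate) {v : V} (hv : v ≠ 0) : ∃ σ : Fr B, σ.y = v := by
  obtain ⟨w, -, hw⟩ := Alt.exists_partner hA (Alt.ndon_top hB) (W := ⊤) trivial hv
  exact ⟨⟨hA, hB, v, w, hw⟩, rfl⟩

variable [Finite F] [FiniteDimensional F V]

theorem card_W (σ : Fr B) (m : ℕ) (hd : finrank F V = 2 * (m + 1)) : Nat.card σ.W = Nat.card F ^ (2 * m) := by
  rw [Module.natCard_eq_pow_finrank (K := F)]
  congr 1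
  have := σ.finrank_W; omega

theorem index_P (σ : Fr B) (m : ℕ) (hd : finrank F V = 2 * (m + 1)) :
    σ.P.index = pts (Nat.card F) (2 * (m + 1)) := by
  have : Fintype F := Fintype.ofFinite F
  have : Finite (Alt.isoGroup B) := Fr.finite_iso B
  have hW : finrank F σ.W = 2 * m := by have := σ.finrank_W; omega
  have h1 := σ.card_P
  rw [Alt.card_isoGroup σ.hA_W σ.hB_W m hW, card_W σ m hd, Fintype.card_eq_nat_card] at h1
  have h2 := σ.P.card_mul_index
  rw [Alt.card_isoGroup σ.hA σ.hB (m + 1) hd, Fintype.card_eq_nat_card, h1] at h2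
  have hq : 1 ≤ Nat.card F := Nat.card_pos
  have h3 := pts_mul (Nat.card F) (2 * (m + 1)) hq
  have hu : Nat.card Fˣ = Nat.card F - 1 := Nat.card_units F
  have hpos : 0 < Nat.card σ.P := Nat.card_pos
  rw [h1] at hpos
  refine Nat.eq_of_mul_eq_mul_left hpos ?_
  rw [h2, hu, Finset.prod_range_succ, show Nat.card F ^ (2 * (m + 1)) - 1 = pts (Nat.card F) (2 * (m + 1)) *
    (Nat.card F - 1) by omega, show (m + 1) ^ 2 = m ^ 2 + 2 * m + 1 by ring, pow_succ, pow_add]
  ring

omit [Finite F] [FiniteDimensional F V] in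
/-- The stabiliser of a subspace. -/
def stabS (U : Submodule F V) : Subgroup (Alt.isoGroup B) where
  carrier := {g | U.map (g.1 : V →ₗ[F] V) = U}
  one_mem' := Submodule.map_id U
  mul_mem' := fun {g h} hg hh => by
    show U.map ((g.1 : V →ₗ[F] V).comp (h.1 : V →ₗ[F] V)) = U
    rw [Submodule.map_comp, show U.map (h.1 : V →ₗ[F] V) = U from hh]
    exact hg
  inv_mem' := fun {g} hg => by
    show U.map ((g⁻¹).1 : V →ₗ[F] V) = U
    conv_lhs => rw [← (show U.map (g.1 : V →ₗ[F] V) = U from hg), ← Submodule.map_comp]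
    rw [show ((g⁻¹).1 : V →ₗ[F] V).comp (g.1 : V →ₗ[F] V) = LinearMap.id from
      LinearMap.ext fun x => Alt.inv_apply_self g.1 x, Submodule.map_id]

omit [Finite F] [FiniteDimensional F V] in
theorem stabS_maps {U : Submodule F V} {g : Alt.isoGroup B} (hg : g ∈ stabS U) {x : V} (hx : x ∈ U) : g.1 x ∈ U := by
  rw [← (show U.map (g.1 : V →ₗ[F] V) = U from hg)]
  exact ⟨x, hx, rfl⟩

theorem mem_stabS {U : Submodule F V} {g : Alt.isoGroup B} (hg : ∀ x ∈ U, g.1 x ∈ U) : g ∈ stabS U :=
  Submodule.eq_of_le_of_finrank_le (by rintro _ ⟨x, hx, rfl⟩; exact hg x hx)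
    (le_of_eq (LinearEquiv.finrank_map_eq g.1 U).symm)

omit [Finite F] [FiniteDimensional F V] in
theorem P_eq_stabS (σ : Fr B) {g : Alt.isoGroup B} {U : Submodule F V} (hU : U = Submodule.span F {σ.y})
    (hg : g ∈ stabS U) : g ∈ σ.P := by
  subst hU
  obtain ⟨a, ha⟩ := Submodule.mem_span_singleton.1 (stabS_maps hg (Submodule.mem_span_singleton_self σ.y))
  have ha0 : a ≠ 0 := fun h => by
    rw [h, zero_smul] at ha
    have := Alt.inv_apply_self g.1 σ.y
    rw [← ha, map_zero] at this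
    exact σ.y_ne this.symm
  exact ⟨Units.mk0 a ha0, ha.symm⟩

/-- A subgroup fixing a non-zero totally isotropic subspace has at least as many cosets as there are points. -/
theorem index_ge_of_isotropic (hA : B.IsAlt) (hB : B.Nondegenerate) (m : ℕ) (hd : finrank F V = 2 * (m + 1))
    (hm : 1 ≤ m) (f : ℕ) (hf : 2 ≤ m → pts (Nat.card F) (m + 1) ≤ f)
    (hih : ∀ (σ : Fr B) (J : Subgroup (Alt.isoGroup σ.BW)), J ≠ ⊤ → 2 ≤ m → f ≤ J.index)
    (U : Submodule F V) (hU : U ≠ ⊥) (hiso : ∀ x ∈ U, ∀ z ∈ U, B x z = 0)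
    {H : Subgroup (Alt.isoGroup B)} (hH : H ≤ stabS U) : pts (Nat.card F) (2 * (m + 1)) ≤ H.index := by
  have : Finite V := Module.finite_of_finite F
  have : Finite (Alt.isoGroup B) := Fr.finite_iso B
  obtain ⟨v, hvU, hv⟩ := U.exists_mem_ne_zero_of_ne_bot hU
  obtain ⟨σ, rfl⟩ := exists_frame hA hB hv
  by_cases hline : U = Submodule.span F {σ.y}
  · rw [← index_P σ m hd]
    exact Subgroup.index_antitone (fun g hg => P_eq_stabS σ hline (hH hg))
  set S := stabS (B := B) U with hS
  refine le_trans ?_ (Subgroup.index_antitone hH)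
  -- the part in the complement
  set U' : Submodule F σ.W := U.comap σ.W.subtype with hU'
  have hdec : ∀ x ∈ U, (σ.pr x : V) ∈ U ∧ B x σ.y = 0 := fun x hx => by
    have h0 := hiso x hx σ.y hvU
    refine ⟨?_, h0⟩
    rw [Fr.pr_coe, h0, zero_smul, add_zero]
    exact U.sub_mem hx (U.smul_mem _ hvU)
  have hU'0 : U' ≠ ⊥ := fun h => hline (le_antisymm (fun x hx => by
    have h1 : σ.pr x ∈ U' := (hdec x hx).1
    rw [h, Submodule.mem_bot] at h1
    rw [σ.decomp x, h1, (hdec x hx).2]
    simp [Submodule.mem_span_singleton]) ((Submodule.span_singleton_le_iff_mem _ _).2 hvU))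
  have hiso' : ∀ x ∈ U', ∀ z ∈ U', σ.BW x z = 0 := fun x hx z hz => hiso x hx z hz
  -- the image lies in the stabiliser of that part
  have hJ : σ.Jb S ≤ stabS U' := fun l hl => by
    obtain ⟨a, ha⟩ := (σ.mem_Jb S).1 hl
    obtain ⟨u, c, hp⟩ := σ.mem_Im.1 ha
    refine mem_stabS fun x hx => ?_
    rw [← σ.pr_par_W a u c l x]
    exact (hdec _ (stabS_maps hp hx)).1
  have hproper : stabS (B := σ.BW) U' ≠ ⊤ := fun h => by
    obtain ⟨x, hx, hx0⟩ := U'.exists_mem_ne_zero_of_ne_bot hU'0
    obtain ⟨z, hz⟩ : ∃ z, σ.BW x z ≠ 0 := by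
      by_contra hc; push Not at hc; exact hx0 (σ.hB_W.1 x hc)
    have hz0 : z ≠ 0 := fun h0 => hz (by rw [h0, map_zero])
    obtain ⟨g, hg⟩ := Alt.exists_iso_map σ.hA_W σ.hB_W hx0 hz0
    have hgm : g ∈ stabS U' := by rw [h]; trivial
    exact hz (hiso' x hx z (hg ▸ stabS_maps hgm hx))
  set k := finrank F U with hk
  -- the points of the subspace
  have hSP : σ.P.relIndex S ≤ pts (Nat.card F) k := by
    have hne : Nonempty U := ⟨0⟩
    rw [pts, ← Projectivization.card_of_finrank F U hk.symm]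
    let act : S → Projectivization F U := fun g => Projectivization.mk F
      (⟨(g.1).1 σ.y, stabS_maps g.2 hvU⟩ : U) fun h => σ.y_ne (by
        have h' : g.1.1 σ.y = 0 := congrArg Subtype.val h
        have := Alt.inv_apply_self g.1.1 σ.y
        rw [h', map_zero] at this
        exact this.symm)
    rw [Subgroup.relIndex, Subgroup.index]
    refine Nat.card_le_card_of_injective (fun q => act q.out) fun q q' h => ?_
    rw [← q.out_eq, ← q'.out_eq]
    refine Quotient.sound ?_
    obtain ⟨a, ha⟩ := (Projectivization.mk_eq_mk_iff' F _ _ _ _).1 h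
    have ha' : a • (q'.out.1).1 σ.y = (q.out.1).1 σ.y := congrArg Subtype.val ha
    refine QuotientGroup.leftRel_apply.2 ?_
    rw [Subgroup.mem_subgroupOf]
    have e : (((q.out)⁻¹ * q'.out : S) : Alt.isoGroup B).1 σ.y = ((q.out.1)⁻¹).1 ((q'.out.1).1 σ.y) := rfl
    have ha0 : a ≠ 0 := fun h0 => σ.y_ne (by
      rw [h0, zero_smul] at ha'
      have := Alt.inv_apply_self q.out.1.1 σ.y
      rw [← ha', map_zero] at this
      exact this.symm)
    refine ⟨(Units.mk0 a ha0)⁻¹, ?_⟩
    have e2 : (q'.out.1).1 σ.y = a⁻¹ • (q.out.1).1 σ.y := by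
      rw [← ha', smul_smul, inv_mul_cancel₀ ha0, one_smul]
    rw [e, e2, map_smul, Units.val_inv_eq_inv_val, Units.val_mk0]
    exact congrArg _ (Alt.inv_apply_self _ _)
  have h1 : (σ.P ⊓ S).index = σ.P.relIndex S * S.index := by
    rw [← Subgroup.inf_relIndex_right, Subgroup.relIndex_mul_index inf_le_right]
  have h2 : (σ.P ⊓ S).index = S.relIndex σ.P * σ.P.index := by
    rw [inf_comm, ← Subgroup.inf_relIndex_right, Subgroup.relIndex_mul_index inf_le_right]
  have h3 : (stabS (B := σ.BW) U').index ≤ S.relIndex σ.P := by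
    rw [σ.relIndex_P']
    have : Finite (Alt.isoGroup σ.BW) := Fr.finite_iso _
    refine le_trans (Subgroup.index_antitone hJ) ?_
    rw [mul_assoc]
    refine Nat.le_mul_of_pos_right _ (Nat.mul_pos ?_ (Nat.mul_pos ?_ ?_))
    · exact Nat.pos_of_ne_zero Subgroup.index_ne_zero_of_finite
    · exact Nat.pos_of_ne_zero AddSubgroup.index_ne_zero_of_finite
    · exact Nat.pos_of_ne_zero AddSubgroup.index_ne_zero_of_finite
  -- enough cosets in the complement
  have hkm : k ≤ m + 1 := by
    have h4 : U ≤ B.orthogonal U := fun x hx z hz => hiso z hz x hx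
    have h5 := Submodule.finrank_mono h4
    rw [LinearMap.BilinForm.finrank_orthogonal hB U, ← hk] at h5
    omega
  have h6 : pts (Nat.card F) k ≤ (stabS (B := σ.BW) U').index := by
    rcases Nat.lt_or_ge 1 m with hm2 | hm2
    · exact (pts_mono _ hkm).trans ((hf hm2).trans (hih σ _ hproper hm2))
    · -- the complement is a plane and U' is a line
      obtain rfl : m = 1 := by omega
      obtain ⟨x, hx, hx0⟩ := U'.exists_mem_ne_zero_of_ne_bot hU'0
      obtain ⟨τ, hτ⟩ := exists_frame σ.hA_W σ.hB_W hx0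
      have hd' : finrank F σ.W = 2 * (0 + 1) := by have := σ.finrank_W; omega
      have hU'line : U' = Submodule.span F {τ.y} := by
        rw [hτ]
        refine (Submodule.eq_of_le_of_finrank_le ((Submodule.span_singleton_le_iff_mem _ _).2 hx) ?_).symm
        rw [finrank_span_singleton hx0]
        have h4 : U' ≤ σ.BW.orthogonal U' := fun a ha z hz => hiso' z hz a ha
        have h5 := Submodule.finrank_mono h4
        rw [LinearMap.BilinForm.finrank_orthogonal σ.hB_W U'] at h5
        omega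
      refine (pts_mono _ hkm).trans (le_trans (le_of_eq (index_P τ 0 hd').symm) ?_)
      have : Finite (Alt.isoGroup σ.BW) := Fr.finite_iso _
      exact Subgroup.index_antitone fun g hg => P_eq_stabS τ hU'line hg
  have h7 : σ.P.index = pts (Nat.card F) (2 * (m + 1)) := index_P σ m hd
  have hk1 : 1 ≤ pts (Nat.card F) k := pts_pos _ (by
    rw [hk]; exact Submodule.one_le_finrank_iff.2 hU)
  have h8 : pts (Nat.card F) (2 * (m + 1)) * pts (Nat.card F) k ≤ pts (Nat.card F) k * S.index :=
    calc pts (Nat.card F) (2 * (m + 1)) * pts (Nat.card F) k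
        ≤ σ.P.index * S.relIndex σ.P := by rw [h7]; exact Nat.mul_le_mul_left _ (h6.trans h3)
      _ = σ.P.relIndex S * S.index := by rw [← h1, h2, mul_comm]
      _ ≤ _ := Nat.mul_le_mul_right _ hSP
  rw [mul_comm _ S.index] at h8
  exact Nat.le_of_mul_le_mul_right h8 hk1

end Cfsg.Agent.MinIndexForm.Sp
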