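import Cfsg.Agent.MinIndexForm.Sp.Blocks
import Mathlib.Algebra.CharP.CharAndCard

/-!
Quadratic refinements of an alternating form over the field with two elements: the square of the sign sum is the
number of vectors, so there are two possible numbers of zeros.
-/

set_option autoImplicit false

namespace Cfsg.Agent.MinIndexForm.Sp

open Cfsg.Agent.Classical Module

universe uF uV
variable {F : Type uF} {V : Type uV} [Field F] [AddCommGroup V] [Module F V]

/-- A map whose polarisation is the given form. -/
def Refines (B : LinearMap.BilinForm F V) (φ : V → F) : Prop := ∀ u v, φ (u + v) = φ u + φ v + B u v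

theorem char_two_of_card (hF : Nat.card F = 2) : CharP F 2 := by
  have : Finite F := Nat.finite_of_card_ne_zero (by omega)
  have : Fintype F := Fintype.ofFinite F
  have : Fact (Nat.Prime 2) := ⟨Nat.prime_two⟩
  exact charP_of_card_eq_prime (by rwa [← Nat.card_eq_fintype_card])

theorem zero_or_one (hF : Nat.card F = 2) (x : F) : x = 0 ∨ x = 1 := by
  obtain ⟨a, b, -, hu⟩ := Nat.card_eq_two_iff.1 hF
  by_contra hc
  push Not at hc
  have h := fun y => (hu.symm ▸ Set.mem_univ y : y ∈ ({a, b} : Set F))
  rcases h 0 with h0 | h0 <;> rcases h 1 with h1 | h1 <;> rcases h x with hx | hx <;>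
    first
      | exact hc.1 (hx.trans h0.symm)
      | exact hc.2 (hx.trans h1.symm)
      | exact zero_ne_one (h0.trans h1.symm)

variable {B : LinearMap.BilinForm F V} {φ : V → F}

theorem refines_zero [CharP F 2] (hA : B.IsAlt) (hφ : Refines B φ) : φ 0 = 0 := by
  have h := hφ 0 0
  rw [add_zero, CharTwo.add_self_eq_zero, zero_add] at h
  rwa [hA 0] at h

theorem symm_two [CharP F 2] (hA : B.IsAlt) (u v : V) : B u v = B v u := by
  rw [Alt.neg' hA v u, CharTwo.neg_eq]

/-- The sign character of the field with two elements. -/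
noncomputable def chi (x : F) : ℤ := by
  classical exact if x = 0 then 1 else -1

theorem chi_zero : chi (0 : F) = 1 := by simp [chi]

theorem chi_one : chi (1 : F) = -1 := by simp [chi]

theorem chi_add (hF : Nat.card F = 2) (a b : F) : chi (a + b) = chi a * chi b := by
  have := char_two_of_card hF
  rcases zero_or_one hF a with rfl | rfl <;> rcases zero_or_one hF b with rfl | rfl <;>
    simp [chi_zero, chi_one, CharTwo.add_self_eq_zero]

theorem chi_mul_self (hF : Nat.card F = 2) (a : F) : chi a * chi a = 1 := by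
  rcases zero_or_one hF a with rfl | rfl <;> simp [chi_zero, chi_one]

/-- The sum of the signs of the values. -/
noncomputable def sgnSum [Fintype V] (φ : V → F) : ℤ := ∑ v, chi (φ v)

variable [Fintype V]

theorem sum_chi_dual (hF : Nat.card F = 2) (hB : B.Nondegenerate) {w : V} (hw : w ≠ 0) :
    ∑ u, chi (B u w) = 0 := by
  obtain ⟨u0, hu0⟩ : ∃ u0, B u0 w ≠ 0 := by
    by_contra h; push Not at h; exact hw (hB.2 w h)
  have h1 : B u0 w = 1 := (zero_or_one hF _).resolve_left hu0
  have e := Equiv.sum_comp (Equiv.addRight u0) fun u => chi (B u w)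
  simp only [Equiv.coe_addRight, map_add, LinearMap.add_apply, chi_add hF, h1, chi_one] at e
  rw [← Finset.sum_mul] at e
  omega

/-- The square of the sign sum. -/
theorem sgnSum_sq (hF : Nat.card F = 2) (hA : B.IsAlt) (hB : B.Nondegenerate) (hφ : Refines B φ) :
    sgnSum φ * sgnSum φ = Fintype.card V := by
  classical
  have := char_two_of_card hF
  calc sgnSum φ * sgnSum φ = ∑ u, ∑ v, chi (φ u) * chi (φ v) := Finset.sum_mul_sum _ _ _ _
    _ = ∑ u, ∑ w, chi (φ w) * chi (B u w) := by
        refine Finset.sum_congr rfl fun u _ => ?_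
        rw [← Equiv.sum_comp (Equiv.addLeft u) fun v => chi (φ u) * chi (φ v)]
        refine Finset.sum_congr rfl fun w _ => ?_
        show chi (φ u) * chi (φ (u + w)) = _
        rw [hφ, chi_add hF, chi_add hF, ← mul_assoc, ← mul_assoc, chi_mul_self hF, one_mul]
    _ = ∑ w, chi (φ w) * ∑ u, chi (B u w) := by
        rw [Finset.sum_comm]; simp only [Finset.mul_sum]
    _ = _ := by
        rw [Finset.sum_eq_single 0 (fun w _ hw => by rw [sum_chi_dual hF hB hw, mul_zero]) (by simp)]
        simp [refines_zero hA hφ, chi_zero]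

theorem sgnSum_eq (φ : V → F) : sgnSum φ = 2 * (Nat.card {v // φ v = 0} : ℤ) - Fintype.card V := by
  classical
  rw [sgnSum, Nat.card_eq_fintype_card, Fintype.card_subtype]
  have e : ∀ v, chi (φ v) = 2 * (if φ v = 0 then 1 else 0) - 1 := fun v => by
    unfold chi; split_ifs <;> ring
  simp only [e, Finset.sum_sub_distrib, ← Finset.mul_sum, Finset.sum_boole]
  simp

/-- Enough zeros. -/
theorem zeros_ge (hF : Nat.card F = 2) (hA : B.IsAlt) (hB : B.Nondegenerate) (hφ : Refines B φ) (m : ℕ)
    (hV : Fintype.card V = 2 ^ (2 * m)) : 2 ^ (2 * m) ≤ 2 * Nat.card {v // φ v = 0} + 2 ^ m := by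
  have h1 := sgnSum_sq hF hA hB hφ
  have h2 := sgnSum_eq φ
  rw [hV] at h1 h2
  push_cast at h1 h2
  rw [pow_mul', pow_two] at h1
  rcases mul_self_eq_mul_self_iff.1 h1 with h | h <;> zify <;> have : (0 : ℤ) ≤ 2 ^ m := (by positivity) <;> linarith

/-- The translate of a refinement by a vector. -/
def twist (B : LinearMap.BilinForm F V) (φ : V → F) (a : V) : V → F := fun x => φ x + B x a

omit [Fintype V] in
theorem twist_refines (hφ : Refines B φ) (a : V) : Refines B (twist B φ a) := fun u v => by
  simp only [twist, hφ u v, map_add, LinearMap.add_apply]; ring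

theorem sgnSum_twist (hF : Nat.card F = 2) (hA : B.IsAlt) (hφ : Refines B φ) (a : V) :
    sgnSum (twist B φ a) = chi (φ a) * sgnSum φ := by
  have := char_two_of_card hF
  rw [sgnSum, sgnSum, Finset.mul_sum, ← Equiv.sum_comp (Equiv.addRight a) fun x => chi (φ a) * chi (φ x)]
  refine Finset.sum_congr rfl fun x _ => ?_
  show chi (φ x + B x a) = chi (φ a) * chi (φ (x + a))
  rw [← chi_add hF, hφ]
  congr 1
  linear_combination -(CharTwo.add_self_eq_zero (φ a))

/-- Some translate has few zeros. -/
theorem exists_minus (hF : Nat.card F = 2) (hA : B.IsAlt) (hB : B.Nondegenerate) (hφ : Refines B φ) (m : ℕ)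
    (hm : 1 ≤ m) (hV : Fintype.card V = 2 ^ (2 * m)) :
    ∃ ψ, Refines B ψ ∧ sgnSum ψ = -2 ^ m := by
  have h1 := sgnSum_sq hF hA hB hφ
  rw [hV] at h1
  push_cast at h1
  rw [pow_mul', pow_two] at h1
  rcases mul_self_eq_mul_self_iff.1 h1 with h | h
  · obtain ⟨a, ha⟩ : ∃ a, φ a = 1 := by
      by_contra hc
      push Not at hc
      have e : sgnSum φ = 2 ^ (2 * m) := by
        rw [sgnSum, Finset.sum_congr rfl fun v _ => show chi (φ v) = 1 by
          rw [(zero_or_one hF _).resolve_right (hc v), chi_zero]]
        simp [hV]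
      rw [h, pow_mul', pow_two] at e
      have hlt : (1 : ℤ) < 2 ^ m := one_lt_pow₀ (by norm_num) (by omega)
      nlinarith
    exact ⟨_, twist_refines hφ a, by rw [sgnSum_twist hF hA hφ, ha, chi_one, h]; ring⟩
  · exact ⟨φ, hφ, h⟩

end Cfsg.Agent.MinIndexForm.Sp
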