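import Cfsg.Agent.MinIndexForm.Sp.EvenMain
import Cfsg.Agent.MinIndexForm.Sp.TwoForms
import Cfsg.Agent.MinIndexForm.Sp.Main

/-!
The minimal index of a proper subgroup of the symplectic groups over the field with two elements.
-/

set_option autoImplicit false

namespace Cfsg.Agent.MinIndexForm.Sp

open Cfsg.Agent.Classical Module

universe uF uV
variable {F : Type uF} {V : Type uV} [Field F] [AddCommGroup V] [Module F V] {B : LinearMap.BilinForm F V}

section Identities

theorem tvE_comm (hA : B.IsAlt) {a b : V} (h : B b a = 0) (c d : F) :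
    Alt.tvE hA a c * Alt.tvE hA b d = Alt.tvE hA b d * Alt.tvE hA a c := by
  have e : (Alt.tvE hA a c).1 b = b := by simp [Alt.tvE_coe, Alt.tv_apply, h]
  have h1 := Alt.conj_tvE hA (Alt.tvE hA a c) b d
  rw [e] at h1
  exact mul_inv_eq_iff_eq_mul.1 h1

theorem tvE_sq (hA : B.IsAlt) [CharP F 2] (a : V) : Alt.tvE hA a (1 : F) * Alt.tvE hA a 1 = 1 := by
  rw [Alt.tvE_add, CharTwo.add_self_eq_zero]
  exact Subtype.ext (LinearEquiv.ext fun x => by simp [Alt.tvE_coe, Alt.tv_apply])

theorem tvE_chain (hA : B.IsAlt) [CharP F 2] {K : Subgroup (Alt.isoGroup B)} {a b c : V}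
    (h1 : Alt.tvE hA a (1 : F) * Alt.tvE hA b 1 ∈ K) (h2 : Alt.tvE hA b (1 : F) * Alt.tvE hA c 1 ∈ K) :
    Alt.tvE hA a (1 : F) * Alt.tvE hA c 1 ∈ K := by
  have h := mul_mem h1 h2
  rwa [mul_assoc, ← mul_assoc (Alt.tvE hA b (1 : F)), tvE_sq, one_mul] at h

/-- A unipotent element as a product with the two transvections over its line. -/
theorem tv_add_eq (σ : Fr B) (v : σ.W) :
    Alt.tvE σ.hA (σ.y + (v : V)) (1 : F) = σ.sh v 1 * Alt.tvE σ.hA (v : V) 1 := by
  refine Subtype.ext (LinearEquiv.ext fun x => ?_)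
  rw [Subgroup.coe_mul, LinearEquiv.mul_apply, Alt.tvE_coe, Alt.tvE_coe, Alt.tv_apply, Alt.tv_apply, σ.sh_apply]
  simp only [one_mul, map_add, map_smul, LinearMap.add_apply, LinearMap.smul_apply, σ.Bwy, σ.hA (v : V),
    smul_zero, add_zero]
  module

theorem sh_one_eq (σ : Fr B) [CharP F 2] (v : σ.W) :
    σ.sh v 1 = Alt.tvE σ.hA (v : V) (1 : F) * Alt.tvE σ.hA (σ.y + (v : V)) 1 := by
  rw [tvE_comm σ.hA (by simp [σ.By, σ.hA (v : V)]), tv_add_eq, mul_assoc, tvE_sq, mul_one]

/-- A vector perpendicular to the point, off its line. -/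
theorem perp_cases (σ : Fr B) (hF : Nat.card F = 2) {b : V} (hb : B b σ.y = 0) (h0 : b ≠ 0) (hy : b ≠ σ.y) :
    ∃ v : σ.W, v ≠ 0 ∧ (b = (v : V) ∨ b = σ.y + (v : V)) := by
  have hd := σ.decomp b
  rw [hb, neg_zero, zero_smul, add_zero] at hd
  refine ⟨σ.pr b, fun e => ?_, ?_⟩
  · rw [e, Submodule.coe_zero, zero_add] at hd
    rcases zero_or_one hF (B b σ.f) with h | h <;> rw [h] at hd
    · exact h0 (by rw [hd, zero_smul])
    · exact hy (by rw [hd, one_smul])
  · rcases zero_or_one hF (B b σ.f) with h | h <;> rw [h] at hd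
    · exact Or.inl (by simpa using hd)
    · exact Or.inr (by rw [one_smul, add_comm] at hd; exact hd)

end Identities

section Full

variable [Finite F] [CharP F 2] [FiniteDimensional F V]

/-- Every point sees the whole vector part. -/
def Full (H : Subgroup (Alt.isoGroup B)) : Prop := ∀ σ : Fr B, σ.Sb H = ⊤

omit [FiniteDimensional F V] in
/-- The pair of transvections on a line extends to all three points. -/
theorem pair_extend (hF : Nat.card F = 2) (hA : B.IsAlt) (hB : B.Nondegenerate) {H : Subgroup (Alt.isoGroup B)}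
    (hfull : Full H) (hex : ∀ a : V, a ≠ 0 → ∃ σ : Fr B, σ.y = a) {a b : V} (ha : a ≠ 0) (hb : b ≠ 0)
    (hne : b ≠ a) (hab : B b a = 0) (h : Alt.tvE hA a (1 : F) * Alt.tvE hA b 1 ∈ H) :
    Alt.tvE hA a (1 : F) * Alt.tvE hA (a + b) 1 ∈ H := by
  obtain ⟨σ, rfl⟩ := hex a ha
  obtain ⟨v, hv, hbv⟩ := perp_cases σ hF hab hb hne
  have hI : Alt.tvE σ.hA_W v (1 : F) ∈ σ.I1 H := by
    refine (σ.mem_I1 H).2 (σ.mem_Im.2 ?_)
    rcases hbv with rfl | rfl
    · refine ⟨0, 1, ?_⟩
      rw [Fr.par, σ.tor_one, one_mul, σ.sh_zero_eq_tv, σ.emb_tv]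
      exact h
    · refine ⟨v, 0, ?_⟩
      rw [Fr.par, σ.tor_one, one_mul, σ.emb_tv]
      rw [tv_add_eq, ← σ.sh_zero_eq_tv, ← mul_assoc, σ.sh_mul, zero_add, Submodule.coe_zero, map_zero,
        add_zero, CharTwo.add_self_eq_zero] at h
      exact h
  have h1 := tv_apply_Sb σ (hfull σ) hI hv 1
  rw [one_mul, one_pow, mul_one, one_smul, sh_one_eq] at h1
  rcases hbv with rfl | rfl
  · exact tvE_chain hA h h1
  · rw [← add_assoc, show σ.y + σ.y = 0 by
      rw [← two_smul F, CharTwo.two_eq_zero, zero_smul], zero_add]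
    refine tvE_chain hA h ?_
    rwa [tvE_comm σ.hA (by simp [σ.By, σ.hA (v : V)])] at h1

/-- Without transvections some point sees a proper vector part. -/
theorem false_of_full_free (hF : Nat.card F = 2) (hA : B.IsAlt) (hB : B.Nondegenerate) (m : ℕ) (hm : 2 ≤ m)
    (hd : finrank F V = 2 * (m + 1)) {H : Subgroup (Alt.isoGroup B)} (hfull : Full H)
    (hfree : ∀ a : V, a ≠ 0 → Alt.tvE hA a (1 : F) ∉ H) : False := by
  have hex : ∀ a : V, a ≠ 0 → ∃ σ : Fr B, σ.y = a := fun a ha => exists_frame hA hB ha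
  have : Nontrivial V := Module.nontrivial_of_finrank_pos (R := F) (by omega)
  obtain ⟨a0, ha0⟩ := exists_ne (0 : V)
  obtain ⟨σ, -⟩ := hex a0 ha0
  have hZ : ∀ c, σ.sh 0 c ∈ H → c = 0 := fun c hc => by
    refine (zero_or_one hF c).resolve_right fun h => hfree σ.y σ.y_ne ?_
    rw [← σ.sh_zero_eq_tv, ← h]; exact hc
  have hS : ∀ u : σ.W, ∃ c, σ.sh u c ∈ H := fun u => (σ.mem_Sb H).1 (by rw [hfull σ]; trivial)
  choose φ hφ using hS
  have huniq : ∀ {u c}, σ.sh u c ∈ H → c = φ u := fun {u c} hc =>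
    sub_eq_zero.1 (hZ _ ((σ.mem_Zp H).1 ((σ.sh_mem_iff H (hφ u)).1 hc)))
  have hmul : ∀ u v : σ.W, φ (u + v) = φ u + φ v + B (v : V) (u : V) := fun u v => by
    have := H.mul_mem (hφ u) (hφ v)
    rw [σ.sh_mul] at this
    exact (huniq this).symm
  -- a vector with value one
  have hW : Nat.card σ.W = 2 ^ (2 * m) := by rw [card_W σ m hd, hF]
  have : Finite V := Module.finite_of_finite F
  have hW16 : 16 ≤ Nat.card σ.W := by
    rw [hW]; exact le_trans (by norm_num) (Nat.pow_le_pow_right (by norm_num) (show 4 ≤ 2 * m by omega))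
  have : Nontrivial σ.W := Finite.one_lt_card_iff_nontrivial.1 (by omega)
  obtain ⟨u, hu1⟩ : ∃ u, φ u = 1 := by
    by_contra hc
    push Not at hc
    obtain ⟨u, hu⟩ := exists_ne (0 : σ.W)
    obtain ⟨v, hv⟩ : ∃ v, σ.BW v u ≠ 0 := by
      by_contra h; push Not at h; exact hu (σ.hB_W.2 u h)
    have h := hmul u v
    rw [(zero_or_one hF _).resolve_right (hc (u + v)), (zero_or_one hF _).resolve_right (hc u),
      (zero_or_one hF _).resolve_right (hc v), zero_add, zero_add] at h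
    exact hv h.symm
  have hu0 : u ≠ 0 := fun h => by
    have h0 : φ 0 = 0 := (huniq (by rw [σ.sh_zero]; exact H.one_mem)).symm
    rw [h, h0] at hu1; exact zero_ne_one hu1
  -- a second one, perpendicular to it
  obtain ⟨v, hv, hv0, hvu⟩ : ∃ v : σ.W, σ.BW v u = 0 ∧ v ≠ 0 ∧ v ≠ u := by
    by_contra hc
    push Not at hc
    let f : σ.W →ₗ[F] F := σ.BW.flip u
    have hker : Nat.card (LinearMap.ker f) ≤ ({0, u} : Set σ.W).ncard := by
      rw [← SetLike.coe_sort_coe, Nat.card_coe_set_eq]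
      exact Set.ncard_le_ncard (fun x hx => by
        rcases eq_or_ne x 0 with h | h
        · exact Or.inl h
        · exact Or.inr (hc x hx h)) (Set.toFinite _)
    have h2 := (Set.ncard_insert_le (0 : σ.W) {u}).trans (by rw [Set.ncard_singleton])
    have h3 := Submodule.card_eq_card_quotient_mul_card (LinearMap.ker f)
    have h4 : Nat.card (σ.W ⧸ LinearMap.ker f) ≤ 2 := by
      rw [← hF, Nat.card_congr f.quotKerEquivRange.toEquiv]
      exact Finite.card_subtype_le _
    nlinarith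
  obtain ⟨u', hu'1, hu'0, hu'ne, hu'perp⟩ : ∃ u' : σ.W, φ u' = 1 ∧ u' ≠ 0 ∧ u' ≠ u ∧ B (u' : V) (u : V) = 0 := by
    rcases zero_or_one hF (φ v) with h | h
    · refine ⟨u + v, ?_, fun e => hvu ?_, fun e => hv0 (by simpa using e), ?_⟩
      · rw [hmul, hu1, h, add_zero, show B (v : V) (u : V) = 0 from hv, add_zero]
      · rw [eq_neg_of_add_eq_zero_right e, ← neg_one_smul F u, CharTwo.neg_eq, one_smul]
      · rw [Submodule.coe_add, map_add, LinearMap.add_apply, σ.hA (u : V), show B (v : V) (u : V) = 0 from hv,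
          add_zero]
    · exact ⟨v, h, hv0, hvu, hv⟩
  have hc0 : ∀ {w : σ.W}, w ≠ 0 → (w : V) ≠ 0 := fun hw h => hw (Subtype.ext h)
  have hdiag : ∀ w : σ.W, w ≠ 0 → φ w = 1 → Alt.tvE hA σ.y (1 : F) * Alt.tvE hA (w : V) 1 ∈ H := by
    intro w hw hw1
    have h := hφ w
    rw [hw1, sh_one_eq] at h
    have e := pair_extend hF hA hB hfull hex (hc0 hw) (b := σ.y + (w : V)) (fun e => hw (by
      have := congrArg σ.pr e
      simpa [map_add, σ.pr_y, σ.pr_W] using this))
      (fun e => σ.y_ne (by simpa using e)) (by simp [σ.By, σ.hA (w : V)]) h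
    rw [show (w : V) + (σ.y + (w : V)) = σ.y by
      rw [add_left_comm, ← two_smul F (w : V), CharTwo.two_eq_zero, zero_smul, add_zero]] at e
    rwa [tvE_comm hA (σ.By w)] at e
  have h1 := hdiag u hu0 hu1
  have h2 := hdiag u' hu'0 hu'1
  have h3 : Alt.tvE hA (u : V) (1 : F) * Alt.tvE hA (u' : V) 1 ∈ H := by
    rw [← tvE_comm hA (σ.By u)] at h1
    exact tvE_chain hA h1 h2
  have h4 := pair_extend hF hA hB hfull hex (hc0 hu0) (hc0 hu'0) (fun e => hu'ne (Subtype.ext e)) hu'perp h3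
  have h5 := tvE_chain hA h1 h4
  have hs0 : u + u' ≠ 0 := fun e => hu'ne (by
    rw [eq_neg_of_add_eq_zero_right e, ← neg_one_smul F u, CharTwo.neg_eq, one_smul])
  rw [← Submodule.coe_add, ← tvE_comm hA (σ.By (u + u'))] at h5
  have h6 := pair_extend hF hA hB hfull hex (hc0 hs0) σ.y_ne
    (fun e => hs0 (by simpa [σ.pr_y, σ.pr_W] using (congrArg σ.pr e).symm)) (σ.By _) h5
  rw [add_comm ((u + u' : σ.W) : V), ← sh_one_eq] at h6
  have h7 := hmul u u'
  rw [hu1, hu'1, CharTwo.add_self_eq_zero, zero_add, hu'perp] at h7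
  exact one_ne_zero ((huniq h6).trans h7)

/-- With a transvection some point sees a proper vector part. -/
theorem false_of_full_root (hF : Nat.card F = 2) (hA : B.IsAlt) (hB : B.Nondegenerate) (m : ℕ) (hm : 1 ≤ m)
    (hd : finrank F V = 2 * (m + 1)) {H : Subgroup (Alt.isoGroup B)} (hfull : Full H) (hH : H ≠ ⊤) {a : V}
    (ha0 : a ≠ 0) (ha : Alt.tvE hA a (1 : F) ∈ H) : False := by
  have hmem : ∀ {x : V}, x ∈ dset hA H ↔ Alt.tvE hA x (1 : F) ∈ H := fun {x} => ⟨fun h => h 1, fun h c => by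
    rcases zero_or_one hF c with rfl | rfl
    · rw [show Alt.tvE hA x (0 : F) = 1 from Subtype.ext (LinearEquiv.ext fun z => by
        simp [Alt.tvE_coe, Alt.tv_apply])]
      exact H.one_mem
    · exact h⟩
  have hD0 : (0 : V) ∈ dset hA H := fun c => by
    rw [show Alt.tvE hA (0 : V) c = 1 from Subtype.ext (LinearEquiv.ext fun z => by
      simp [Alt.tvE_coe, Alt.tv_apply])]
    exact H.one_mem
  -- the whole radical at a centre
  have hQ : ∀ σ : Fr B, σ.y ∈ dset hA H → ∀ u c, σ.sh u c ∈ H := fun σ hy u c => by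
    obtain ⟨c0, h0⟩ := (σ.mem_Sb H).1 (show u ∈ σ.Sb H by rw [hfull σ]; trivial)
    refine (σ.sh_mem_iff H h0).2 ((σ.mem_Zp H).2 ?_)
    rw [σ.sh_zero_eq_tv]; exact hy _
  have hadd : ∀ x ∈ dset hA H, ∀ z ∈ dset hA H, x + z ∈ dset hA H := by
    intro x hx z hz
    rcases zero_or_one hF (B z x) with hp | hp
    · by_cases hz0 : z = 0
      · rwa [hz0, add_zero]
      by_cases hx0 : x = 0
      · rwa [hx0, zero_add]
      by_cases hne : z = x
      · rw [hne, ← two_smul F, CharTwo.two_eq_zero, zero_smul]; exact hD0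
      obtain ⟨σ, rfl⟩ := exists_frame hA hB hx0
      obtain ⟨v, -, hbv⟩ := perp_cases σ hF hp hz0 hne
      have hv := hQ σ hx v 1
      rw [hmem] at hz ⊢
      rw [sh_one_eq] at hv
      rcases hbv with rfl | rfl
      · exact (H.mul_mem_cancel_left hz).1 hv
      · rw [← add_assoc, show σ.y + σ.y = 0 by rw [← two_smul F, CharTwo.two_eq_zero, zero_smul], zero_add]
        exact (H.mul_mem_cancel_right hz).1 hv
    · simpa using dset_plane hA hx hz (by rw [hp]; exact one_ne_zero) 1 1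
  let U : Submodule F V :=
    { carrier := dset hA H
      zero_mem' := hD0
      add_mem' := fun {x z} hx hz => hadd x hx z hz
      smul_mem' := fun c x hx => by
        rcases zero_or_one hF c with rfl | rfl
        · simpa using hD0
        · simpa using hx }
  have hiso : ∀ x ∈ U, ∀ z ∈ U, B x z = 0 := by
    intro x hx z hz
    by_contra hne
    refine hH (Alt.eq_top_of_tvE hA hB H fun w c => ?_)
    suffices w ∈ U from this c
    have hz0 : z ≠ 0 := fun h => hne (by rw [h, map_zero])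
    obtain ⟨σ, rfl⟩ := exists_frame hA hB hz0
    have hxy : B x σ.y = 1 := (zero_or_one hF _).resolve_left hne
    have hperp : ∀ w : V, B w σ.y = 0 → w ∈ U := fun w hw => by
      have h1 : ∀ u : σ.W, (u : V) ∈ U := fun u => by
        have h2 : (σ.sh u (B x (u : V))).1 x ∈ U := dset_map hA (hQ σ hz u _) hx
        rw [σ.sh_apply, hxy, one_smul, mul_one, CharTwo.add_self_eq_zero, zero_smul, add_zero] at h2
        simpa using U.sub_mem h2 hx
      rw [σ.decomp w, hw, neg_zero, zero_smul, add_zero]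
      exact U.add_mem (h1 _) (U.smul_mem _ hz)
    rw [show w = (w - B w σ.y • x) + B w σ.y • x by abel]
    exact U.add_mem (hperp _ (by rw [map_sub, map_smul, LinearMap.sub_apply, LinearMap.smul_apply, hxy, smul_eq_mul,
      mul_one, sub_self])) (U.smul_mem _ hx)
  obtain ⟨y0, hy0⟩ : ∃ y0, B a y0 ≠ 0 := by
    by_contra h; push Not at h; exact ha0 (hB.1 a h)
  obtain ⟨τ, rfl⟩ := exists_frame hA hB (show y0 ≠ 0 from fun h => hy0 (by rw [h, map_zero]))
  have hay : B a τ.y = 1 := (zero_or_one hF _).resolve_left hy0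
  have haU : a ∈ U := hmem.2 ha
  have hvec : ∀ u : τ.W, ∃ r : F, (u : V) + r • τ.y ∈ U := fun u => by
    obtain ⟨c, hc⟩ := (τ.mem_Sb H).1 (show u ∈ τ.Sb H by rw [hfull τ]; trivial)
    have h2 : (τ.sh u c).1 a ∈ U := dset_map hA hc haU
    rw [τ.sh_apply, hay, one_smul] at h2
    exact ⟨_, by simpa [add_assoc] using U.sub_mem h2 haU⟩
  have : Nontrivial τ.W := Module.nontrivial_of_finrank_pos (R := F) (by have := τ.finrank_W; omega)
  obtain ⟨u, hu⟩ := exists_ne (0 : τ.W)
  refine hu (τ.hB_W.1 u fun u' => ?_)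
  obtain ⟨r, hr⟩ := hvec u
  obtain ⟨r', hr'⟩ := hvec u'
  have h := hiso _ hr _ hr'
  simpa [τ.By, τ.Bwy, τ.hA τ.y, Fr.BW_apply] using h

end Full

section Bound

variable [Finite F] [FiniteDimensional F V]

/-- The Levi part preserves the values on a full vector part, so every zero gives a coset. -/
theorem k_ge_zeros (hF : Nat.card F = 2) (σ : Fr B) {K : Subgroup (Alt.isoGroup B)} (hZ : σ.Zp K ≠ ⊤)
    (hS : σ.Sb K = ⊤) (m : ℕ) (hd : finrank F V = 2 * (m + 1)) :
    2 ^ (2 * m) ≤ 2 * (σ.I1 K).index + 2 ^ m := by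
  have := char_two_of_card hF
  have : Finite V := Module.finite_of_finite F
  have : Finite (Alt.isoGroup σ.BW) := Fr.finite_iso _
  have : Fintype σ.W := Fintype.ofFinite _
  have hu : ∀ c, c ∈ σ.Zp K → c = 0 := fun c hc => by
    refine (zero_or_one hF c).resolve_right fun h => hZ (eq_top_iff.2 fun x _ => ?_)
    rcases zero_or_one hF x with rfl | rfl
    · exact zero_mem _
    · exact h ▸ hc
  have hS' : ∀ u : σ.W, ∃ c, σ.sh u c ∈ K := fun u => (σ.mem_Sb K).1 (by rw [hS]; trivial)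
  choose φ hφ using hS'
  have huniq : ∀ {u c}, σ.sh u c ∈ K → c = φ u := fun {u c} hc => sub_eq_zero.1 (hu _ ((σ.sh_mem_iff K (hφ u)).1 hc))
  have hR : Refines σ.BW φ := fun u v => by
    have := K.mul_mem (hφ u) (hφ v)
    rw [σ.sh_mul] at this
    rw [symm_two σ.hA_W u v]
    exact (huniq this).symm
  have hpres : ∀ l ∈ σ.I1 K, ∀ w, φ (l.1 w) = φ w := fun l hl w => by
    obtain ⟨u, c, hp⟩ := σ.mem_Im.1 ((σ.mem_I1 K).1 hl)
    have h := mul_mem (mul_mem hp (hφ w)) (inv_mem hp)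
    rw [σ.par_conj_sh, CharTwo.two_eq_zero (R := F), zero_mul, add_zero, Units.val_one, one_smul, one_pow, one_mul] at h
    exact (huniq h).symm
  refine le_trans (zeros_ge hF σ.hA_W σ.hB_W hR m (by rw [← Nat.card_eq_fintype_card, card_W σ m hd, hF])) ?_
  refine Nat.add_le_add_right (Nat.mul_le_mul_left _ ?_) _
  rw [Subgroup.index]
  refine Nat.card_le_card_of_injective (fun v : {v // φ v = 0} =>
    ((Alt.tvE σ.hA_W v.1 (1 : F) : Alt.isoGroup σ.BW) : Alt.isoGroup σ.BW ⧸ σ.I1 K)) fun v v' h => Subtype.ext ?_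
  have h1 : (Alt.tvE σ.hA_W v.1 (1 : F))⁻¹ = Alt.tvE σ.hA_W v.1 1 := inv_eq_of_mul_eq_one_right (tvE_sq σ.hA_W _)
  have hmem := QuotientGroup.eq.1 h
  rw [h1] at hmem
  have hval : ∀ (v : {v // φ v = 0}) (x : σ.W), φ ((Alt.tvE σ.hA_W v.1 (1 : F)).1 x) = φ x + σ.BW x v.1 := by
    intro v x
    rw [Alt.tvE_coe, Alt.tv_apply, one_mul]
    rcases zero_or_one hF (σ.BW x v.1) with h | h <;> rw [h]
    · rw [zero_smul, add_zero, add_zero]
    · rw [one_smul, hR, v.2, add_zero, h]
  have key : ∀ x, σ.BW x v.1 = σ.BW x v'.1 := fun x => by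
    set x' := (Alt.tvE σ.hA_W v'.1 (1 : F)).1 x with hx'
    have e : x = (Alt.tvE σ.hA_W v'.1 (1 : F)).1 x' := by
      rw [hx', ← LinearEquiv.mul_apply, ← Subgroup.coe_mul, tvE_sq]; rfl
    have h2 := hpres _ hmem x'
    rw [Subgroup.coe_mul, LinearEquiv.mul_apply, ← e, hval, hx', hval] at h2
    exact add_left_cancel h2
  exact sub_eq_zero.1 (σ.hB_W.2 _ fun x => by rw [map_sub, key x, sub_self])

/-- The minimal index in characteristic two with two scalars. -/
theorem min_index_two (hF : Nat.card F = 2) (hA : B.IsAlt) (hB : B.Nondegenerate) (m : ℕ) (hm : 2 ≤ m)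
    (hd : finrank F V = 2 * (m + 1)) {H : Subgroup (Alt.isoGroup B)} (hH : H ≠ ⊤) :
    2 ^ m * (2 ^ (m + 1) - 1) ≤ H.index := by
  have := char_two_of_card hF
  have : Finite V := Module.finite_of_finite F
  have : Finite (Alt.isoGroup B) := Fr.finite_iso B
  have hM : 2 ^ m * (2 ^ (m + 1) - 1) + 2 ^ m = 2 * 2 ^ (2 * m) := by
    rw [Nat.mul_sub, mul_one, Nat.sub_add_cancel (Nat.le_mul_of_pos_right _ (Nat.two_pow_pos _)), ← pow_add,
      ← pow_succ']
    ring
  -- the orbit at a moved point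
  have horb : ∀ (σ : Fr B) (h : Alt.isoGroup B), σ.Zp (conjS h H) ≠ ⊤ →
      2 * (σ.I1 (conjS h H)).index * (σ.Sb (conjS h H)).index ≤ (conjS h H).relIndex σ.P := fun σ h hZ => by
    have hz : 2 ≤ (σ.Zp (conjS h H)).index := by
      have h1 := mt AddSubgroup.index_eq_one.1 hZ
      have : (σ.Zp (conjS h H)).index ≠ 0 := AddSubgroup.index_ne_zero_of_finite
      omega
    have : Finite (Alt.isoGroup σ.BW) := Fr.finite_iso _
    have ht : 1 ≤ (σ.T2 (conjS h H)).index := Nat.pos_of_ne_zero Subgroup.index_ne_zero_of_finite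
    rw [σ.relIndex_P]
    calc 2 * (σ.I1 (conjS h H)).index * (σ.Sb (conjS h H)).index
        ≤ (σ.Zp (conjS h H)).index * ((σ.I1 (conjS h H)).index * (σ.T2 (conjS h H)).index) *
          (σ.Sb (conjS h H)).index :=
          Nat.mul_le_mul_right _ (Nat.mul_le_mul hz (Nat.le_mul_of_pos_right _ ht))
      _ = _ := by ring
  have hprop : ∀ (σ : Fr B) (K : Subgroup (Alt.isoGroup B)), σ.Sb K ≠ ⊤ →
      2 ^ (2 * m) ≤ (σ.I1 K).index * (σ.Sb K).index := fun σ K hS => by
    have : Finite (Alt.isoGroup σ.BW) := Fr.finite_iso _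
    have h := count_ann σ K hS
    rw [card_W σ m hd, hF] at h
    have hk : 1 ≤ (σ.I1 K).index := Nat.pos_of_ne_zero Subgroup.index_ne_zero_of_finite
    have hw : 1 ≤ (σ.Sb K).index := Nat.pos_of_ne_zero AddSubgroup.index_ne_zero_of_finite
    obtain ⟨w, hw'⟩ : ∃ w, (σ.Sb K).index = w + 1 := ⟨_, (Nat.sub_add_cancel hw).symm⟩
    rw [hw', Nat.add_sub_cancel] at h
    rw [hw', mul_add, mul_one]
    have := Nat.two_pow_pos (2 * m)
    omega
  obtain ⟨σ, hS⟩ : ∃ σ : Fr B, σ.Sb H ≠ ⊤ := by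
    by_contra hc
    push Not at hc
    by_cases hfree : ∀ a : V, a ≠ 0 → Alt.tvE hA a (1 : F) ∉ H
    · exact false_of_full_free hF hA hB m hm hd hc hfree
    · push Not at hfree
      obtain ⟨a, ha0, ha⟩ := hfree
      exact false_of_full_root hF hA hB m (by omega) hd hc hH ha0 ha
  have h1 : conjS 1 H = H := Subgroup.ext fun x => by simp [mem_conjS]
  have := Nat.two_pow_pos m
  by_cases hZ : σ.Zp H = ⊤
  swap
  · have h := horb σ 1 (by rwa [h1])
    rw [h1, mul_assoc] at h
    have h2 := σ.relIndex_P_le H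
    have := hprop σ H hS
    omega
  obtain ⟨g, hg⟩ := exists_moved σ hH
  have ho := horb σ g hg
  by_cases hS' : σ.Sb (conjS g H) = ⊤
  swap
  · have h2 := relIndex_le_index σ g H
    have := hprop σ (conjS g H) hS'
    rw [mul_assoc] at ho
    omega
  rw [hS', AddSubgroup.index_top, mul_one] at ho
  have hk := k_ge_zeros hF σ hg hS' m hd
  have hsum : H.relIndex σ.P + (conjS g H).relIndex σ.P ≤ H.index := by
    refine orbit_sum_of_not σ H fun x hx k hk e => hg (eq_top_iff.2 fun c _ => ?_)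
    obtain ⟨a, hxa⟩ := hx
    have hxy : x.1 σ.y = σ.y := by
      rcases zero_or_one hF (a : F) with h | h
      · exact absurd h a.ne_zero
      · rw [hxa, h, one_smul]
    have hcH : σ.sh 0 c ∈ H := (σ.mem_Zp H).1 (by rw [hZ]; trivial)
    rw [σ.mem_Zp, mem_conjS, e, mul_inv_rev]
    have hx' : x⁻¹ * σ.sh 0 c * x = σ.sh 0 c := by
      have h2 := Alt.conj_tvE σ.hA x σ.y c
      rw [hxy, mul_inv_eq_iff_eq_mul] at h2
      rw [σ.sh_zero_eq_tv, mul_assoc, ← h2, inv_mul_cancel_left]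
    rw [show k⁻¹ * x⁻¹ * σ.sh 0 c * (x * k) = k⁻¹ * (x⁻¹ * σ.sh 0 c * x) * k by simp only [mul_assoc], hx']
    exact mul_mem (mul_mem (inv_mem hk) hcH) hk
  have hfix : (σ.I1 H).index * (σ.Sb H).index ≤ H.relIndex σ.P := by
    have : Finite (Alt.isoGroup σ.BW) := Fr.finite_iso _
    have ht : 1 ≤ (σ.T2 H).index := Nat.pos_of_ne_zero Subgroup.index_ne_zero_of_finite
    rw [σ.relIndex_P, hZ, AddSubgroup.index_top, mul_one]
    exact Nat.mul_le_mul_right _ (Nat.le_mul_of_pos_right _ ht)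
  have := hprop σ H hS
  omega

/-- The stabiliser of a refinement of minus type. -/
theorem exists_index_two (hF : Nat.card F = 2) (hA : B.IsAlt) (hB : B.Nondegenerate) (m : ℕ) (hm : 2 ≤ m)
    (hd : finrank F V = 2 * (m + 1)) {φ0 : V → F} (hφ0 : Refines B φ0) :
    ∃ K : Subgroup (Alt.isoGroup B), K.index = 2 ^ m * (2 ^ (m + 1) - 1) := by
  have := char_two_of_card hF
  have : Finite V := Module.finite_of_finite F
  have : Finite (Alt.isoGroup B) := Fr.finite_iso B
  have : Fintype V := Fintype.ofFinite V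
  have hV : Fintype.card V = 2 ^ (2 * (m + 1)) := by
    rw [← Nat.card_eq_fintype_card, Module.natCard_eq_pow_finrank (K := F), hF, hd]
  obtain ⟨φ, hφ, hs⟩ := exists_minus hF hA hB hφ0 (m + 1) (by omega) hV
  let K : Subgroup (Alt.isoGroup B) :=
    { carrier := {g | ∀ x, φ (g.1 x) = φ x}
      one_mem' := fun x => rfl
      mul_mem' := fun {g h} hg hh x => (hg (h.1 x)).trans (hh x)
      inv_mem' := fun {g} hg x => by
        have h := hg ((g⁻¹).1 x)
        rwa [show g.1 ((g⁻¹).1 x) = x from Alt.apply_inv_self g.1 x, eq_comm] at h }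
  have hz : Nat.card {v // φ v = 0} = 2 ^ m * (2 ^ (m + 1) - 1) := by
    have h := sgnSum_eq φ
    rw [hs, hV] at h
    have e : 2 * (2 ^ m * (2 ^ (m + 1) - 1)) + 2 ^ (m + 1) = 2 ^ (2 * (m + 1)) := by
      rw [← mul_assoc, ← pow_succ', Nat.mul_sub, mul_one,
        Nat.sub_add_cancel (Nat.le_mul_of_pos_right _ (Nat.two_pow_pos _)), ← pow_add, two_mul]
    zify at h e ⊢
    push_cast at h
    omega
  refine ⟨K, le_antisymm ?_ (min_index_two hF hA hB m hm hd fun htop => ?_)⟩
  · rw [← hz, Subgroup.index]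
    -- the difference with the transform is given by a vector
    have hdiff : ∀ g : Alt.isoGroup B, ∃ a, ∀ x, φ (g.1 x) = φ x + B x a := fun g => by
      let f : V →ₗ[F] F :=
        { toFun := fun x => φ (g.1 x) + φ x
          map_add' := fun x z => by
            rw [map_add, hφ, hφ, g.2]
            linear_combination CharTwo.add_self_eq_zero (B x z)
          map_smul' := fun c x => by
            rcases zero_or_one hF c with rfl | rfl
            · simp [refines_zero hA hφ, CharTwo.add_self_eq_zero]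
            · simp }
      refine ⟨(LinearMap.BilinForm.toDual B hB).symm f, fun x => ?_⟩
      rw [symm_two hA x, LinearMap.BilinForm.apply_toDual_symm_apply]
      show _ = φ x + (φ (g.1 x) + φ x)
      linear_combination -CharTwo.add_self_eq_zero (φ x)
    choose a ha using hdiff
    have hzero : ∀ g, φ (a g) = 0 := fun g => by
      have h := sgnSum_twist hF hA hφ (a g)
      have e : sgnSum (twist B φ (a g)) = sgnSum φ := by
        rw [sgnSum, sgnSum, ← Equiv.sum_comp g.1.toEquiv fun x => chi (φ x)]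
        exact Finset.sum_congr rfl fun x _ => congrArg chi (ha g x).symm
      rw [e, hs] at h
      rcases zero_or_one hF (φ (a g)) with h' | h'
      · exact h'
      · rw [h', chi_one] at h
        have : (0 : ℤ) < 2 ^ (m + 1) := by positivity
        linarith
    refine Nat.card_le_card_of_injective (fun q => (⟨a (q.out)⁻¹, hzero _⟩ : {v // φ v = 0})) fun q q' h => ?_
    have h' : a (q.out)⁻¹ = a (q'.out)⁻¹ := congrArg Subtype.val h
    rw [← q.out_eq, ← q'.out_eq]
    refine QuotientGroup.eq.2 fun x => ?_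
    have e1 := ha (q.out)⁻¹ (q'.out.1 x)
    have e2 := ha (q'.out)⁻¹ (q'.out.1 x)
    rw [show ((q'.out)⁻¹).1 (q'.out.1 x) = x from Alt.inv_apply_self q'.out.1 x] at e2
    rw [Subgroup.coe_mul, LinearEquiv.mul_apply, e1, h', ← e2]
  · have hpos : 2 ≤ Nat.card {v // φ v = 0} := by
      rw [hz]
      have h4 : 4 ≤ 2 ^ m := le_trans (by norm_num) (Nat.pow_le_pow_right (by norm_num) hm)
      have h1 : 1 ≤ 2 ^ (m + 1) - 1 := by have := Nat.pow_le_pow_right (show 1 ≤ 2 by norm_num) (show 1 ≤ m + 1 by omega); omega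
      nlinarith
    have : Nontrivial {v // φ v = 0} := Finite.one_lt_card_iff_nontrivial.1 hpos
    obtain ⟨⟨v, hv⟩, hne⟩ := exists_ne (⟨0, refines_zero hA hφ⟩ : {v // φ v = 0})
    have hv0 : v ≠ 0 := fun h => hne (Subtype.ext h)
    refine hv0 (hB.2 v fun x => ?_)
    have h : Alt.tvE hA v (1 : F) ∈ K := by rw [htop]; trivial
    have h2 := h x
    rcases zero_or_one hF (B x v) with e | e
    · exact e
    · rw [Alt.tvE_coe, Alt.tv_apply, one_mul, e, one_smul, hφ, hv, e, add_zero] at h2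
      exact absurd (add_eq_left.1 h2) one_ne_zero

end Bound

end Cfsg.Agent.MinIndexForm.Sp
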